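import Mathlib
import Cfsg.Agent.H64.JzDefs
import Cfsg.Agent.Helper55.ThJ
import Cfsg.Agent.Helper55.J48

/-!
# S2953 (JY-KILL2, case (a)): a largest elementary abelian subgroup of `T` outside `O₂(K ⊔ T)`

For a `J(T)`-component `K` of `T`: `J(T) ⊄ O₂(K ⊔ T)` (else `K = [K, J(T)]` would be a 2-group),
so some elementary abelian `A ≤ T` of largest order has an element `a ∉ O₂(K ⊔ T)`.
-/

set_option autoImplicit false
open Cfsg

namespace Cfsg.Agent.H8.Jy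

universe u

theorem comm_of_sq {G : Type u} [Group G] {x y : G} (hx : x * x = 1) (hy : y * y = 1)
    (hxy : (x * y) * (x * y) = 1) : x * y = y * x := by
  have h1 : x⁻¹ = x := inv_eq_of_mul_eq_one_left hx
  have h2 : y⁻¹ = y := inv_eq_of_mul_eq_one_left hy
  have h3 : (x * y)⁻¹ = x * y := inv_eq_of_mul_eq_one_left hxy
  rw [mul_inv_rev, h1, h2] at h3
  exact h3.symm

/-- a subgroup of exponent 2 is elementary abelian -/
theorem elemAb_of_sq {G : Type u} [Group G] (B : Subgroup G) (hB : ∀ x ∈ B, x * x = 1) :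
    IsElementaryAbelian 2 B := by
  refine ⟨⟨⟨?_⟩⟩, fun b hb => by rw [pow_two]; exact hB b hb⟩
  rintro ⟨x, hx⟩ ⟨y, hy⟩
  apply Subtype.ext
  exact comm_of_sq (hB x hx) (hB y hy) (hB _ (mul_mem hx hy))

/-- `J(T) ⊄ O₂(K ⊔ T)` for a `J(T)`-component `K`. -/
theorem J_not_le_core {G : Type u} [Group G] [Finite G] (T K : Subgroup G)
    (hJ : IsJComponent T K) : ¬ thompsonSubgroupOf 2 T ≤ pCoreOf 2 (K ⊔ T) := by
  obtain ⟨hgen, hcomm, hrel3, -, -, -⟩ := hJ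
  have hX : IsPGroup 2 ↥(pCoreOf 2 (K ⊔ T)) := by
    have : Fact (Nat.Prime 2) := ⟨Nat.prime_two⟩
    exact (Cfsg.Agent.Helper55.isPGroup_pCore 2 ↥(K ⊔ T)).map (K ⊔ T).subtype
  have hKN : K ≤ Subgroup.normalizer (pCoreOf 2 (K ⊔ T) : Set G) :=
    le_sup_left.trans (Cfsg.Agent.Helper55.J48.le_normalizer_pCoreOf (K ⊔ T))
  intro hJX
  have hKX : K ≤ pCoreOf 2 (K ⊔ T) := by
    have hKc : ⁅K, thompsonSubgroupOf 2 T⁆ ≤ pCoreOf 2 (K ⊔ T) := by
      rw [Subgroup.commutator_le]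
      intro k hk j hj
      have h1 : k * j * k⁻¹ ∈ pCoreOf 2 (K ⊔ T) :=
        (Subgroup.mem_normalizer_iff.mp (hKN hk) j).mp (hJX hj)
      rw [commutatorElement_def]
      exact mul_mem h1 (inv_mem (hJX hj))
    rw [hcomm] at hKc
    exact hKc
  have hKbot : K = ⊥ := by
    rw [← hgen, Subgroup.closure_eq_bot_iff]
    rintro g ⟨hgK, hodd⟩
    obtain ⟨n, hn⟩ := hX ⟨g, hKX hgK⟩
    have hn' : g ^ 2 ^ n = 1 := congrArg Subtype.val hn
    have hdvd : orderOf g ∣ 2 ^ n := orderOf_dvd_of_pow_eq_one hn'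
    have hcop : Nat.Coprime (orderOf g) (2 ^ n) :=
      Nat.Coprime.pow_right n (Nat.coprime_two_right.mpr hodd)
    have h1 : orderOf g = 1 := Nat.Coprime.eq_one_of_dvd hcop hdvd
    exact orderOf_eq_one_iff.mp h1
  rw [hKbot, Subgroup.relIndex_bot_right] at hrel3
  omega

/-- The `A`, `a` of the count (helper82's `caseA`, helper8's `countKill`), from a `J(T)`-component. -/
theorem exA_of {G : Type u} [Group G] [Finite G] (T K : Subgroup G) (hJ : IsJComponent T K) :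
    ∃ (A : Subgroup G) (a : G), A ≤ T ∧ IsElementaryAbelian 2 A ∧ (∀ x ∈ A, x * x = 1) ∧
      (∀ B : Subgroup G, B ≤ T → (∀ x ∈ B, x * x = 1) → Nat.card ↥B ≤ Nat.card ↥A) ∧
      (∀ B : Subgroup G, B ≤ T → IsElementaryAbelian 2 B → Nat.card ↥B ≤ Nat.card ↥A) ∧
      a ∈ A ∧ a ∉ pCoreOf 2 (K ⊔ T) := by
  have hnot := J_not_le_core T K hJ
  rw [Cfsg.Agent.Helper55.ThJ.J_spec] at hnot
  have hex : ∃ A ∈ Cfsg.Agent.Helper55.ThJ.gens T, ¬ A ≤ pCoreOf 2 (K ⊔ T) := by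
    by_contra hcon
    apply hnot
    apply sSup_le
    intro A hA
    by_contra hAn
    exact hcon ⟨A, hA, hAn⟩
  obtain ⟨A, ⟨hAT, hAe, hAc⟩, hAQ⟩ := hex
  obtain ⟨a, haA, haQ⟩ := SetLike.not_le_iff_exists.mp hAQ
  have hmaxE : ∀ B : Subgroup G, B ≤ T → IsElementaryAbelian 2 B →
      Nat.card ↥B ≤ Nat.card ↥A := by
    intro B hBT hB
    rw [hAc]
    exact Cfsg.Agent.Helper55.ThJ.card_le_a T hBT hB
  refine ⟨A, a, hAT, hAe, ?_, ?_, hmaxE, haA, haQ⟩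
  · intro x hx
    have h := hAe.2 x hx
    rwa [pow_two] at h
  · intro B hBT hB2
    exact hmaxE B hBT (elemAb_of_sq B hB2)

/-- The same for a configuration `Base S M T K L`. -/
theorem exA {G : Type u} [Group G] [Finite G] (S : Sylow 2 G) (M T K L : Subgroup G)
    (hB : Cfsg.Agent.H64.Jz.Base S M T K L) :
    ∃ (A : Subgroup G) (a : G), A ≤ T ∧ IsElementaryAbelian 2 A ∧ (∀ x ∈ A, x * x = 1) ∧
      (∀ B : Subgroup G, B ≤ T → (∀ x ∈ B, x * x = 1) → Nat.card ↥B ≤ Nat.card ↥A) ∧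
      (∀ B : Subgroup G, B ≤ T → IsElementaryAbelian 2 B → Nat.card ↥B ≤ Nat.card ↥A) ∧
      a ∈ A ∧ a ∉ pCoreOf 2 (K ⊔ T) :=
  exA_of T K hB.2.2.2.2.2.2.1.1.1

end Cfsg.Agent.H8.Jy
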