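import Mathlib
import Cfsg.Prelude.Def_Sporadic_a

set_option autoImplicit false

namespace Cfsg.Agent.H8

open Cfsg Finset

variable {α : Type*} [DecidableEq α]

theorem card_powersetCard_filter_superset (J b : Finset α) (hJb : J ⊆ b) (t : ℕ)
    (hjt : J.card ≤ t) :
    ((powersetCard t b).filter (fun s => J ⊆ s)).card =
      Nat.choose (b.card - J.card) (t - J.card) := by
  rw [← card_sdiff_of_subset hJb, ← card_powersetCard]
  apply card_nbij' (fun s => s \ J) (fun u => u ∪ J)
  · intro s hs
    rw [mem_coe, mem_filter, mem_powersetCard] at hs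
    rw [mem_coe, mem_powersetCard]
    obtain ⟨⟨h1, h2⟩, h3⟩ := hs
    refine ⟨sdiff_subset_sdiff h1 (Subset.refl J), ?_⟩
    rw [card_sdiff_of_subset h3, h2]
  · intro u hu
    rw [mem_coe, mem_powersetCard] at hu
    rw [mem_coe, mem_filter, mem_powersetCard]
    obtain ⟨h1, h2⟩ := hu
    have hd : Disjoint u J := disjoint_of_subset_left h1 sdiff_disjoint
    refine ⟨⟨union_subset (h1.trans sdiff_subset) hJb, ?_⟩, subset_union_right⟩
    rw [card_union_of_disjoint hd, h2]
    omega
  · intro s hs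
    rw [mem_coe, mem_filter, mem_powersetCard] at hs
    exact sdiff_union_of_subset hs.2
  · intro u hu
    rw [mem_coe, mem_powersetCard] at hu
    have hd : Disjoint u J := disjoint_of_subset_left hu.1 sdiff_disjoint
    exact union_sdiff_cancel_right hd

variable [Fintype α]

/-- the blocks through `J`, as a finset -/
noncomputable def blocksThrough (B : Set (Finset α)) (J : Finset α) : Finset (Finset α) :=
  by classical exact univ.filter (fun b => b ∈ B ∧ J ⊆ b)

theorem mem_blocksThrough {B : Set (Finset α)} {J b : Finset α} :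
    b ∈ blocksThrough B J ↔ b ∈ B ∧ J ⊆ b := by
  classical
  simp [blocksThrough]

theorem steiner_lambda_finset {t k : ℕ} {B : Set (Finset α)} (hB : IsSteinerSystem t k B)
    (J : Finset α) (hJ : J.card ≤ t) :
    (blocksThrough B J).card * Nat.choose (k - J.card) (t - J.card) =
      Nat.choose (Fintype.card α - J.card) (t - J.card) := by
  classical
  have h1 := card_powersetCard_filter_superset J (univ : Finset α) (subset_univ J) t hJ
  rw [card_univ] at h1
  rw [← h1]
  have h2 : (powersetCard t (univ : Finset α)).filter (fun s => J ⊆ s) =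
      (blocksThrough B J).biUnion (fun b => (powersetCard t b).filter (fun s => J ⊆ s)) := by
    ext s
    simp only [mem_filter, mem_powersetCard, mem_biUnion, mem_blocksThrough]
    constructor
    · rintro ⟨⟨-, hs⟩, hJs⟩
      obtain ⟨b, ⟨hb1, hb2⟩, -⟩ := hB.2 s hs
      exact ⟨b, ⟨hb1, hJs.trans hb2⟩, ⟨hb2, hs⟩, hJs⟩
    · rintro ⟨b, -, ⟨-, hs⟩, hJs⟩
      exact ⟨⟨subset_univ s, hs⟩, hJs⟩
  rw [h2, card_biUnion]
  · rw [← smul_eq_mul, ← sum_const]
    apply sum_congr rfl
    intro b hb
    rw [mem_blocksThrough] at hb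
    rw [card_powersetCard_filter_superset J b hb.2 t hJ, hB.1 b hb.1]
  · intro b hb b' hb' hne
    rw [mem_coe, mem_blocksThrough] at hb hb'
    rw [Function.onFun, disjoint_left]
    intro s hs hs'
    simp only [mem_filter, mem_powersetCard] at hs hs'
    apply hne
    obtain ⟨c, -, hc⟩ := hB.2 s hs.1.2
    rw [hc b ⟨hb.1, hs.1.1⟩, hc b' ⟨hb'.1, hs'.1.1⟩]

theorem steiner_card {t k : ℕ} {B : Set (Finset α)} (hB : IsSteinerSystem t k B) :
    B.ncard * Nat.choose k t = Nat.choose (Fintype.card α) t := by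
  classical
  have h := steiner_lambda_finset hB ∅ (by simp)
  simp only [card_empty, Nat.sub_zero] at h
  rw [← h]
  congr 1
  rw [← Set.ncard_coe_finset]
  congr 1
  ext b
  simp [mem_blocksThrough]

omit [Fintype α] in
theorem steiner_derived {t k : ℕ} {B : Set (Finset α)}
    (hB : IsSteinerSystem (t + 1) (k + 1) B) (p : α) :
    IsSteinerSystem t k {b' : Finset {a : α // a ≠ p} |
      ∃ b ∈ B, p ∈ b ∧ b' = Finset.subtype (fun a => a ≠ p) b} := by
  classical
  constructor
  · rintro b' ⟨b, hb, hpb, rfl⟩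
    rw [card_subtype, filter_ne' b p, card_erase_of_mem hpb, hB.1 b hb]
    simp
  · intro s hs
    set s₀ : Finset α := insert p (s.map (Function.Embedding.subtype _)) with hs₀
    have hp : p ∉ s.map (Function.Embedding.subtype (fun a => a ≠ p)) := by
      simp
    have hcard : s₀.card = t + 1 := by
      rw [hs₀, card_insert_of_notMem hp, card_map, hs]
    obtain ⟨b, ⟨hb1, hb2⟩, hb3⟩ := hB.2 s₀ hcard
    have hpb : p ∈ b := hb2 (mem_insert_self _ _)
    refine ⟨Finset.subtype (fun a => a ≠ p) b, ⟨⟨b, hb1, hpb, rfl⟩, ?_⟩, ?_⟩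
    · intro x hx
      rw [mem_subtype]
      apply hb2
      rw [hs₀, mem_insert]
      right
      rw [mem_map]
      exact ⟨x, hx, rfl⟩
    · rintro c' ⟨⟨c, hc, hpc, rfl⟩, hsc⟩
      have : c = b := by
        apply hb3 c ⟨hc, ?_⟩
        intro x hx
        rw [hs₀, mem_insert] at hx
        rcases hx with rfl | hx
        · exact hpc
        · rw [mem_map] at hx
          obtain ⟨y, hy, rfl⟩ := hx
          have := hsc hy
          rwa [mem_subtype] at this
      rw [this]

end Cfsg.Agent.H8

namespace Cfsg.Agent.H8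

open Cfsg Finset

variable {α : Type*} [DecidableEq α] [Fintype α]

theorem sum_choose_inter {t k : ℕ} {B : Set (Finset α)} (hB : IsSteinerSystem t k B)
    {b : Finset α} (hb : b ∈ B) (j : ℕ) (hj : j ≤ t) :
    (∑ c ∈ blocksThrough B ∅, Nat.choose (b ∩ c).card j) * Nat.choose (k - j) (t - j) =
      Nat.choose k j * Nat.choose (Fintype.card α - j) (t - j) := by
  classical
  have h1 : ∀ c : Finset α, Nat.choose (b ∩ c).card j =
      ∑ J ∈ powersetCard j b, if J ⊆ c then 1 else 0 := by
    intro c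
    rw [← card_powersetCard, ← card_filter]
    congr 1
    ext J
    simp only [mem_powersetCard, mem_filter, subset_inter_iff]
    tauto
  have h2 : ∑ c ∈ blocksThrough B ∅, Nat.choose (b ∩ c).card j =
      ∑ J ∈ powersetCard j b, (blocksThrough B J).card := by
    simp_rw [h1]
    rw [sum_comm]
    apply sum_congr rfl
    intro J _
    rw [← card_filter]
    congr 1
    ext c
    simp only [mem_filter, mem_blocksThrough, empty_subset, and_true]
  rw [h2, sum_mul]
  have h3 : ∀ J ∈ powersetCard j b, (blocksThrough B J).card * Nat.choose (k - j) (t - j) =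
      Nat.choose (Fintype.card α - j) (t - j) := by
    intro J hJ
    rw [mem_powersetCard] at hJ
    have := steiner_lambda_finset hB J (by rw [hJ.2]; exact hj)
    rw [hJ.2] at this
    exact this
  rw [sum_congr rfl h3, sum_const, card_powersetCard, hB.1 b hb, smul_eq_mul]

omit [Fintype α] in
theorem inter_card_le_of_ne {t k : ℕ} {B : Set (Finset α)} (hB : IsSteinerSystem t k B)
    {b c : Finset α} (hb : b ∈ B) (hc : c ∈ B) (hbc : b ≠ c) : (b ∩ c).card < t := by
  by_contra h
  push Not at h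
  obtain ⟨s, hs1, hs2⟩ := exists_subset_card_eq h
  obtain ⟨d, -, hd⟩ := hB.2 s hs2
  apply hbc
  rw [hd b ⟨hb, hs1.trans inter_subset_left⟩, hd c ⟨hc, hs1.trans inter_subset_right⟩]

theorem steiner_5_8_24_inter (hα : Fintype.card α = 24) {B : Set (Finset α)}
    (hB : IsSteinerSystem 5 8 B) {b c : Finset α} (hb : b ∈ B) (hc : c ∈ B) (hbc : b ≠ c) :
    (b ∩ c).card = 0 ∨ (b ∩ c).card = 2 ∨ (b ∩ c).card = 4 := by
  classical
  have e1 := sum_choose_inter hB hb 1 (by norm_num)
  have e2 := sum_choose_inter hB hb 2 (by norm_num)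
  have e3 := sum_choose_inter hB hb 3 (by norm_num)
  have e4 := sum_choose_inter hB hb 4 (by norm_num)
  rw [hα] at e1 e2 e3 e4
  have hbmem : b ∈ blocksThrough B ∅ := mem_blocksThrough.2 ⟨hb, empty_subset _⟩
  have hbb : (b ∩ b).card = 8 := by rw [inter_self]; exact hB.1 b hb
  rw [← add_sum_erase _ _ hbmem, hbb] at e1 e2 e3 e4
  have c1 : Nat.choose 8 1 = 8 := by decide
  have c2 : Nat.choose 8 2 = 28 := by decide
  have c3 : Nat.choose 8 3 = 56 := by decide
  have c4 : Nat.choose 8 4 = 70 := by decide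
  have d1 : Nat.choose (8 - 1) (5 - 1) = 35 := by decide
  have d2 : Nat.choose (8 - 2) (5 - 2) = 20 := by decide
  have d3 : Nat.choose (8 - 3) (5 - 3) = 10 := by decide
  have d4 : Nat.choose (8 - 4) (5 - 4) = 4 := by decide
  have f1 : Nat.choose (24 - 1) (5 - 1) = 8855 := by decide
  have f2 : Nat.choose (24 - 2) (5 - 2) = 1540 := by decide
  have f3 : Nat.choose (24 - 3) (5 - 3) = 210 := by decide
  have f4 : Nat.choose (24 - 4) (5 - 4) = 20 := by decide
  rw [c1, d1, f1] at e1
  rw [c2, d2, f2] at e2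
  rw [c3, d3, f3] at e3
  rw [c4, d4, f4] at e4
  have g1 : ∑ x ∈ (blocksThrough B ∅).erase b, Nat.choose (b ∩ x).card 1 = 2016 := by omega
  have g2 : ∑ x ∈ (blocksThrough B ∅).erase b, Nat.choose (b ∩ x).card 2 = 2128 := by omega
  have g3 : ∑ x ∈ (blocksThrough B ∅).erase b, Nat.choose (b ∩ x).card 3 = 1120 := by omega
  have g4 : ∑ x ∈ (blocksThrough B ∅).erase b, Nat.choose (b ∩ x).card 4 = 280 := by omega
  have hsum : ∑ x ∈ (blocksThrough B ∅).erase b,
      (6 * Nat.choose (b ∩ x).card 2 + 24 * Nat.choose (b ∩ x).card 4) =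
      ∑ x ∈ (blocksThrough B ∅).erase b,
      (3 * Nat.choose (b ∩ x).card 1 + 12 * Nat.choose (b ∩ x).card 3) := by
    rw [sum_add_distrib, sum_add_distrib, ← mul_sum, ← mul_sum, ← mul_sum, ← mul_sum,
      g1, g2, g3, g4]
    norm_num
  have hle : ∀ x ∈ (blocksThrough B ∅).erase b,
      6 * Nat.choose (b ∩ x).card 2 + 24 * Nat.choose (b ∩ x).card 4 ≤
      3 * Nat.choose (b ∩ x).card 1 + 12 * Nat.choose (b ∩ x).card 3 := by
    intro x hx
    rw [mem_erase, mem_blocksThrough] at hx
    have hlt := inter_card_le_of_ne hB hb hx.2.1 (Ne.symm hx.1)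
    interval_cases (b ∩ x).card <;> decide
  have hall := (sum_eq_sum_iff_of_le hle).1 hsum c
    (mem_erase.2 ⟨Ne.symm hbc, mem_blocksThrough.2 ⟨hc, empty_subset _⟩⟩)
  have hlt := inter_card_le_of_ne hB hb hc hbc
  revert hall
  interval_cases (b ∩ c).card <;> decide

end Cfsg.Agent.H8
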