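import Cfsg.Agent.H26.AIC.L2

set_option autoImplicit false
set_option linter.style.haveILetI false
set_option linter.unusedSectionVars false
set_option linter.unusedVariables false

/-! S2202 piece TIA (layer 3): `Dg (NT P) g ∩ MT P = 1` under the TI hypothesis. -/

namespace Cfsg.Agent.H8.AIC

open Subgroup Cfsg.Agent.H26 Cfsg.Agent.H26.AIC

variable {G : Type*} [Group G] [Finite G]

/-- `MT P` is normalized by `NT P`. -/
theorem MT_conj_mem (P : Sylow 2 G) {h m : G} (hh : h ∈ NT P) (hm : m ∈ MT P) :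
    h * m * h⁻¹ ∈ MT P := by
  have h1 : h • P = P := (smul_syl_eq_iff h P).mpr hh
  have h2 : h * m * h⁻¹ ∈ MT (h • P) := by
    rw [mem_MT_smul]
    have : h⁻¹ * (h * m * h⁻¹) * h = m := by group
    rw [this]
    exact hm
  rwa [h1] at h2

/-- an element of odd order dividing a power of two is trivial -/
theorem eq_one_of_odd_of_two_pow {z : G} {n k : ℕ} (hn : Odd n) (h1 : z ^ n = 1)
    (h2 : z ^ 2 ^ k = 1) : z = 1 := by
  have d1 := orderOf_dvd_of_pow_eq_one h1
  have d2 := orderOf_dvd_of_pow_eq_one h2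
  have hodd : Odd (orderOf z) := Odd.of_dvd_nat hn d1
  have hcop : Nat.Coprime (orderOf z) (2 ^ k) :=
    Nat.Coprime.pow_right k (Nat.coprime_two_right.mpr hodd)
  exact orderOf_eq_one_iff.mp (Nat.Coprime.eq_one_of_dvd hcop d2)

/-- an involution `s` conjugating `d` to `x'`, where `d` and `x'` commute, centralizes
`d * x'` -/
theorem inv_comm_mul {s d x' : G} (hs : s * s = 1) (h : s * d * s⁻¹ = x')
    (hc : d * x' = x' * d) : (d * x') * s = s * (d * x') := by
  have hsinv : s⁻¹ = s := inv_eq_of_mul_eq_one_left hs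
  have h2 : s * x' * s⁻¹ = d := by
    rw [← h]
    have : s * (s * d * s⁻¹) * s⁻¹ = (s * s) * d * (s * s)⁻¹ := by group
    rw [this, hs]
    group
  have h3 : s * (d * x') = (s * d * s⁻¹) * (s * x' * s⁻¹) * s := by group
  rw [h3, h, h2, hc]

theorem ti_Dg_inter (hH : Hyp G) (hTI : TIHyp G) (P : Sylow 2 G) (hP : Good P) {g d : G}
    (hg : g ∉ NT P) (hd : d ∈ Dg (NT P) g) (hdM : d ∈ MT P) : d = 1 := by
  by_contra hd1
  obtain ⟨t, ht, htN, htg⟩ := exists_inv_coset hH P hP hg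
  have hDeq : Dg (NT P) g = Dg (NT P) t := (Dg_congr (NT P) htg).symm
  rw [hDeq] at hd
  have ht2 : t * t = 1 := by
    have := pow_orderOf_eq_one t
    rwa [ht, pow_two] at this
  have htinv : t⁻¹ = t := inv_eq_of_mul_eq_one_left ht2
  have hDN : ∀ y ∈ Dg (NT P) t, y ∈ NT P := fun y hy => ((mem_Dg _ _ _).mp hy).1
  have hP' : t • P ≠ P := fun h => htN ((smul_syl_eq_iff t P).mp h)
  have hDodd : Odd (Nat.card (Dg (NT P) t)) := Dg_odd hH P hP htN
  have hdN' : d ∈ NT (t • P) := by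
    rw [mem_NT_smul]
    exact ((mem_Dg _ _ _).mp hd).2
  -- elements of `D ∩ MT P'` commute with `d`
  have hcomm : ∀ x' : G, x' ∈ Dg (NT P) t → x' ∈ MT (t • P) → d * x' = x' * d := by
    intro x' hx'D hx'M
    have hc1 : d * x' * d⁻¹ * x'⁻¹ ∈ MT P := by
      have : d * x' * d⁻¹ * x'⁻¹ = d * (x' * d⁻¹ * x'⁻¹) := by group
      rw [this]
      exact (MT P).mul_mem hdM (MT_conj_mem P (hDN _ hx'D) ((MT P).inv_mem hdM))
    have hc2 : d * x' * d⁻¹ * x'⁻¹ ∈ MT (t • P) :=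
      (MT (t • P)).mul_mem (MT_conj_mem (t • P) hdN' hx'M) ((MT (t • P)).inv_mem hx'M)
    have hc := hTI P (t • P) (Ne.symm hP') _ hc1 hc2
    have : d * x' = (d * x' * d⁻¹ * x'⁻¹) * (x' * d) := by group
    rw [this, hc, one_mul]
  -- facts about the elements of `JSet P t`
  have hJ : ∀ e : G, e ∈ JSet P t →
      e ∈ Dg (NT P) t ∧ (t * e) * (t * e) = 1 ∧ orderOf (t * e) = 2 ∧
      t * e * d * (t * e)⁻¹ ∈ Dg (NT P) t ∧ t * e * d * (t * e)⁻¹ ∈ MT (t • P) ∧
      t * e * d * (t * e)⁻¹ ≠ 1 := by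
    intro e he
    have heD : e ∈ Dg (NT P) t := J_sub_Dg P ht he
    have hsq : (t * e) * (t * e) = 1 := by
      calc t * e * (t * e) = (t * e * t⁻¹) * (t * t) * e := by group
        _ = e⁻¹ * 1 * e := by rw [he.2, ht2]
        _ = 1 := by group
    have hne : t * e ≠ 1 := by
      intro h
      apply htN
      have : t = e⁻¹ := eq_inv_of_mul_eq_one_left h
      rw [this]
      exact (NT P).inv_mem he.1
    have hord : orderOf (t * e) = 2 := by
      apply orderOf_eq_prime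
      · rw [pow_two]
        exact hsq
      · exact hne
    have hform : t * e * d * (t * e)⁻¹ = t * (e * d * e⁻¹) * t⁻¹ := by group
    have h1 : e * d * e⁻¹ ∈ Dg (NT P) t :=
      (Dg (NT P) t).mul_mem ((Dg (NT P) t).mul_mem heD hd) ((Dg (NT P) t).inv_mem heD)
    have h2 : e * d * e⁻¹ ∈ MT P := MT_conj_mem P he.1 hdM
    refine ⟨heD, hsq, hord, ?_, ?_, ?_⟩
    · rw [hform]
      exact Dg_conj_mem (NT P) ht h1
    · rw [hform, mem_MT_smul]
      have : t⁻¹ * (t * (e * d * e⁻¹) * t⁻¹) * t = e * d * e⁻¹ := by group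
      rw [this]
      exact h2
    · intro h
      apply hd1
      have : d = (t * e)⁻¹ * (t * e * d * (t * e)⁻¹) * (t * e) := by group
      rw [this, h]
      group
  -- the map `ψ` is injective on `JSet P t`
  have hψinj : ∀ e e' : G, e ∈ JSet P t → e' ∈ JSet P t →
      t * e * d * (t * e)⁻¹ = t * e' * d * (t * e')⁻¹ → e = e' := by
    intro e e' he he' heq
    obtain ⟨heD, hsq, hord, hxD, hxM, hx1⟩ := hJ e he
    obtain ⟨heD', hsq', hord', -, -, -⟩ := hJ e' he'
    obtain ⟨x', hx'⟩ : ∃ x', x' = t * e * d * (t * e)⁻¹ := ⟨_, rfl⟩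
    rw [← hx'] at hxD hxM hx1
    have hc := hcomm x' hxD hxM
    have hy1 : d * x' ≠ 1 := by
      intro h
      apply hx1
      have h1 : x' = d⁻¹ := eq_inv_of_mul_eq_one_right h
      have h2 : x' ∈ MT P := by
        rw [h1]
        exact (MT P).inv_mem hdM
      exact hTI P (t • P) (Ne.symm hP') x' h2 hxM
    have hcy : (d * x') * (t * e) = (t * e) * (d * x') := inv_comm_mul hsq hx'.symm hc
    have hcy' : (d * x') * (t * e') = (t * e') * (d * x') :=
      inv_comm_mul hsq' (hx'.trans heq).symm hc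
    obtain ⟨R, hR⟩ := exists_syl_of_inv hord
    obtain ⟨R', hR'⟩ := exists_syl_of_inv hord'
    have hyR : d * x' ∈ MT R := (mem_MT_iff hH R hord hR _).mpr hcy
    have hyR' : d * x' ∈ MT R' := (mem_MT_iff hH R' hord' hR' _).mpr hcy'
    have hRR : R = R' := by
      by_contra hne
      exact hy1 (hTI R R' hne _ hyR hyR')
    rw [← hRR] at hR'
    have hz : e⁻¹ * e' ∈ (R : Subgroup G) := by
      have : e⁻¹ * e' = (t * e)⁻¹ * (t * e') := by group
      rw [this]
      exact (R : Subgroup G).mul_mem ((R : Subgroup G).inv_mem hR) hR'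
    have hzD : e⁻¹ * e' ∈ Dg (NT P) t := (Dg (NT P) t).mul_mem ((Dg (NT P) t).inv_mem heD) heD'
    obtain ⟨k, hk⟩ := R.isPGroup' ⟨e⁻¹ * e', hz⟩
    have hk' : (e⁻¹ * e') ^ 2 ^ k = 1 := by
      have := congrArg Subtype.val hk
      simpa using this
    have hn : (e⁻¹ * e') ^ Nat.card (Dg (NT P) t) = 1 := by
      have h0 : (⟨e⁻¹ * e', hzD⟩ : Dg (NT P) t) ^ Nat.card (Dg (NT P) t) = 1 :=
        pow_card_eq_one'
      have h0' := congrArg Subtype.val h0
      rw [Subgroup.coe_pow, Subgroup.coe_one] at h0'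
      exact h0'
    have h1 := eq_one_of_odd_of_two_pow hDodd hn hk'
    exact inv_mul_eq_one.mp h1
  -- the map `φ`
  have hex : ∀ k : G, k ∈ Dg (NT P) t → ∃ e, e ∈ JSet P t ∧ e⁻¹ * k ∈ MT P := by
    intro k hk
    obtain ⟨e, he, hek⟩ := J_surj hH P hP ht htN (hDN _ hk)
    exact ⟨e, he, hek⟩
  let K' : Subgroup G := Dg (NT P) t ⊓ MT (t • P)
  have hex' : ∀ k : K', ∃ e, e ∈ JSet P t ∧ e⁻¹ * k.1 ∈ MT P := fun k => hex k.1 k.2.1
  choose φ hφJ hφM using hex'
  let F : K' → K' := fun k =>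
    ⟨t * φ k * d * (t * φ k)⁻¹, (hJ _ (hφJ k)).2.2.2.1, (hJ _ (hφJ k)).2.2.2.2.1⟩
  have hFinj : Function.Injective F := by
    intro k k' h
    have h1 : t * φ k * d * (t * φ k)⁻¹ = t * φ k' * d * (t * φ k')⁻¹ := congrArg Subtype.val h
    have h2 : φ k = φ k' := hψinj _ _ (hφJ k) (hφJ k') h1
    have h3 : k.1⁻¹ * k'.1 ∈ MT P := by
      have : k.1⁻¹ * k'.1 = ((φ k)⁻¹ * k.1)⁻¹ * ((φ k')⁻¹ * k'.1) := by
        rw [h2]
        group
      rw [this]
      exact (MT P).mul_mem ((MT P).inv_mem (hφM k)) (hφM k')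
    have h4 : k.1⁻¹ * k'.1 ∈ MT (t • P) :=
      (MT (t • P)).mul_mem ((MT (t • P)).inv_mem k.2.2) k'.2.2
    have h5 := hTI P (t • P) (Ne.symm hP') _ h3 h4
    exact Subtype.ext (inv_mul_eq_one.mp h5)
  have hFsurj : Function.Surjective F := Finite.surjective_of_injective hFinj
  obtain ⟨k, hk⟩ := hFsurj 1
  have h1 : t * φ k * d * (t * φ k)⁻¹ = 1 := congrArg Subtype.val hk
  exact (hJ _ (hφJ k)).2.2.2.2.2 h1

end Cfsg.Agent.H8.AIC
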