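import Cfsg.Agent.H26.AIC.L4
import Cfsg.Agent.H8.AIC_TIA

set_option autoImplicit false
set_option linter.style.haveILetI false
set_option linter.unusedSectionVars false
set_option linter.unusedVariables false

/-! S2202 piece TIC (layer 5): `ti_cent_free`, `ti_fix`. -/

namespace Cfsg.Agent.H8.AIC

open Subgroup Cfsg.Agent.H26 Cfsg.Agent.H26.AIC

variable {G : Type*} [Group G] [Finite G]

/-- no involution of a Sylow 2-subgroup `R` inverts an element `d ≠ 1` of odd order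
normalizing `R` -/
theorem no_inv_of_NT (R : Sylow 2 G) {s d : G} {n : ℕ} (hn : Odd n) (hdn : d ^ n = 1)
    (hd1 : d ≠ 1) (hs2 : s * s = 1) (hsR : s ∈ (R : Subgroup G)) (hdR : d ∈ NT R)
    (hinv : s * d * s⁻¹ = d⁻¹) : False := by
  have h1 : d * s * d⁻¹ ∈ (R : Subgroup G) := (mem_normalizer_iff.mp hdR s).mp hsR
  have h2 : s * (d * s * d⁻¹) ∈ (R : Subgroup G) := (R : Subgroup G).mul_mem hsR h1
  have h3 : s * (d * s * d⁻¹) = d⁻¹ * d⁻¹ := by
    calc s * (d * s * d⁻¹) = (s * d * s⁻¹) * (s * s) * d⁻¹ := by group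
      _ = d⁻¹ * d⁻¹ := by rw [hinv, hs2, mul_one]
  rw [h3] at h2
  obtain ⟨k, hk⟩ := R.isPGroup' ⟨d⁻¹ * d⁻¹, h2⟩
  have hk' : (d⁻¹ * d⁻¹) ^ 2 ^ k = 1 := by
    have h0 := congrArg Subtype.val hk
    rw [Subgroup.coe_pow, Subgroup.coe_one] at h0
    exact h0
  have hn' : (d⁻¹ * d⁻¹) ^ n = 1 := by
    have h0 : d⁻¹ * d⁻¹ = (d⁻¹) ^ 2 := (pow_two _).symm
    rw [h0, ← pow_mul, mul_comm, pow_mul, inv_pow, hdn, inv_one, one_pow]
  have h4 : d⁻¹ * d⁻¹ = 1 := eq_one_of_odd_of_two_pow hn hn' hk'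
  have h5 : d ^ 2 ^ 1 = 1 := by
    rw [pow_one, pow_two]
    have h0 : (d * d)⁻¹ = 1 := by
      rw [mul_inv_rev]
      exact h4
    exact inv_eq_one.mp h0
  exact hd1 (eq_one_of_odd_of_two_pow hn hdn h5)

theorem sq_of_order_two {t : G} (ht : orderOf t = 2) : t * t = 1 := by
  have := pow_orderOf_eq_one t
  rwa [ht, pow_two] at this

section ctx

variable (hH : Hyp G) (hTI : TIHyp G) (P : Sylow 2 G) (hP : Good P) {t d : G}
  (ht : orderOf t = 2) (htN : t ∉ NT P) (hd : d ∈ Dg (NT P) t) (hd1 : d ≠ 1)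
include hH hTI hP ht htN hd hd1

theorem ctx_odd : ∃ n, Odd n ∧ d ^ n = 1 := by
  refine ⟨Nat.card (Dg (NT P) t), Dg_odd hH P hP htN, ?_⟩
  have h0 : (⟨d, hd⟩ : Dg (NT P) t) ^ Nat.card (Dg (NT P) t) = 1 := pow_card_eq_one'
  have h0' := congrArg Subtype.val h0
  rw [Subgroup.coe_pow, Subgroup.coe_one] at h0'
  exact h0'

theorem ctx_a {x : G} (hxd : x * d = d * x) (hxt : x * t = t * x) : x = 1 := by
  by_contra hx1
  obtain ⟨n, hn, hdn⟩ := ctx_odd hH hTI P hP ht htN hd hd1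
  obtain ⟨R, hR⟩ := exists_syl_of_inv ht
  have hxR : x ∈ MT R := (mem_MT_iff hH R ht hR x).mpr hxt
  have hxR' : x ∈ MT (d • R) := by
    rw [mem_MT_smul]
    have h0 : d⁻¹ * x * d = x := by
      rw [mul_assoc, hxd, ← mul_assoc, inv_mul_cancel, one_mul]
    rw [h0]
    exact hxR
  have hdR : d ∈ NT R := by
    rw [← smul_syl_eq_iff]
    by_contra hne
    exact hx1 (hTI (d • R) R hne x hxR' hxR)
  exact no_inv_of_NT R hn hdn hd1 (sq_of_order_two ht) hR hdR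
    (ti_Dg_inverted hH hTI P hP ht htN hd)

theorem ctx_b {c : G} (hcd : c * d = d * c) : t * c * t⁻¹ = c⁻¹ := by
  have hinv := ti_Dg_inverted hH hTI P hP ht htN hd
  have ht2 := sq_of_order_two ht
  have htinv : t⁻¹ = t := inv_eq_of_mul_eq_one_left ht2
  have h1 : t⁻¹ * d * t = d⁻¹ := by
    calc t⁻¹ * d * t = t * d * t⁻¹ := by rw [htinv]
      _ = d⁻¹ := hinv
  have hmemC : ∀ x, x ∈ Subgroup.centralizer ({d} : Set G) ↔ x * d = d * x := fun x =>
    mem_centralizer_singleton_iff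
  have hconj : ∀ x, x ∈ Subgroup.centralizer ({d} : Set G) →
      t * x * t⁻¹ ∈ Subgroup.centralizer ({d} : Set G) := by
    intro x hx
    rw [hmemC] at hx ⊢
    have hx' : x * d⁻¹ = d⁻¹ * x := ((show Commute x d from hx).inv_right).eq
    calc t * x * t⁻¹ * d = t * (x * (t⁻¹ * d * t)) * t⁻¹ := by group
      _ = t * (x * d⁻¹) * t⁻¹ := by rw [h1]
      _ = t * (d⁻¹ * x) * t⁻¹ := by rw [hx']
      _ = (t * d * t⁻¹)⁻¹ * (t * x * t⁻¹) := by group
      _ = d * (t * x * t⁻¹) := by rw [hinv, inv_inv]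
  let F : Subgroup.centralizer ({d} : Set G) → Subgroup.centralizer ({d} : Set G) := fun x =>
    ⟨x.1⁻¹ * (t * x.1 * t⁻¹), Subgroup.mul_mem _ (Subgroup.inv_mem _ x.2) (hconj _ x.2)⟩
  have hFinj : Function.Injective F := by
    intro x z h
    have h0 : x.1⁻¹ * (t * x.1 * t⁻¹) = z.1⁻¹ * (t * z.1 * t⁻¹) := congrArg Subtype.val h
    have hw : (z.1 * x.1⁻¹) * t = t * (z.1 * x.1⁻¹) := by
      have e1 : z.1 * x.1⁻¹ = (t * z.1 * t⁻¹) * (t * x.1 * t⁻¹)⁻¹ := by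
        have e2 : z.1 * (x.1⁻¹ * (t * x.1 * t⁻¹)) = t * z.1 * t⁻¹ := by
          rw [h0]
          group
        calc z.1 * x.1⁻¹ = z.1 * (x.1⁻¹ * (t * x.1 * t⁻¹)) * (t * x.1 * t⁻¹)⁻¹ := by group
          _ = (t * z.1 * t⁻¹) * (t * x.1 * t⁻¹)⁻¹ := by rw [e2]
      have e3 : (t * z.1 * t⁻¹) * (t * x.1 * t⁻¹)⁻¹ = t * (z.1 * x.1⁻¹) * t⁻¹ := by group
      rw [e3] at e1
      calc z.1 * x.1⁻¹ * t = (t * (z.1 * x.1⁻¹) * t⁻¹) * t := by rw [← e1]
        _ = t * (z.1 * x.1⁻¹) := by group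
    have hwd : (z.1 * x.1⁻¹) * d = d * (z.1 * x.1⁻¹) :=
      (hmemC _).mp (Subgroup.mul_mem _ z.2 (Subgroup.inv_mem _ x.2))
    have h2 := ctx_a hH hTI P hP ht htN hd hd1 hwd hw
    apply Subtype.ext
    exact (mul_inv_eq_one.mp h2).symm
  have hFsurj : Function.Surjective F := Finite.surjective_of_injective hFinj
  obtain ⟨x, hx⟩ := hFsurj ⟨c, (hmemC c).mpr hcd⟩
  have hc : c = x.1⁻¹ * (t * x.1 * t⁻¹) := (congrArg Subtype.val hx).symm
  rw [hc]
  calc t * (x.1⁻¹ * (t * x.1 * t⁻¹)) * t⁻¹ = (t * x.1 * t⁻¹)⁻¹ * ((t * t) * x.1 * (t * t)⁻¹) := by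
        group
    _ = (x.1⁻¹ * (t * x.1 * t⁻¹))⁻¹ := by
        rw [ht2]
        group

theorem ctx_d1 {g1 : G} (hg1 : g1 ∉ NT P) (hdg : d ∈ NT (g1 • P)) :
    ∃ x, x * d = d * x ∧ x • (t • P) = g1 • P := by
  obtain ⟨t1, ht1, ht1N, ht1g⟩ := exists_inv_coset hH P hP hg1
  have ht2 := sq_of_order_two ht
  have hPeq : g1 • P = t1 • P := by
    have h := (smul_syl_eq_iff (t1⁻¹ * g1) P).mpr ht1g
    have h0 : g1 • P = t1 • ((t1⁻¹ * g1) • P) := by
      rw [smul_smul]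
      congr 1
      group
    rw [h0, h]
  have hdD1 : d ∈ Dg (NT P) t1 := by
    rw [mem_Dg]
    refine ⟨((mem_Dg _ _ _).mp hd).1, ?_⟩
    rw [hPeq, mem_NT_smul] at hdg
    exact hdg
  have hinv1 := ti_Dg_inverted hH hTI P hP ht1 ht1N hdD1
  have hinv := ti_Dg_inverted hH hTI P hP ht htN hd
  refine ⟨t1 * t, ?_, ?_⟩
  · have e1 : t * d = d⁻¹ * t := by
      calc t * d = (t * d * t⁻¹) * t := by group
        _ = d⁻¹ * t := by rw [hinv]
    have e2 : t1 * d⁻¹ = d * t1 := by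
      calc t1 * d⁻¹ = (t1 * d * t1⁻¹)⁻¹ * t1 := by group
        _ = d * t1 := by rw [hinv1, inv_inv]
    calc t1 * t * d = t1 * (t * d) := by group
      _ = t1 * (d⁻¹ * t) := by rw [e1]
      _ = (t1 * d⁻¹) * t := by group
      _ = d * t1 * t := by rw [e2]
      _ = d * (t1 * t) := by group
  · rw [hPeq, smul_smul, mul_assoc, ht2, mul_one]

theorem ctx_e {x : G} (hxd : x * d = d * x) : x • (t • P) ≠ P := by
  intro h
  have hinvx := ctx_b hH hTI P hP ht htN hd hd1 hxd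
  have hinv := ti_Dg_inverted hH hTI P hP ht htN hd
  have ht2 := sq_of_order_two ht
  obtain ⟨n, hn, hdn⟩ := ctx_odd hH hTI P hP ht htN hd hd1
  have h1 : (t * x) • (t • P) = t • P := by rw [mul_smul, h]
  have h2 : t * x ∈ NT (t • P) := (smul_syl_eq_iff _ _).mp h1
  have hsq : (t * x) * (t * x) = 1 := by
    calc t * x * (t * x) = (t * x * t⁻¹) * (t * t) * x := by group
      _ = 1 := by
        rw [hinvx, ht2]
        group
  have hne : t * x ≠ 1 := by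
    intro h3
    have hx : x = t⁻¹ := eq_inv_of_mul_eq_one_right h3
    rw [hx] at hxd
    have h4 : t * d * t⁻¹ = d := by
      calc t * d * t⁻¹ = t * (d * t⁻¹) := by group
        _ = t * (t⁻¹ * d) := by rw [hxd]
        _ = d := by group
    rw [hinv] at h4
    have h5 : d ^ 2 ^ 1 = 1 := by
      rw [pow_one, pow_two]
      calc d * d = d⁻¹ * d := by rw [h4]
        _ = 1 := by group
    exact hd1 (eq_one_of_odd_of_two_pow hn hdn h5)
  have hord : orderOf (t * x) = 2 := by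
    apply orderOf_eq_prime
    · rw [pow_two]
      exact hsq
    · exact hne
  have hmem : t * x ∈ ((t • P : Sylow 2 G) : Subgroup G) := inv_NT_mem (t • P) hord h2
  have hdN' : d ∈ NT (t • P) := by
    rw [mem_NT_smul]
    exact ((mem_Dg _ _ _).mp hd).2
  have hinv' : (t * x) * d * (t * x)⁻¹ = d⁻¹ := by
    calc t * x * d * (t * x)⁻¹ = t * (x * d) * x⁻¹ * t⁻¹ := by group
      _ = t * (d * x) * x⁻¹ * t⁻¹ := by rw [hxd]
      _ = t * d * t⁻¹ := by group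
      _ = d⁻¹ := hinv
  exact no_inv_of_NT (t • P) hn hdn hd1 hsq hmem hdN' hinv'

end ctx

theorem ti_cent_free (hH : Hyp G) (hTI : TIHyp G) (P : Sylow 2 G) (hP : Good P) {g d m : G}
    (hg : g ∉ NT P) (hd : d ∈ Dg (NT P) g) (hd1 : d ≠ 1) (hm : m ∈ MT P) (hc : m * d = d * m) :
    m = 1 := by
  obtain ⟨t, ht, htN, htg⟩ := exists_inv_coset hH P hP hg
  have hDeq : Dg (NT P) g = Dg (NT P) t := (Dg_congr (NT P) htg).symm
  rw [hDeq] at hd
  have hinvm := ctx_b hH hTI P hP ht htN hd hd1 hc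
  have hmm : m * m = 1 := no_invert hH P hm ht hinvm
  have hminv : m⁻¹ = m := inv_eq_of_mul_eq_one_left hmm
  rw [hminv] at hinvm
  have hmt : m * t = t * m := by
    calc m * t = (t * m * t⁻¹) * t := by rw [hinvm]
      _ = t * m := by group
  exact ctx_a hH hTI P hP ht htN hd hd1 hc hmt

theorem ti_fix (hH : Hyp G) (hTI : TIHyp G) (P : Sylow 2 G) (hP : Good P) {g g' d : G}
    (hg : g ∉ NT P) (hd : d ∈ Dg (NT P) g) (hd1 : d ≠ 1) (hfix : g'⁻¹ * d * g' ∈ NT P) :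
    g' ∈ NT P ∨ g⁻¹ * g' ∈ NT P := by
  by_contra hcon
  rw [not_or] at hcon
  obtain ⟨hg'N, hgg'⟩ := hcon
  obtain ⟨t, ht, htN, htg⟩ := exists_inv_coset hH P hP hg
  have hDeq : Dg (NT P) g = Dg (NT P) t := (Dg_congr (NT P) htg).symm
  rw [hDeq] at hd
  have ht2 := sq_of_order_two ht
  have htinv : t⁻¹ = t := inv_eq_of_mul_eq_one_left ht2
  have hPg : g • P = t • P := by
    have h := (smul_syl_eq_iff (t⁻¹ * g) P).mpr htg
    have h0 : g • P = t • ((t⁻¹ * g) • P) := by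
      rw [smul_smul]
      congr 1
      group
    rw [h0, h]
  have hdR : d ∈ NT (g' • P) := (mem_NT_smul g' P d).mpr hfix
  obtain ⟨x, hxd, hx⟩ := ctx_d1 hH hTI P hP ht htN hd hd1 hg'N hdR
  have hP' : Good (t • P) := good_smul hP t
  have htN' : t ∉ NT (t • P) := by
    rw [mem_NT_smul]
    intro h
    apply htN
    have h0 : t⁻¹ * t * t = t := by group
    rwa [h0] at h
  have hd0 := (mem_Dg _ _ _).mp hd
  have hd' : d ∈ Dg (NT (t • P)) t := by
    rw [mem_Dg, mem_NT_smul, mem_NT_smul]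
    refine ⟨hd0.2, ?_⟩
    have h0 : t⁻¹ * (t⁻¹ * d * t) * t = d := by
      rw [htinv]
      calc t * (t * d * t) * t = (t * t) * d * (t * t) := by group
        _ = d := by rw [ht2, one_mul, mul_one]
    rw [h0]
    exact hd0.1
  have hg2 : (g' * t⁻¹) • (t • P) = g' • P := by
    rw [smul_smul]
    congr 1
    group
  have hg2N : g' * t⁻¹ ∉ NT (t • P) := by
    intro h
    have h1 := (smul_syl_eq_iff _ _).mpr h
    rw [hg2] at h1
    apply hgg'
    rw [← smul_syl_eq_iff, mul_smul, h1, ← hPg, inv_smul_smul]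
  have hdR2 : d ∈ NT ((g' * t⁻¹) • (t • P)) := by
    rw [hg2]
    exact hdR
  obtain ⟨y, hyd, hy⟩ := ctx_d1 hH hTI (t • P) hP' ht htN' hd' hd1 hg2N hdR2
  have htt : t • (t • P) = P := by rw [smul_smul, ht2, one_smul]
  rw [htt, hg2] at hy
  have hfin : (y⁻¹ * x) • (t • P) = P := by rw [mul_smul, hx, ← hy, inv_smul_smul]
  have hcomm : (y⁻¹ * x) * d = d * (y⁻¹ * x) := by
    have hy' : y⁻¹ * d = d * y⁻¹ := ((show Commute y d from hyd).inv_left).eq
    calc y⁻¹ * x * d = y⁻¹ * (x * d) := by group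
      _ = y⁻¹ * (d * x) := by rw [hxd]
      _ = (y⁻¹ * d) * x := by group
      _ = d * y⁻¹ * x := by rw [hy']
      _ = d * (y⁻¹ * x) := by group
  exact ctx_e hH hTI P hP ht htN hd hd1 hcomm hfin

end Cfsg.Agent.H8.AIC
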