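import Mathlib
import Cfsg.Agent.H33.C3.Defs

/-!
# S2071 team project (helper33): piece C3-RHO (helper8)

The stabiliser `G3` of `a48` acts on the table of 552 vectors (port of helper33's `MclRho`).
-/

set_option autoImplicit false
set_option maxRecDepth 100000

namespace Cfsg.Agent.H8.C3

open Cfsg Cfsg.Agent.H9 Cfsg.Agent.H93 Cfsg.Agent.H33 Cfsg.Agent.H33.C3

/-- the 552 vectors -/
abbrev X552 : Set leechLattice := Xdot 24 a48

theorem X552_finite : (X552).Finite := finite_sub (fun w => dotInt (vec LF552A) w = 24)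

noncomputable instance fintypeX552 : Fintype ↥X552 := X552_finite.fintype

theorem ncard_X552 : (X552).ncard = 552 := by
  show (Xdot 24 a48).ncard = 552
  rw [Xdot_ncard]
  exact cnt48_24 LF552A_mem_V

theorem card_X552 : Fintype.card ↥X552 = 552 := by
  rw [← Nat.card_eq_fintype_card, Nat.card_coe_set_eq]
  exact ncard_X552

theorem table_X552 : ∀ x ∈ X552, ∃ j < 552, (x : GolayPt → ℤ) = vec (fldW 192 LF552E j) :=
  table_552

theorem X552_inv {g : Equiv.Perm leechLattice} (hg : g ∈ Co0) (ea : g a48 = a48)
    {x : leechLattice} (hx : x ∈ X552) : g x ∈ X552 := by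
  have h := Xdot_inv 24 g hg a48 x hx
  rw [ea] at h
  exact h

/-- the index of a vector in the table -/
noncomputable def idx552 (x : ↥X552) : Fin 552 :=
  ⟨Classical.choose (table_X552 x.1 x.2), (Classical.choose_spec (table_X552 x.1 x.2)).1⟩

theorem idx552_spec (x : ↥X552) :
    ((x.1 : leechLattice) : GolayPt → ℤ) = vec (fldW 192 LF552E (idx552 x).val) :=
  (Classical.choose_spec (table_X552 x.1 x.2)).2

theorem idx552_injective : Function.Injective idx552 := by
  intro x y h
  apply Subtype.ext
  apply Subtype.ext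
  rw [idx552_spec x, idx552_spec y, h]

theorem idx552_bijective : Function.Bijective idx552 := by
  rw [Fintype.bijective_iff_injective_and_card]
  exact ⟨idx552_injective, by rw [card_X552, Fintype.card_fin]⟩

/-- the table as a bijection -/
noncomputable def eIdx552 : ↥X552 ≃ Fin 552 := Equiv.ofBijective idx552 idx552_bijective

theorem eIdx552_spec (x : ↥X552) :
    ((x.1 : leechLattice) : GolayPt → ℤ) = vec (fldW 192 LF552E (eIdx552 x).val) :=
  idx552_spec x

theorem eIdx552_symm_spec (j : Fin 552) :
    (((eIdx552.symm j).1 : leechLattice) : GolayPt → ℤ) = vec (fldW 192 LF552E j.val) := by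
  have h := eIdx552_spec (eIdx552.symm j)
  rwa [Equiv.apply_symm_apply] at h

/-- the entries of the table are distinct -/
theorem table552_inj (j j' : Fin 552)
    (h : vec (fldW 192 LF552E j.val) = vec (fldW 192 LF552E j'.val)) : j = j' := by
  have e : eIdx552.symm j = eIdx552.symm j' := by
    apply Subtype.ext
    apply Subtype.ext
    rw [eIdx552_symm_spec, eIdx552_symm_spec, h]
  exact eIdx552.symm.injective e

theorem G3_fix (k : ↥G3) : (k.1 : Equiv.Perm leechLattice) a48 = a48 :=
  MulAction.mem_stabilizer_iff.mp k.2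

theorem G3_fix_inv (k : ↥G3) : (k.1 : Equiv.Perm leechLattice)⁻¹ a48 = a48 := by
  rw [Equiv.Perm.inv_eq_iff_eq]
  exact (G3_fix k).symm

/-- the stabiliser of `a48` acts on the 552 vectors -/
noncomputable def actX552 : ↥G3 →* Equiv.Perm ↥X552 where
  toFun k :=
    { toFun := fun x => ⟨(k.1 : Equiv.Perm leechLattice) x.1, X552_inv k.1.2 (G3_fix k) x.2⟩
      invFun := fun x => ⟨(k.1 : Equiv.Perm leechLattice)⁻¹ x.1,
        X552_inv (inv_mem k.1.2) (G3_fix_inv k) x.2⟩
      left_inv := fun x => Subtype.ext (by simp)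
      right_inv := fun x => Subtype.ext (by simp) }
  map_one' := by ext x; rfl
  map_mul' k k' := by ext x; rfl

theorem actX552_apply (k : ↥G3) (x : ↥X552) :
    ((actX552 k) x).1 = (k.1 : Equiv.Perm leechLattice) x.1 := rfl

/-- the action on the indices of the table -/
noncomputable def rhoHom552 : ↥G3 →* Equiv.Perm (Fin 552) :=
  (eIdx552.permCongrHom).toMonoidHom.comp actX552

theorem rhoHom552_apply (k : ↥G3) (j : Fin 552) :
    rhoHom552 k j = eIdx552 ((actX552 k) (eIdx552.symm j)) := rfl

theorem rhoHom552_acts (k : ↥G3) : ActsAs552 k.1 (rhoHom552 k) := by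
  intro j v hv
  have ev : v = (eIdx552.symm j).1 := Subtype.ext (hv.trans (eIdx552_symm_spec j).symm)
  subst ev
  rw [rhoHom552_apply]
  exact eIdx552_spec ((actX552 k) (eIdx552.symm j))

/-- piece C3-RHO -/
theorem rho : StRho := by
  refine ⟨rhoHom552, rhoHom552_acts, ?_⟩
  intro k p hp
  ext j
  have h1 := hp j (eIdx552.symm j).1 (eIdx552_symm_spec j)
  have h2 := rhoHom552_acts k j (eIdx552.symm j).1 (eIdx552_symm_spec j)
  exact congrArg Fin.val (table552_inj _ _ (h2.symm.trans h1))

example : Cfsg.Agent.H33.C3.StRho := rho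

end Cfsg.Agent.H8.C3
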