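import Mathlib
import Cfsg.Agent.H33.C3.Defs

/-!
# S2071 team project (helper33): piece C3-WT (helper8)

The lattice word `wT` gives an element of `G3` acting on the table of 552 vectors as `pT`
(port of helper33's `MclWord`).
-/

set_option autoImplicit false
set_option maxRecDepth 100000

namespace Cfsg.Agent.H8.C3

open Cfsg Cfsg.Agent.H9 Cfsg.Agent.H93 Cfsg.Agent.H33 Cfsg.Agent.H33.C3

theorem wT_gen : genOKL [(LF552A, 393240)] wT = true := by decide +kernel

theorem wT_tab : allB (fun j => runOK wT (fldW 192 LF552E j) &&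
    Nat.beq (runW wT (fldW 192 LF552E j)) (fldW 192 LF552E (g16 cT j))) 552 = true := by
  decide +kernel

/-- a lattice word fixing `a48` and acting on the table as the coded permutation -/
theorem word_acts552 {W : List (ℕ × ℕ)} {c ci : ℕ} (hc : invOK c ci = true)
    (hW : genOKL [(LF552A, 393240)] W = true)
    (htab : allB (fun j => runOK W (fldW 192 LF552E j) &&
      Nat.beq (runW W (fldW 192 LF552E j)) (fldW 192 LF552E (g16 c j))) 552 = true) :
    ∃ g : ↥Co0, g ∈ G3 ∧ ActsAs552 g (permOf c ci hc) := by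
  obtain ⟨g, hg, hfix, hrun⟩ := gen_eltL hW
  have ha : g a48 = a48 := hfix (LF552A, 393240) (by decide) LF552A_mem
  refine ⟨⟨g, hg⟩, MulAction.mem_stabilizer_iff.mpr ha, ?_⟩
  intro j v hv
  have hc' := (allB_iff _ _).mp htab j.val j.isLt
  simp only [Bool.and_eq_true] at hc'
  obtain ⟨h1, h2⟩ := hc'
  have hm : vec (fldW 192 LF552E j.val) ∈ leechLattice := by rw [← hv]; exact v.2
  have ev : v = ⟨vec (fldW 192 LF552E j.val), hm⟩ := Subtype.ext hv
  have r1 := hrun _ h1 hm
  rw [ev]
  show ((g ⟨vec (fldW 192 LF552E j.val), hm⟩ : leechLattice) : GolayPt → ℤ)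
    = vec (fldW 192 LF552E (g16 c j.val))
  rw [r1, Nat.eq_of_beq_eq_true h2]

/-- piece C3-WT -/
theorem wT_ok : StWT := word_acts552 cT_ok wT_gen wT_tab

example : Cfsg.Agent.H33.C3.StWT := wT_ok

end Cfsg.Agent.H8.C3
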