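import Mathlib
import Cfsg.Prelude.Def_LieTwisted
import Cfsg.Agent.H7.RCDefs1
/-!
Team project S1156 (helper7), piece RC-INVTW: the elements of the twisted group `²G₂` are
block triangular as soon as the root elements are.
-/
set_option autoImplicit false
open Cfsg Cfsg.Lie

namespace Cfsg.Agent.H8.RC

open Matrix Cfsg.Agent.H7.RC

/-- word matrices are block triangular when the root elements are -/
theorem wordMat_bt {K : Type*} [Field K] (hgen : StInvGen K) (w : List (ℕ × K)) :
    Matrix.BlockTriangular (chevG2.wordMat K w) bS := by
  unfold ChevalleyDatum.wordMat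
  induction w with
  | nil => simpa using Matrix.blockTriangular_one
  | cons p w ih =>
    rw [List.map_cons, List.prod_cons]
    exact (hgen p.1 p.2).mul ih

/-- **RC-INVTW** -/
theorem invTw {K : Type*} [Field K] (hgen : StInvGen K) (e : ℕ) : StInvTw K e := by
  intro g hg
  unfold twistedG2 ChevalleyDatum.genSubgroup at hg
  induction hg using Subgroup.closure_induction with
  | mem x hx =>
    obtain ⟨w, _, hw⟩ := hx
    rw [hw]
    exact wordMat_bt hgen w
  | one => simpa using Matrix.blockTriangular_one
  | mul x y _ _ hx hy =>
    rw [Units.val_mul]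
    exact hx.mul hy
  | inv x _ hx =>
    rw [Matrix.coe_units_inv]
    haveI : Invertible (x : Matrix chevG2.Idx chevG2.Idx K) := x.invertible
    exact Matrix.blockTriangular_inv_of_blockTriangular hx

example {K : Type*} [Field K] (hgen : StInvGen K) (e : ℕ) : StInvTw K e := invTw hgen e

end Cfsg.Agent.H8.RC
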