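import Mathlib

/-!
S0999 piece C2A: the Sylow 2-structure of a group of order `p (p - 1) (p - 2)` with an
involution whose centralizer is elementary abelian of order `p - 1` and fused.
-/

set_option autoImplicit false

namespace Cfsg.Agent.H8.BR

open Subgroup

theorem conj_comm_iff {G : Type*} [Group G] (g x s : G) :
    g⁻¹ * x * g * (g⁻¹ * s * g) = g⁻¹ * s * g * (g⁻¹ * x * g) ↔ x * s = s * x := by
  have h1 : g⁻¹ * x * g * (g⁻¹ * s * g) = g⁻¹ * (x * s) * g := by group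
  have h2 : g⁻¹ * s * g * (g⁻¹ * x * g) = g⁻¹ * (s * x) * g := by group
  rw [h1, h2, mul_left_inj, mul_right_inj]

theorem sylow_two_structure {G : Type*} [Group G] [Finite G] (p : ℕ) (hp : p.Prime)
    (hp5 : 5 ≤ p) (hcard : Nat.card G = p * (p - 1) * (p - 2)) (τ : G) (hτ : orderOf τ = 2)
    (hC : Nat.card (Subgroup.centralizer ({τ} : Set G)) = p - 1)
    (hexp : ∀ g ∈ Subgroup.centralizer ({τ} : Set G), g ^ 2 = 1)
    (hconj : ∀ g ∈ Subgroup.centralizer ({τ} : Set G), g ≠ 1 → ∃ a : G, a * τ * a⁻¹ = g) :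
    Nat.card (Sylow 2 G) = p ∧ ∀ S : Sylow 2 G, Nat.card (S : Subgroup G) = p - 1 ∧
      ∀ s ∈ (S : Subgroup G), s ≠ 1 → Subgroup.centralizer ({s} : Set G) = (S : Subgroup G) := by
  classical
  haveI : Fact (Nat.Prime 2) := ⟨Nat.prime_two⟩
  obtain ⟨S0, hS0⟩ : ∃ S0 : Subgroup G, S0 = Subgroup.centralizer ({τ} : Set G) := ⟨_, rfl⟩
  rw [← hS0] at hC hexp hconj
  have hmemS0 : ∀ x, x ∈ S0 ↔ x * τ = τ * x := by
    intro x
    rw [hS0, mem_centralizer_singleton_iff]
  have hτS0 : τ ∈ S0 := (hmemS0 τ).mpr rfl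
  have hτ1 : τ ≠ 1 := by
    intro h
    rw [h, orderOf_one] at hτ
    omega
  -- `S0` is abelian
  have hab : ∀ a ∈ S0, ∀ b ∈ S0, a * b = b * a := by
    intro a ha b hb
    have h1 := hexp a ha
    have h2 := hexp b hb
    have h3 := hexp (a * b) (S0.mul_mem ha hb)
    rw [pow_two] at h1 h2 h3
    have ha' : a⁻¹ = a := inv_eq_of_mul_eq_one_left h1
    have hb' : b⁻¹ = b := inv_eq_of_mul_eq_one_left h2
    have h4 : a * b = (a * b)⁻¹ := (inv_eq_of_mul_eq_one_left h3).symm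
    rw [h4, mul_inv_rev, ha', hb']
  -- `S0` is a 2-group
  have hS0p : IsPGroup 2 S0 := by
    intro g
    refine ⟨1, ?_⟩
    apply Subtype.ext
    have := hexp g.1 g.2
    simpa using this
  -- `S0` is a Sylow 2-subgroup
  obtain ⟨Q, hQ⟩ := hS0p.exists_le_sylow
  have hpodd : Odd p := hp.odd_of_ne_two (by omega)
  have hp2odd : Odd (p - 2) := by
    obtain ⟨k, hk⟩ := hpodd
    exact ⟨k - 1, by omega⟩
  have hQS0 : (Q : Subgroup G) = S0 := by
    symm
    apply eq_of_le_of_card_ge hQ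
    rw [hC]
    obtain ⟨n, hn⟩ := IsPGroup.iff_card.mp Q.isPGroup'
    have hdvd : 2 ^ n ∣ p * (p - 1) * (p - 2) := by
      rw [← hcard, ← hn]
      exact Subgroup.card_subgroup_dvd_card _
    have hcop1 : Nat.Coprime (2 ^ n) p :=
      Nat.Coprime.pow_left _ (Nat.coprime_two_left.mpr hpodd)
    have hcop2 : Nat.Coprime (2 ^ n) (p - 2) :=
      Nat.Coprime.pow_left _ (Nat.coprime_two_left.mpr hp2odd)
    have h1 : 2 ^ n ∣ (p - 1) * (p - 2) := by
      rw [mul_assoc] at hdvd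
      exact hcop1.dvd_of_dvd_mul_left hdvd
    have h2 : 2 ^ n ∣ p - 1 := hcop2.dvd_of_dvd_mul_right h1
    rw [hn]
    exact Nat.le_of_dvd (by omega) h2
  -- centralizers of the non-trivial elements of `S0`
  have hcent : ∀ s ∈ S0, s ≠ 1 → Subgroup.centralizer ({s} : Set G) = S0 := by
    intro s hs hs1
    obtain ⟨a, ha⟩ := hconj s hs hs1
    symm
    apply eq_of_le_of_card_ge
    · intro x hx
      rw [mem_centralizer_singleton_iff]
      exact hab x hx s hs
    · have hmap : Subgroup.centralizer ({s} : Set G) = S0.map (MulAut.conj a).toMonoidHom := by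
        ext x
        rw [mem_centralizer_singleton_iff, Subgroup.mem_map]
        constructor
        · intro hx
          refine ⟨a⁻¹ * x * a, ?_, ?_⟩
          · rw [hmemS0]
            rw [← ha] at hx
            calc a⁻¹ * x * a * τ = a⁻¹ * (x * (a * τ * a⁻¹)) * a := by group
              _ = a⁻¹ * (a * τ * a⁻¹ * x) * a := by rw [hx]
              _ = τ * (a⁻¹ * x * a) := by group
          · simp only [MulEquiv.coe_toMonoidHom, MulAut.conj_apply]
            group
        · rintro ⟨c, hc, rfl⟩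
          rw [hmemS0] at hc
          rw [← ha]
          simp only [MulEquiv.coe_toMonoidHom, MulAut.conj_apply]
          calc a * c * a⁻¹ * (a * τ * a⁻¹) = a * (c * τ) * a⁻¹ := by group
            _ = a * (τ * c) * a⁻¹ := by rw [hc]
            _ = a * τ * a⁻¹ * (a * c * a⁻¹) := by group
      rw [hmap, Subgroup.card_map_of_injective (MulAut.conj a).injective]
  -- the normalizer of `S0`
  have hN : ∀ a : G, a ∈ normalizer (S0 : Set G) ↔ a * τ * a⁻¹ ∈ S0 := by
    intro a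
    constructor
    · intro ha
      exact (mem_normalizer_iff.mp ha τ).mp hτS0
    · intro ha
      have hs1 : a * τ * a⁻¹ ≠ 1 := by
        intro h
        apply hτ1
        have h2 : a⁻¹ * (a * τ * a⁻¹) * a = τ := by group
        rw [← h2, h]
        group
      have hc := hcent _ ha hs1
      rw [mem_normalizer_iff]
      intro x
      have h2 : a * x * a⁻¹ ∈ S0 ↔
          a * x * a⁻¹ * (a * τ * a⁻¹) = a * τ * a⁻¹ * (a * x * a⁻¹) := by
        conv_lhs => rw [← hc]
        rw [mem_centralizer_singleton_iff]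
      rw [hmemS0, h2]
      have h3 := conj_comm_iff a⁻¹ x τ
      rw [inv_inv] at h3
      exact h3.symm
  have hkey : ∀ (a c : G), c ∈ S0 → a * c * τ * (a * c)⁻¹ = a * τ * a⁻¹ := by
    intro a c hc
    rw [hmemS0] at hc
    calc a * c * τ * (a * c)⁻¹ = a * (c * τ) * c⁻¹ * a⁻¹ := by group
      _ = a * (τ * c) * c⁻¹ * a⁻¹ := by rw [hc]
      _ = a * τ * a⁻¹ := by group
  have hex : ∀ s : {s : G // s ∈ S0 ∧ s ≠ 1}, ∃ a : G, a * τ * a⁻¹ = s.1 :=
    fun s => hconj s.1 s.2.1 s.2.2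
  choose a₀ ha₀ using hex
  have hcardN : Nat.card (normalizer (S0 : Set G)) = (p - 2) * (p - 1) := by
    have hcardT : Nat.card {s : G // s ∈ S0 ∧ s ≠ 1} = p - 2 := by
      have h1 : {s : G | s ∈ S0 ∧ s ≠ 1} = (S0 : Set G) \ {1} := by
        ext s
        simp
      have h2 : Nat.card {s : G // s ∈ S0 ∧ s ≠ 1} = Set.ncard {s : G | s ∈ S0 ∧ s ≠ 1} :=
        Nat.card_coe_set_eq _
      have h3 : Set.ncard (S0 : Set G) = p - 1 := by
        rw [← hC]
        exact (Nat.card_coe_set_eq _).symm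
      rw [h2, h1, Set.ncard_diff_singleton_of_mem S0.one_mem, h3]
      omega
    rw [← hcardT, ← hC, ← Nat.card_prod]
    symm
    refine Nat.card_congr (Equiv.ofBijective
      (fun x : {s : G // s ∈ S0 ∧ s ≠ 1} × S0 =>
        (⟨a₀ x.1 * x.2.1, (hN _).mpr (by rw [hkey _ _ x.2.2, ha₀]; exact x.1.2.1)⟩ :
          normalizer (S0 : Set G))) ⟨?_, ?_⟩)
    · rintro ⟨s, c⟩ ⟨s', c'⟩ h
      have h1 : a₀ s * c.1 = a₀ s' * c'.1 := congrArg Subtype.val h
      have h2 : s = s' := by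
        apply Subtype.ext
        have e1 : a₀ s * c.1 * τ * (a₀ s * c.1)⁻¹ = s.1 := by rw [hkey _ _ c.2, ha₀]
        have e2 : a₀ s' * c'.1 * τ * (a₀ s' * c'.1)⁻¹ = s'.1 := by rw [hkey _ _ c'.2, ha₀]
        rw [h1] at e1
        exact e1.symm.trans e2
      subst h2
      have h3 : c = c' := Subtype.ext (mul_left_cancel h1)
      rw [h3]
    · intro n
      have hn := (hN n.1).mp n.2
      have hn1 : n.1 * τ * n.1⁻¹ ≠ 1 := by
        intro h
        apply hτ1
        have h2 : n.1⁻¹ * (n.1 * τ * n.1⁻¹) * n.1 = τ := by group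
        rw [← h2, h]
        group
      let s : {s : G // s ∈ S0 ∧ s ≠ 1} := ⟨n.1 * τ * n.1⁻¹, hn, hn1⟩
      have hs : a₀ s * τ * (a₀ s)⁻¹ = n.1 * τ * n.1⁻¹ := ha₀ s
      have hc : (a₀ s)⁻¹ * n.1 ∈ S0 := by
        rw [hmemS0]
        calc (a₀ s)⁻¹ * n.1 * τ = (a₀ s)⁻¹ * (n.1 * τ * n.1⁻¹) * n.1 := by group
          _ = (a₀ s)⁻¹ * (a₀ s * τ * (a₀ s)⁻¹) * n.1 := by rw [hs]
          _ = τ * ((a₀ s)⁻¹ * n.1) := by group
      refine ⟨(s, ⟨(a₀ s)⁻¹ * n.1, hc⟩), ?_⟩
      apply Subtype.ext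
      show a₀ s * ((a₀ s)⁻¹ * n.1) = n.1
      group
  have hn2 : Nat.card (Sylow 2 G) = p := by
    have hQn : normalizer ((Q : Sylow 2 G) : Set G) = normalizer (S0 : Set G) := by
      rw [← hQS0]
      rfl
    rw [Sylow.card_eq_index_normalizer Q, hQn]
    have h1 := Subgroup.card_mul_index (normalizer (S0 : Set G))
    rw [hcardN, hcard] at h1
    have hpos : 0 < (p - 2) * (p - 1) := Nat.mul_pos (by omega) (by omega)
    apply Nat.eq_of_mul_eq_mul_left hpos
    rw [h1]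
    ring
  refine ⟨hn2, ?_⟩
  intro S
  obtain ⟨g, hg⟩ := MulAction.exists_smul_eq G Q S
  have hmem : ∀ x, x ∈ (S : Subgroup G) ↔ g⁻¹ * x * g ∈ S0 := by
    intro x
    rw [← hg, Sylow.coe_subgroup_smul, mem_pointwise_smul_iff_inv_smul_mem, hQS0]
    simp [MulAut.smul_def]
  constructor
  · rw [Sylow.card_eq_multiplicity S, ← Sylow.card_eq_multiplicity Q, hQS0, hC]
  · intro s hs hs1
    have ht : g⁻¹ * s * g ∈ S0 := (hmem s).mp hs
    have ht1 : g⁻¹ * s * g ≠ 1 := by
      intro h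
      apply hs1
      have h2 : g * (g⁻¹ * s * g) * g⁻¹ = s := by group
      rw [← h2, h]
      group
    have hc := hcent _ ht ht1
    ext x
    rw [mem_centralizer_singleton_iff, hmem x]
    conv_rhs => rw [← hc]
    rw [mem_centralizer_singleton_iff, conj_comm_iff]

end Cfsg.Agent.H8.BR
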