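import Mathlib
import Cfsg.Agent.S4702

/-!
S0999 piece C2C: a faithful action of degree `m` odd, `|G| = m (m - 1) (m - 2)`, in which only
the identity fixes three points, is sharply 3-transitive, so `G ≃* SL(2, 2^a)` (S4702).
-/

set_option autoImplicit false

namespace Cfsg.Agent.H8.BR

theorem sl2_of_sharp {G : Type*} [Group G] [Finite G] {α : Type*} [Fintype α] [DecidableEq α]
    [MulAction G α] [FaithfulSMul G α] (hα : 3 ≤ Fintype.card α) (hodd : Odd (Fintype.card α))
    (hcard : Nat.card G = Fintype.card α * (Fintype.card α - 1) * (Fintype.card α - 2))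
    (hfix : ∀ (g : G) (a b c : α), a ≠ b → a ≠ c → b ≠ c → g • a = a → g • b = b → g • c = c →
      g = 1) :
    ∃ a : ℕ, 1 ≤ a ∧ Fintype.card α = 2 ^ a + 1 ∧ ∃ (F : Type) (_ : Field F) (_ : Fintype F),
      Fintype.card F = 2 ^ a ∧ Nonempty (G ≃* Matrix.SpecialLinearGroup (Fin 2) F) := by
  classical
  -- the action on triples is free
  have hfree : ∀ (x : Fin 3 ↪ α) (g : G), g • x = x → g = 1 := by
    intro x g hg
    have h0 : g • x 0 = x 0 := by
      have := congrArg (fun e : Fin 3 ↪ α => e 0) hg
      simpa using this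
    have h1 : g • x 1 = x 1 := by
      have := congrArg (fun e : Fin 3 ↪ α => e 1) hg
      simpa using this
    have h2 : g • x 2 = x 2 := by
      have := congrArg (fun e : Fin 3 ↪ α => e 2) hg
      simpa using this
    exact hfix g (x 0) (x 1) (x 2) (fun h => by simpa using x.injective h)
      (fun h => by simpa using x.injective h) (fun h => by simpa using x.injective h) h0 h1 h2
  have hcardE : Nat.card (Fin 3 ↪ α) = Nat.card G := by
    rw [Nat.card_eq_fintype_card, Fintype.card_embedding_eq, Fintype.card_fin, hcard]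
    simp only [Nat.descFactorial, Nat.sub_zero]
    ring
  -- transitivity on triples
  have htrans : ∀ x y : Fin 3 ↪ α, ∃ g : G, g • x = y := by
    intro x y
    have hinj : Function.Injective (fun g : G => g • x) := by
      intro g g' h
      have h1 : (g'⁻¹ * g) • x = x := by
        rw [mul_smul]
        show g'⁻¹ • (g • x) = x
        have h' : g • x = g' • x := h
        rw [h', inv_smul_smul]
      have h2 := hfree x _ h1
      exact (inv_mul_eq_one.mp h2).symm
    have hbij := hinj.bijective_of_nat_card_le (le_of_eq hcardE)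
    exact hbij.2 y
  -- the permutation group
  let φ : G →* Equiv.Perm α := MulAction.toPermHom G α
  have hφ : Function.Injective φ := MulAction.toPerm_injective
  have h3 : MulAction.IsMultiplyPretransitive φ.range α 3 := by
    rw [MulAction.isMultiplyPretransitive_iff]
    intro x y
    obtain ⟨g, hg⟩ := htrans x y
    refine ⟨⟨φ g, g, rfl⟩, ?_⟩
    ext i
    rw [← hg]
    rfl
  have hfix' : ∀ g : φ.range, 3 ≤ Nat.card (MulAction.fixedBy α g) → g = 1 := by
    rintro ⟨_, g₀, rfl⟩ hg
    haveI : Fintype (MulAction.fixedBy α (⟨φ g₀, g₀, rfl⟩ : φ.range)) := Fintype.ofFinite _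
    rw [Nat.card_eq_fintype_card] at hg
    obtain ⟨a, b, c, hab, hac, hbc⟩ := Fintype.two_lt_card_iff.mp hg
    have ha : g₀ • a.1 = a.1 := a.2
    have hb : g₀ • b.1 = b.1 := b.2
    have hc : g₀ • c.1 = c.1 := c.2
    have h1 : g₀ = 1 := hfix g₀ a.1 b.1 c.1 (fun h => hab (Subtype.ext h))
      (fun h => hac (Subtype.ext h)) (fun h => hbc (Subtype.ext h)) ha hb hc
    apply Subtype.ext
    show φ g₀ = 1
    rw [h1, map_one]
  obtain ⟨a, ha1, hcard', F, iF, iF', hF, ⟨e⟩⟩ :=
    Cfsg.Agent.S4702.result hα hodd φ.range h3 hfix'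
  exact ⟨a, ha1, hcard', F, iF, iF', hF, ⟨(MonoidHom.ofInjective hφ).trans e⟩⟩

end Cfsg.Agent.H8.BR
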