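import Mathlib
import Cfsg.Agent.H81.ExDefs
import Cfsg.Agent.H13.PCore
import Cfsg.Agent.H14.Thompson

/-!
# Piece EX-GLUE (for helper81; existence of `J(T)`-components)

Standard facts: `O₂(X)` is a normal 2-subgroup contained in every 2-subgroup `T` of odd index and
containing the normal elementary abelian 2-subgroup `V`; `J(X)` is normal.
-/

set_option autoImplicit false
open Cfsg

namespace Cfsg.Agent.H8.Ex

open Cfsg.Agent.H81.Ex

universe u

/-- The Thompson subgroup is normal. -/
theorem thompson_normal (p : ℕ) (G : Type u) [Group G] : (thompsonSubgroup p G).Normal := by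
  constructor
  intro n hn g
  have h1 : (thompsonSubgroup p G).map (MulAut.conj g).toMonoidHom ≤ thompsonSubgroup p G := by
    unfold Cfsg.thompsonSubgroup
    rw [Subgroup.map_le_iff_le_comap]
    apply sSup_le
    intro A hA
    rw [← Subgroup.map_le_iff_le_comap]
    exact le_sSup (Cfsg.Agent.H14.maxElAb_conj g hA)
  exact h1 ⟨n, hn, rfl⟩

/-- piece EX-GLUE -/
theorem glue : StGlue.{u} := by
  intro X _ _ T V hVn hV hT hTi
  haveI : Fact (Nat.Prime 2) := ⟨Nat.prime_two⟩
  refine ⟨Cfsg.Agent.H13.pCore_normal 2 X, Cfsg.Agent.H13.pCore_isPGroup 2 X, ?_, ?_,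
    thompson_normal 2 X⟩
  · have hnd : ¬ 2 ∣ T.index := fun h => (Nat.not_even_iff_odd.mpr hTi) (even_iff_two_dvd.mpr h)
    have h1 := Cfsg.Agent.H13.pCore_le_sylow (hT.toSylow hnd)
    exact h1
  · apply Cfsg.Agent.H13.le_pCore hVn
    intro v
    refine ⟨1, ?_⟩
    apply Subtype.ext
    rw [pow_one, Subgroup.coe_pow, Subgroup.coe_one]
    exact hV.2 v v.2

example : Cfsg.Agent.H81.Ex.StGlue.{u} := glue

end Cfsg.Agent.H8.Ex
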