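import Mathlib
import Cfsg.Agent.H81.ExDefs

/-!
# Piece EX-PREPJ (for helper81; existence of `J(T)`-components)

`J` is elementary abelian modulo `Q`: squares and commutators of the 2-group `J` have cube in
`J ⊓ C ≤ Q`, and an element of 2-power order is a power of its cube.
-/

set_option autoImplicit false

namespace Cfsg.Agent.H8.Ex

open Cfsg.Agent.H81.Ex

universe u

/-- An element of a 2-group whose cube lies in a subgroup lies in that subgroup. -/
theorem mem_of_cube_mem {X : Type*} [Group X] (J Q : Subgroup X) (hJ : IsPGroup 2 ↥J)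
    (c : X) (hc : c ∈ J) (h3 : c ^ 3 ∈ Q) : c ∈ Q := by
  obtain ⟨n, hn⟩ := hJ ⟨c, hc⟩
  have hn' : c ^ 2 ^ n = 1 := by
    have h0 := congrArg Subtype.val hn
    simpa using h0
  have hco : Nat.Coprime 3 (orderOf c) :=
    Nat.Coprime.coprime_dvd_right (orderOf_dvd_of_pow_eq_one hn')
      (Nat.Coprime.pow_right n (by norm_num))
  obtain ⟨m, hm⟩ := exists_pow_eq_self_of_coprime hco
  rw [← hm]
  exact Q.pow_mem h3 m

/-- piece EX-PREPJ -/
theorem prepJ : StPrepJ.{u} := by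
  intro X _ _ Q C M J hJ hJM hJC hM
  have hsq : ∀ j ∈ J, j * j ∈ Q := by
    intro j hj
    have hjj : j * j ∈ J := J.mul_mem hj hj
    apply mem_of_cube_mem J Q hJ (j * j) hjj
    apply hJC
    refine Subgroup.mem_inf.mpr ⟨J.pow_mem hjj 3, ?_⟩
    have h6 := (hM j (hJM hj) j (hJM hj)).2
    have e : (j * j) ^ 3 = j ^ 6 := by rw [← pow_two, ← pow_mul]
    rw [e]
    exact h6
  refine ⟨hsq, ?_⟩
  intro j hj k hk
  have hc : j * k * j⁻¹ * k⁻¹ ∈ J :=
    J.mul_mem (J.mul_mem (J.mul_mem hj hk) (J.inv_mem hj)) (J.inv_mem hk)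
  apply mem_of_cube_mem J Q hJ _ hc
  apply hJC
  exact Subgroup.mem_inf.mpr ⟨J.pow_mem hc 3, (hM j (hJM hj) k (hJM hk)).1⟩

example : Cfsg.Agent.H81.Ex.StPrepJ.{u} := prepJ

end Cfsg.Agent.H8.Ex
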