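import Mathlib
import Cfsg.Agent.H81.ExDefs
import Cfsg.Agent.H13.PCore
import Cfsg.Agent.H25.SxSylJ

/-!
# Piece EX-SYL4 (for helper81; existence of `J(T)`-components)

The Sylow clause of the definition of a `J(T)`-component: if `O₂(K) ≤ T` has index 3 in `K` and
`J = J(T)` normalizes `K`, then every Sylow 2-subgroup `S ≥ J` of `K J` lies in `T` (an element
`k j ∈ S` has `k ∈ S ∩ K`, a 2-element of `K`, hence in `O₂(K)`), so `J(S) = J(T)`.
-/

set_option autoImplicit false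
open Cfsg

namespace Cfsg.Agent.H8.Ex

open Cfsg.Agent.H81.Ex

universe u

/-- A 2-element of `K` lies in `O₂(K)` when `O₂(K)` has index 3 in `K`. -/
theorem two_elt_mem_pCoreOf {G : Type u} [Group G] [Finite G] (K : Subgroup G)
    (hidx : (pCoreOf 2 K).relIndex K = 3) (k : G) (hk : k ∈ K) (n : ℕ) (hn : k ^ 2 ^ n = 1) :
    k ∈ pCoreOf 2 K := by
  haveI := Cfsg.Agent.H13.pCore_normal 2 ↥K
  have e : (pCoreOf 2 K).relIndex K = (pCore 2 ↥K).index := by
    show (((pCore 2 ↥K).map K.subtype).comap K.subtype).index = _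
    rw [Subgroup.comap_map_eq_self_of_injective K.subtype_injective]
  rw [e] at hidx
  have hcard : Nat.card (↥K ⧸ pCore 2 ↥K) = 3 := hidx
  have h1 : (QuotientGroup.mk (⟨k, hk⟩ : ↥K) : ↥K ⧸ pCore 2 ↥K) ^ 2 ^ n = 1 := by
    rw [← QuotientGroup.mk_pow]
    have e1 : (⟨k, hk⟩ : ↥K) ^ 2 ^ n = 1 := by
      apply Subtype.ext
      rw [Subgroup.coe_pow, Subgroup.coe_one]
      exact hn
    rw [e1]
    rfl
  have h2 : (QuotientGroup.mk (⟨k, hk⟩ : ↥K) : ↥K ⧸ pCore 2 ↥K) ^ 3 = 1 := by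
    have h0 := pow_card_eq_one' (G := ↥K ⧸ pCore 2 ↥K)
      (x := (QuotientGroup.mk (⟨k, hk⟩ : ↥K) : ↥K ⧸ pCore 2 ↥K))
    rw [hcard] at h0
    exact h0
  have h3 := pow_gcd_eq_one.mpr ⟨h1, h2⟩
  have hco : Nat.gcd (2 ^ n) 3 = 1 := Nat.Coprime.pow_left n (by norm_num)
  rw [hco, pow_one] at h3
  have h4 : (⟨k, hk⟩ : ↥K) ∈ pCore 2 ↥K := (QuotientGroup.eq_one_iff _).mp h3
  exact ⟨⟨k, hk⟩, h4, rfl⟩

/-- piece EX-SYL4 -/
theorem syl4 : StSyl4.{u} := by
  intro G _ _ T K hT hPT hidx hJK S hS hJS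
  obtain ⟨hSL, hS2, -⟩ := hS
  have hJT : thompsonSubgroupOf 2 T ≤ T := by
    unfold thompsonSubgroupOf
    exact Subgroup.map_subtype_le _
  have hST : S ≤ T := by
    intro s hs
    have hsL : s ∈ ((K ⊔ thompsonSubgroupOf 2 T : Subgroup G) : Set G) := hSL hs
    rw [Subgroup.coe_mul_of_right_le_normalizer_left K (thompsonSubgroupOf 2 T) hJK] at hsL
    obtain ⟨k, hk, j, hj, rfl⟩ := Set.mem_mul.mp hsL
    have hkS : k ∈ S := by
      have h0 := S.mul_mem hs (S.inv_mem (hJS hj))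
      have e : k * j * j⁻¹ = k := by group
      rw [e] at h0
      exact h0
    obtain ⟨n, hn⟩ := hS2 ⟨k, hkS⟩
    have hn' : k ^ 2 ^ n = 1 := by
      have h0 := congrArg Subtype.val hn
      simpa using h0
    exact T.mul_mem (hPT (two_elt_mem_pCoreOf K hidx k hk n hn')) (hJT hj)
  exact Cfsg.Agent.H25.Sx.thompson_eq_of_sandwich 2 S T hST hJS

example : Cfsg.Agent.H81.Ex.StSyl4.{u} := syl4

end Cfsg.Agent.H8.Ex
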