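import Mathlib
import Cfsg.Agent.H81.ExDefs
import Cfsg.Agent.H51.Local
import Cfsg.Agent.H39.SxLift

/-!
# Piece EX-UP (for helper81; existence of `J(T)`-components)

Transport along `L.subtype` of the properties of `K' ≤ ↥L` to `K = K'.map L.subtype ≤ G`.
The two transport lemmas for `O₂` and `Ω₁Z` are helper39's (`H39/SxLift.lean`).
-/

set_option autoImplicit false
open Cfsg

namespace Cfsg.Agent.H8.Ex

open Cfsg.Agent.H81.Ex

universe u

/-- piece EX-UP -/
theorem up : StUp.{u} := by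
  intro G _ _ L J K' hJL hgen hcomm hPQ hidx hW
  have hinj : Function.Injective L.subtype := Subgroup.subtype_injective L
  have hQn : (pCore 2 ↥L).Normal := Cfsg.Agent.H51.pCore_normal 2 (G := ↥L)
  -- `O₂(K') = K' ⊓ O₂(L)`
  have hPeq : pCoreOf 2 K' = K' ⊓ pCore 2 ↥L := by
    apply le_antisymm
    · exact le_inf (Cfsg.Agent.H51.pCoreOf_le 2 K') hPQ
    · apply Cfsg.Agent.H51.le_pCoreOf 2 inf_le_left
      · intro k hk
        rw [Subgroup.mem_normalizer_iff]
        intro y
        constructor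
        · rintro ⟨hy1, hy2⟩
          exact ⟨K'.mul_mem (K'.mul_mem hk hy1) (K'.inv_mem hk), hQn.conj_mem y hy2 k⟩
        · rintro ⟨hy1, hy2⟩
          refine ⟨?_, ?_⟩
          · have h0 := K'.mul_mem (K'.mul_mem (K'.inv_mem hk) hy1) hk
            have e : k⁻¹ * (k * y * k⁻¹) * k = y := by group
            rw [e] at h0
            exact h0
          · have h0 := hQn.conj_mem _ hy2 k⁻¹
            have e : k⁻¹ * (k * y * k⁻¹) * k⁻¹⁻¹ = y := by group
            rw [e] at h0
            exact h0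
      · exact (Cfsg.Agent.H51.pCore_isPGroup 2 (G := ↥L)).to_le inf_le_right
  have hidx' : (K' ⊓ pCore 2 ↥L).relIndex K' = 3 := by
    rw [← hPeq]
    exact hidx
  have hpc : pCoreOf 2 (K'.map L.subtype) = (pCoreOf 2 K').map L.subtype := by
    rw [hPeq]
    exact Cfsg.Agent.H39.Sx.pCoreOf_map_eq L K' hidx'
  have hJe : (J.subgroupOf L).map L.subtype = J := Subgroup.map_subgroupOf_eq_of_le hJL
  have hcommG : ⁅K'.map L.subtype, J⁆ = K'.map L.subtype := by
    conv_rhs => rw [← hcomm]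
    rw [Subgroup.map_commutator, hJe]
  have hconj : ∀ j ∈ J, ∀ k ∈ K'.map L.subtype, j * k * j⁻¹ ∈ K'.map L.subtype := by
    intro j hj k hk
    have h1 : j * k * j⁻¹ * k⁻¹ ∈ ⁅J, K'.map L.subtype⁆ :=
      Subgroup.commutator_mem_commutator hj hk
    rw [Subgroup.commutator_comm, hcommG] at h1
    have h2 := (K'.map L.subtype).mul_mem h1 hk
    have e : j * k * j⁻¹ * k⁻¹ * k = j * k * j⁻¹ := by group
    rw [e] at h2
    exact h2
  refine ⟨?_, hcommG, ?_, ?_, ?_, ?_⟩
  · conv_rhs => rw [← hgen]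
    rw [MonoidHom.map_closure]
    congr 1
    ext g
    constructor
    · rintro ⟨⟨x, hx, rfl⟩, hodd⟩
      exact ⟨x, ⟨hx, by simpa [Subgroup.orderOf_coe] using hodd⟩, rfl⟩
    · rintro ⟨x, ⟨hx, hodd⟩, rfl⟩
      exact ⟨Subgroup.mem_map_of_mem _ hx, by simpa [Subgroup.orderOf_coe] using hodd⟩
  · rw [hpc]
    show (pCoreOf 2 K').map L.subtype ≤ (pCore 2 ↥L).map L.subtype
    exact Subgroup.map_mono hPQ
  · rw [hpc, Subgroup.relIndex_map_map_of_injective _ _ hinj]
    exact hidx
  · unfold wOf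
    rw [hpc, Cfsg.Agent.H39.Sx.omegaCenterOf_map_subtype, ← Subgroup.map_commutator]
    intro h
    exact hW ((Subgroup.map_eq_bot_iff_of_injective _ hinj).mp h)
  · intro j hj
    rw [Subgroup.mem_normalizer_iff]
    intro k
    constructor
    · exact hconj j hj k
    · intro hk
      have h0 := hconj j⁻¹ (J.inv_mem hj) _ hk
      have e : j⁻¹ * (j * k * j⁻¹) * j⁻¹⁻¹ = k := by group
      rw [e] at h0
      exact h0

example : Cfsg.Agent.H81.Ex.StUp.{u} := up

end Cfsg.Agent.H8.Ex
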