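import Mathlib
import Cfsg.Agent.H95.HupDefs

/-!
# Huppert's theorem (S3360), auxiliary counting lemmas for the space with 64 elements (helper8)
-/

set_option autoImplicit false
set_option linter.unusedSectionVars false

universe u w

namespace Cfsg.Agent.H8.Hup

variable {V : Type u} [AddCommGroup V] [Module (ZMod 2) V] [Finite V]

/-- Fixed point congruence for a linear automorphism of `7`-power order on an invariant
submodule. -/
theorem card_modEq_fix (T : V ≃ₗ[ZMod 2] V) (k : ℕ) (hT : T ^ 7 ^ k = 1)
    (W : Submodule (ZMod 2) V) (hW : ∀ v ∈ W, T v ∈ W) :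
    Nat.card W ≡ Nat.card {v : W // T (v : V) = v} [MOD 7] := by
  classical
  haveI : Fintype W := Fintype.ofFinite W
  have : Fact (Nat.Prime 7) := ⟨by norm_num⟩
  let f : Function.End W := fun v => ⟨T v, hW v v.2⟩
  have hpow : ∀ (n : ℕ) (v : W), ((f ^ n) v : V) = (T ^ n) (v : V) := by
    intro n
    induction n with
    | zero => intro v; rfl
    | succ n ih =>
      intro v
      rw [pow_succ, pow_succ]
      change ((f ^ n) (f v) : V) = (T ^ n) (T (v : V))
      rw [ih]
  have hf : f ^ 7 ^ k = 1 := by
    funext v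
    apply Subtype.ext
    rw [hpow, hT]
    rfl
  have h := Equiv.Perm.card_fixedPoints_modEq (p := 7) (n := k) hf
  rw [Nat.card_eq_fintype_card]
  refine h.trans ?_
  rw [← Nat.card_eq_fintype_card]
  have : Nat.card (Function.fixedPoints f) = Nat.card {v : W // T (v : V) = v} := by
    apply Nat.card_congr
    refine Equiv.subtypeEquivRight ?_
    intro v
    change f v = v ↔ _
    constructor
    · intro h; exact congrArg Subtype.val h
    · intro h; exact Subtype.ext h
  rw [this]

/-- A submodule of a space with `64` elements whose cardinality is `1` modulo `7` has `1`, `8`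
or `64` elements. -/
theorem card_sub_cases (hV : Nat.card V = 64) (W : Submodule (ZMod 2) V)
    (h7 : Nat.card W ≡ 1 [MOD 7]) :
    Nat.card W = 1 ∨ Nat.card W = 8 ∨ Nat.card W = 64 := by
  have hd : Nat.card W ∣ 2 ^ 6 := by
    have : (2 : ℕ) ^ 6 = 64 := by norm_num
    rw [this, ← hV]
    exact AddSubgroup.card_addSubgroup_dvd_card W.toAddSubgroup
  obtain ⟨k, hk, hkc⟩ := (Nat.dvd_prime_pow Nat.prime_two).1 hd
  rw [hkc] at h7 ⊢
  interval_cases k <;> simp_all [Nat.ModEq]

theorem eq_bot_of_card_one (W : Submodule (ZMod 2) V) (h : Nat.card W = 1) : W = ⊥ := by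
  rw [eq_bot_iff]
  intro v hv
  have : Subsingleton W := (Nat.card_eq_one_iff_unique.1 h).1
  have h0 : (⟨v, hv⟩ : W) = 0 := Subsingleton.elim _ _
  simpa using congrArg Subtype.val h0

theorem eq_top_of_card_eq (W : Submodule (ZMod 2) V) (h : Nat.card W = Nat.card V) : W = ⊤ := by
  have : (W : Set V) = Set.univ := by
    apply Set.eq_of_subset_of_ncard_le (Set.subset_univ _)
    rw [Set.ncard_univ, ← h, ← Nat.card_coe_set_eq]
    rfl
  exact SetLike.coe_injective (by simpa using this)

theorem eq_of_le_of_card_eq (W W' : Submodule (ZMod 2) V) (hle : W ≤ W')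
    (h : Nat.card W = Nat.card W') : W = W' := by
  have : (W : Set V) = (W' : Set V) := by
    apply Set.eq_of_subset_of_ncard_le hle
    rw [← Nat.card_coe_set_eq, ← Nat.card_coe_set_eq]
    exact h.symm.le
  exact SetLike.coe_injective this

end Cfsg.Agent.H8.Hup
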