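import Mathlib
import Cfsg.Agent.H95.HupDefs
import Cfsg.Agent.H8.HupAux

/-!
# Huppert's theorem (S3360), piece 64B (helper8)

On the space with `64` elements, if `G` is transitive on the nonzero vectors and `O_7(G) ≠ 1`, then
`O_7(G)` is generated by a fixed-point-free element of order `7`.
-/

set_option autoImplicit false
set_option linter.unusedSectionVars false

universe u w

namespace Cfsg.Agent.H8.Hup

open Cfsg.Agent.H95.Hup

variable {V : Type u} [AddCommGroup V] [Module (ZMod 2) V]

/-- The fixed vectors of a linear automorphism. -/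
def fixSub (T : V ≃ₗ[ZMod 2] V) : Submodule (ZMod 2) V where
  carrier := {v | T v = v}
  add_mem' := by
    intro a b ha hb
    have ha' : T a = a := ha
    have hb' : T b = b := hb
    change T (a + b) = a + b
    rw [map_add, ha', hb']
  zero_mem' := by
    change T 0 = 0
    exact map_zero T
  smul_mem' := by
    intro c a ha
    have ha' : T a = a := ha
    change T (c • a) = c • a
    rw [map_smul, ha']

theorem mem_fixSub (T : V ≃ₗ[ZMod 2] V) (v : V) : v ∈ fixSub T ↔ T v = v := Iff.rfl

/-- The stabilizer of a vector. -/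
def stabSub {G : Type w} [Group G] (ρ : G →* (V ≃ₗ[ZMod 2] V)) (v : V) : Subgroup G where
  carrier := {g | ρ g v = v}
  mul_mem' := by
    intro a b ha hb
    have ha' : ρ a v = v := ha
    have hb' : ρ b v = v := hb
    change ρ (a * b) v = v
    rw [map_mul]
    change ρ a (ρ b v) = v
    rw [hb', ha']
  one_mem' := by
    change ρ 1 v = v
    rw [map_one]
    rfl
  inv_mem' := by
    intro a ha
    have ha' : ρ a v = v := ha
    change ρ a⁻¹ v = v
    rw [map_inv]
    have h : (ρ a)⁻¹ (ρ a v) = v := (ρ a).symm_apply_apply v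
    rw [ha'] at h
    exact h

theorem mem_stabSub {G : Type w} [Group G] (ρ : G →* (V ≃ₗ[ZMod 2] V)) (v : V) (g : G) :
    g ∈ stabSub ρ v ↔ ρ g v = v := Iff.rfl

/-- Double counting. -/
theorem double_count {α β : Type*} (s : Finset α) (t : Finset β) (r : α → β → Prop)
    [∀ a b, Decidable (r a b)] (m n : ℕ) (h1 : ∀ a ∈ s, m ≤ (t.filter (r a)).card)
    (h2 : ∀ b ∈ t, (s.filter (fun a => r a b)).card ≤ n) : s.card * m ≤ t.card * n := by
  have h := Finset.sum_card_bipartiteAbove_eq_sum_card_bipartiteBelow (s := s) (t := t) r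
  calc s.card * m = s.card • m := by simp
    _ ≤ ∑ a ∈ s, (t.bipartiteAbove r a).card := Finset.card_nsmul_le_sum _ _ _ h1
    _ = ∑ b ∈ t, (s.bipartiteBelow r b).card := h
    _ ≤ t.card • n := Finset.sum_le_card_nsmul _ _ _ h2
    _ = t.card * n := by simp

/-- Counting the elements of a set other than a given one. -/
theorem card_filter_mem_ne {α : Type*} [Fintype α] (S : Set α) (a : α) (ha : a ∈ S)
    [DecidablePred fun x => x ∈ S ∧ x ≠ a] :
    (Finset.univ.filter (fun x => x ∈ S ∧ x ≠ a)).card = Nat.card S - 1 := by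
  have h : ((Finset.univ.filter (fun x => x ∈ S ∧ x ≠ a) : Finset α) : Set α) = S \ {a} := by
    ext x; simp
  rw [← Set.ncard_coe_finset, h, Set.ncard_sdiff_singleton_of_mem ha, Nat.card_coe_set_eq]

/-- A free action of a group on a finite set: the order of the group divides the number of
points. -/
theorem card_dvd_of_free {B X : Type*} [Group B] [MulAction B X]
    (h : ∀ (b : B) (x : X), b • x = x → b = 1) : Nat.card B ∣ Nat.card X := by
  have e := MulAction.selfEquivOrbitsQuotientProd (G := B) (X := X) (fun x => by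
    rw [eq_bot_iff]; intro b hb; exact (Subgroup.mem_bot).2 (h b x hb))
  rw [Nat.card_congr e, Nat.card_prod]
  exact Dvd.intro_left _ rfl

/-- S3360-64B. -/
theorem s64b (hgl : GL6Stmt.{u, w}) : S64BStmt.{u, w} := by
  intro V _ _ _ _ G _ _ ρ hinj htr hV hB
  classical
  have hp7 : Fact (Nat.Prime 7) := ⟨by norm_num⟩
  have hBn : (Cfsg.pCore 7 G).Normal := Subgroup.sSup_normal _ (fun H h => h.1)
  have hBp : IsPGroup 7 (Cfsg.pCore 7 G) :=
    Sylow.sSup_of_normal _ (fun _ h => h.2) (fun _ h => h.1)
  generalize Cfsg.pCore 7 G = B at hB hBn hBp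
  have hGd : Nat.card G ∣ 20158709760 := hgl ρ hinj hV
  obtain ⟨k, hk⟩ := hBp.exists_card_eq
  have hBd : Nat.card B ∣ 20158709760 := (Subgroup.card_subgroup_dvd_card B).trans hGd
  have hk2 : k ≤ 2 := by
    by_contra h
    have h3 : 3 ≤ k := by omega
    have h7 : 7 ^ 3 ∣ 7 ^ k := pow_dvd_pow 7 h3
    rw [← hk] at h7
    have := h7.trans hBd
    norm_num at this
  have hk0 : k ≠ 0 := by
    intro h
    rw [h, pow_zero] at hk
    exact hB (Subgroup.card_eq_one.1 hk)
  -- fixed points of nonidentity elements of `B`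
  have hfix : ∀ b ∈ B, b ≠ 1 → Nat.card (fixSub (ρ b)) ≤ 8 := by
    intro b hb hb1
    have hpow : (ρ b) ^ 7 ^ k = 1 := by
      rw [← map_pow, ← hk]
      have h1 : (⟨b, hb⟩ : B) ^ Nat.card B = 1 := pow_card_eq_one'
      have h2 : b ^ Nat.card B = 1 := congrArg Subtype.val h1
      rw [h2, map_one]
    have h1 := card_modEq_fix (ρ b) k hpow ⊤ (fun v _ => trivial)
    have h2 : Nat.card (⊤ : Submodule (ZMod 2) V) = 64 := by
      rw [← hV]
      exact Nat.card_congr (Submodule.topEquiv (R := ZMod 2) (M := V)).toEquiv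
    have h3 : Nat.card {v : (⊤ : Submodule (ZMod 2) V) // ρ b (v : V) = v}
        = Nat.card (fixSub (ρ b)) := by
      apply Nat.card_congr
      exact { toFun := fun x => ⟨x.1.1, x.2⟩, invFun := fun x => ⟨⟨x.1, trivial⟩, x.2⟩,
              left_inv := fun x => rfl, right_inv := fun x => rfl }
    rw [h2, h3] at h1
    have h4 : Nat.card (fixSub (ρ b)) ≡ 1 [MOD 7] := h1.symm.trans (by decide)
    rcases card_sub_cases hV _ h4 with h | h | h
    · omega
    · omega
    · exfalso
      have htop := eq_top_of_card_eq _ (h.trans hV.symm)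
      apply hb1
      apply hinj
      rw [map_one]
      apply LinearEquiv.ext
      intro v
      have : v ∈ fixSub (ρ b) := by rw [htop]; trivial
      exact this
  have hk12 : k = 1 ∨ k = 2 := by omega
  rcases hk12 with rfl | rfl
  · -- `B` has order 7
    rw [pow_one] at hk
    obtain ⟨y, hyB, hy1⟩ : ∃ y ∈ B, y ≠ 1 := by
      by_contra h
      push_neg at h
      exact hB ((Subgroup.eq_bot_iff_forall B).2 h)
    have hord : orderOf y = 7 := by
      have hd : orderOf y ∣ 7 := by
        have := Subgroup.orderOf_dvd_natCard B hyB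
        rwa [hk] at this
      rcases (Nat.dvd_prime (by norm_num : Nat.Prime 7)).1 hd with h | h
      · exact absurd (orderOf_eq_one_iff.1 h) hy1
      · exact h
    have hBz : B = Subgroup.zpowers y := by
      symm
      apply Subgroup.eq_of_le_of_card_ge ((Subgroup.zpowers_le).2 hyB)
      rw [Nat.card_zpowers, hord, hk]
    refine ⟨y, hord, ?_, hBz⟩
    intro v₀ hv₀
    by_contra hne
    apply hy1
    apply hinj
    rw [map_one]
    apply LinearEquiv.ext
    intro v
    by_cases hv : v = 0
    · rw [hv, map_zero, map_zero]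
    · obtain ⟨g, hg⟩ := htr v₀ v hne hv
      have hconj : g⁻¹ * y * g ∈ stabSub ρ v₀ := by
        have h1 : g⁻¹ * y * g ∈ B := by
          have := hBn.conj_mem y hyB g⁻¹
          simpa using this
        rw [hBz] at h1
        exact (Subgroup.zpowers_le.2 ((mem_stabSub ρ v₀ y).2 hv₀)) h1
      have h2 : ρ (g⁻¹ * y * g) v₀ = v₀ := hconj
      rw [← hg]
      change ρ y (ρ g v₀) = ρ g v₀
      calc ρ y (ρ g v₀) = ρ (g * (g⁻¹ * y * g)) v₀ := by
              rw [← LinearEquiv.mul_apply, ← map_mul]; congr 2; group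
        _ = ρ g (ρ (g⁻¹ * y * g) v₀) := by rw [map_mul]; rfl
        _ = ρ g v₀ := by rw [h2]
  · -- `B` has order 49: impossible
    exfalso
    have hcB : Nat.card B = 49 := by rw [hk]; norm_num
    have hex : ∃ v₀ : V, v₀ ≠ 0 ∧ ∃ b₀ ∈ B, b₀ ≠ 1 ∧ ρ b₀ v₀ = v₀ := by
      by_contra hcon
      push_neg at hcon
      letI : MulAction B {v : V // v ≠ 0} :=
        { smul := fun b v => ⟨ρ (b : G) v.1, fun h => v.2 ((ρ (b : G)).map_eq_zero_iff.1 h)⟩
          one_smul := fun v => Subtype.ext (by
            change ρ ((1 : B) : G) v.1 = v.1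
            rw [Subgroup.coe_one, map_one]; rfl)
          mul_smul := fun a b v => Subtype.ext (by
            change ρ ((a * b : B) : G) v.1 = ρ (a : G) (ρ (b : G) v.1)
            rw [Subgroup.coe_mul, map_mul]; rfl) }
      have hfree : ∀ (b : B) (x : {v : V // v ≠ 0}), b • x = x → b = 1 := by
        intro b x hbx
        by_contra hb1
        have h1 : ρ (b : G) x.1 = x.1 := congrArg Subtype.val hbx
        exact hcon x.1 x.2 b.1 b.2 (fun h => hb1 (Subtype.ext h)) h1
      have hdvd := card_dvd_of_free hfree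
      have hX : Nat.card {v : V // v ≠ 0} = 63 := by
        have h1 : Nat.card {v : V // v ≠ 0} = ({0}ᶜ : Set V).ncard :=
          Nat.card_coe_set_eq ({0}ᶜ : Set V)
        rw [h1, Set.ncard_compl, Set.ncard_singleton, hV]
      rw [hX, hcB] at hdvd
      norm_num at hdvd
    obtain ⟨v₀, hv₀, b₀, hb₀B, hb₀1, hb₀v⟩ := hex
    haveI : Fintype V := Fintype.ofFinite V
    haveI : Fintype G := Fintype.ofFinite G
    have hcount := double_count (Finset.univ.filter (fun v : V => v ∈ (Set.univ : Set V) ∧ v ≠ 0))
      (Finset.univ.filter (fun b : G => b ∈ (B : Set G) ∧ b ≠ 1)) (fun v b => ρ b v = v) 6 7 ?_ ?_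
    · rw [card_filter_mem_ne (Set.univ : Set V) 0 (Set.mem_univ 0),
        card_filter_mem_ne (B : Set G) 1 B.one_mem] at hcount
      have h1 : Nat.card (Set.univ : Set V) = 64 := by
        rw [Nat.card_coe_set_eq, Set.ncard_univ, hV]
      have h2 : Nat.card (B : Set G) = 49 := hcB
      rw [h1, h2] at hcount
      omega
    · -- each nonzero vector is fixed by at least 6 nonidentity elements of `B`
      intro v hv
      have hv0 : v ≠ 0 := (Finset.mem_filter.1 hv).2.2
      obtain ⟨g, hg⟩ := htr v₀ v hv₀ hv0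
      set H : Subgroup G := B ⊓ stabSub ρ v with hH
      have hHp : IsPGroup 7 H := hBp.to_le inf_le_left
      obtain ⟨j, hj⟩ := hHp.exists_card_eq
      have hmem : g * b₀ * g⁻¹ ∈ H := by
        refine ⟨hBn.conj_mem b₀ hb₀B g, ?_⟩
        change ρ (g * b₀ * g⁻¹) v = v
        rw [← hg]
        calc ρ (g * b₀ * g⁻¹) (ρ g v₀) = ρ (g * b₀) v₀ := by
                rw [← LinearEquiv.mul_apply, ← map_mul]; congr 2; group
          _ = ρ g (ρ b₀ v₀) := by rw [map_mul]; rfl
          _ = ρ g v₀ := by rw [hb₀v]
      have hne1 : g * b₀ * g⁻¹ ≠ 1 := by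
        intro h
        apply hb₀1
        have h' : b₀ = g⁻¹ * (g * b₀ * g⁻¹) * g := by group
        rw [h', h]; group
      have hj0 : j ≠ 0 := by
        intro h
        rw [h, pow_zero] at hj
        have hbot := Subgroup.card_eq_one.1 hj
        rw [hbot] at hmem
        exact hne1 (Subgroup.mem_bot.1 hmem)
      have h7 : 7 ≤ Nat.card H := by
        rw [hj]
        calc 7 = 7 ^ 1 := by norm_num
          _ ≤ 7 ^ j := Nat.pow_le_pow_right (by norm_num) (by omega)
      have heq : (Finset.univ.filter (fun b : G => b ∈ (B : Set G) ∧ b ≠ 1)).filter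
          (fun b => ρ b v = v) = Finset.univ.filter (fun b : G => b ∈ (H : Set G) ∧ b ≠ 1) := by
        ext b
        simp only [Finset.mem_filter, Finset.mem_univ, true_and, SetLike.mem_coe, hH,
          Subgroup.mem_inf, mem_stabSub]
        tauto
      rw [heq, card_filter_mem_ne (H : Set G) 1 H.one_mem]
      have h' : Nat.card (H : Set G) = Nat.card H := rfl
      omega
    · -- each nonidentity element of `B` fixes at most 7 nonzero vectors
      intro b hb
      have hbB : b ∈ B := (Finset.mem_filter.1 hb).2.1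
      have hb1 : b ≠ 1 := (Finset.mem_filter.1 hb).2.2
      have heq : (Finset.univ.filter (fun v : V => v ∈ (Set.univ : Set V) ∧ v ≠ 0)).filter
          (fun v => ρ b v = v)
          = Finset.univ.filter (fun v : V => v ∈ (fixSub (ρ b) : Set V) ∧ v ≠ 0) := by
        ext v
        simp only [Finset.mem_filter, Finset.mem_univ, true_and, SetLike.mem_coe, Set.mem_univ,
          mem_fixSub]
        tauto
      rw [heq, card_filter_mem_ne (fixSub (ρ b) : Set V) 0 (fixSub (ρ b)).zero_mem]
      have h1 := hfix b hbB hb1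
      have h' : Nat.card ((fixSub (ρ b) : Submodule (ZMod 2) V) : Set V)
          = Nat.card (fixSub (ρ b)) := rfl
      omega

end Cfsg.Agent.H8.Hup
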