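import Mathlib
import Cfsg.Agent.H95.HupDefs
import Cfsg.Agent.H8.HupAux

/-!
# Huppert's theorem (S3360), piece 64C (helper8)

`y` of order `7`, fixed-point-free on the space with `64` elements, `zpowers y` normal, `G`
transitive on the nonzero vectors; a normal abelian subgroup `N` commuting with `y` either lies in
`zpowers y` or `G` has a normal abelian subgroup acting irreducibly.
-/

set_option autoImplicit false
set_option linter.unusedSectionVars false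

universe u w

namespace Cfsg.Agent.H8.Hup

open Cfsg.Agent.H95.Hup

variable {V : Type u} [AddCommGroup V] [Module (ZMod 2) V] [Finite V]

theorem pow_fix_of_fix (T : V ≃ₗ[ZMod 2] V) (v : V) (h : T v = v) (m : ℕ) : (T ^ m) v = v := by
  induction m with
  | zero => rfl
  | succ m ih =>
    rw [pow_succ]
    change (T ^ m) (T v) = v
    rw [h, ih]

/-- Distinct powers of a fixed-point-free element of order `7` move a nonzero vector to distinct
vectors. -/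
theorem pow_inj {G : Type w} [Group G] (ρ : G →* (V ≃ₗ[ZMod 2] V)) {y : G} (hy : orderOf y = 7)
    (hfpf : FPF 2 ρ y) {v : V} (hv : v ≠ 0) {i j : ℕ} (hi : i < 7) (hj : j < 7)
    (h : ρ (y ^ i) v = ρ (y ^ j) v) : i = j := by
  by_contra hne
  have : Fact (Nat.Prime 7) := ⟨by norm_num⟩
  set z : G := (y ^ j)⁻¹ * y ^ i with hz
  have hzv : ρ z v = v := by
    rw [hz, map_mul, map_inv]
    change (ρ (y ^ j))⁻¹ (ρ (y ^ i) v) = v
    rw [h]
    exact (ρ (y ^ j)).symm_apply_apply v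
  have hz1 : z ≠ 1 := by
    intro h1
    have : y ^ i = y ^ j := by
      rw [hz, inv_mul_eq_one] at h1; exact h1.symm
    exact hne (pow_injOn_Iio_orderOf (by rw [hy]; exact hi) (by rw [hy]; exact hj) this)
  have hzmem : z ∈ Subgroup.zpowers y :=
    Subgroup.mul_mem _ (Subgroup.inv_mem _ (Subgroup.pow_mem _ (Subgroup.mem_zpowers y) j))
      (Subgroup.pow_mem _ (Subgroup.mem_zpowers y) i)
  have hcard : Nat.card (Subgroup.zpowers y) = 7 := by rw [Nat.card_zpowers, hy]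
  haveI : Finite (Subgroup.zpowers y) := Nat.finite_of_card_ne_zero (by rw [hcard]; norm_num)
  have hmem := mem_powers_of_prime_card (G := Subgroup.zpowers y) hcard (g := ⟨z, hzmem⟩)
    (g' := ⟨y, Subgroup.mem_zpowers y⟩) (by intro h; exact hz1 (congrArg Subtype.val h))
  obtain ⟨m, hm⟩ := hmem
  have hm' : z ^ m = y := congrArg Subtype.val hm
  have : ρ y v = v := by
    rw [← hm', map_pow]
    exact pow_fix_of_fix _ _ hzv m
  exact hv (hfpf v this)

/-- The nonzero vectors of an invariant submodule with `8` elements form one orbit. -/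
theorem orbit_eq {G : Type w} [Group G] (ρ : G →* (V ≃ₗ[ZMod 2] V)) {y : G} (hy : orderOf y = 7)
    (hfpf : FPF 2 ρ y) (W : Submodule (ZMod 2) V) (hW : ∀ v ∈ W, ρ y v ∈ W)
    (hc : Nat.card W = 8) {w₀ : V} (hw₀ : w₀ ∈ W) (hne : w₀ ≠ 0) {w : V} (hw : w ∈ W)
    (hwne : w ≠ 0) : ∃ j < 7, w = ρ (y ^ j) w₀ := by
  have hpowW : ∀ (j : ℕ), ∀ v ∈ W, ρ (y ^ j) v ∈ W := by
    intro j
    induction j with
    | zero => intro v hv; simpa using hv
    | succ j ih => intro v hv; rw [pow_succ, map_mul]; exact ih _ (hW v hv)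
  let φ : Fin 7 → V := fun j => ρ (y ^ (j : ℕ)) w₀
  have hφinj : Function.Injective φ := by
    intro a b hab
    exact Fin.ext (pow_inj ρ hy hfpf hne a.2 b.2 hab)
  have hsub : Set.range φ ⊆ (W : Set V) \ {0} := by
    rintro _ ⟨j, rfl⟩
    refine ⟨hpowW _ _ hw₀, ?_⟩
    simp only [Set.mem_singleton_iff]
    intro h
    exact hne ((ρ (y ^ (j : ℕ))).map_eq_zero_iff.1 h)
  have hcard1 : (Set.range φ).ncard = 7 := by
    rw [← Nat.card_coe_set_eq, Nat.card_range_of_injective hφinj, Nat.card_fin]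
  have hcard2 : ((W : Set V) \ {0}).ncard = 7 := by
    rw [Set.ncard_sdiff_singleton_of_mem W.zero_mem, ← Nat.card_coe_set_eq]
    change Nat.card W - 1 = 7
    rw [hc]
  have heq : Set.range φ = (W : Set V) \ {0} :=
    Set.eq_of_subset_of_ncard_le hsub (by rw [hcard1, hcard2])
  have : w ∈ Set.range φ := by rw [heq]; exact ⟨hw, hwne⟩
  obtain ⟨j, hj⟩ := this
  exact ⟨j, j.2, hj.symm⟩

/-- S3360-64C. -/
theorem s64c : S64CStmt.{u, w} := by
  intro V _ _ _ _ G _ _ ρ hinj htr hV y hy hfpf hynorm N hN hNab hNy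
  classical
  have h7 : y ^ 7 = 1 := by rw [← hy]; exact pow_orderOf_eq_one y
  have hT7 : (ρ y) ^ 7 ^ 1 = 1 := by rw [pow_one, ← map_pow, h7, map_one]
  have hMeq : N ⊔ Subgroup.zpowers y
      = Subgroup.closure ((N : Set G) ∪ (Subgroup.zpowers y : Set G)) := by
    rw [Subgroup.closure_union, Subgroup.closure_eq, Subgroup.closure_eq]
  have hMn : (N ⊔ Subgroup.zpowers y).Normal := inferInstance
  have hyM : y ∈ N ⊔ Subgroup.zpowers y :=
    (le_sup_right : Subgroup.zpowers y ≤ N ⊔ Subgroup.zpowers y) (Subgroup.mem_zpowers y)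
  have hgen : ∀ a ∈ (N : Set G) ∪ (Subgroup.zpowers y : Set G),
      ∀ b ∈ (N : Set G) ∪ (Subgroup.zpowers y : Set G), a * b = b * a := by
    rintro a (ha | ha) b (hb | hb)
    · exact hNab a ha b hb
    · obtain ⟨k, rfl⟩ := Subgroup.mem_zpowers_iff.1 hb
      exact (Commute.zpow_right (hNy a ha) k)
    · obtain ⟨k, rfl⟩ := Subgroup.mem_zpowers_iff.1 ha
      exact (Commute.zpow_right (hNy b hb) k).symm
    · obtain ⟨k, rfl⟩ := Subgroup.mem_zpowers_iff.1 ha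
      obtain ⟨l, rfl⟩ := Subgroup.mem_zpowers_iff.1 hb
      exact (Commute.zpow_zpow (Commute.refl y) k l)
  have hMab : ∀ a ∈ N ⊔ Subgroup.zpowers y, ∀ b ∈ N ⊔ Subgroup.zpowers y, a * b = b * a := by
    rw [hMeq]
    intro a ha b hb
    letI := Subgroup.closureCommGroupOfComm hgen
    exact congrArg Subtype.val (mul_comm (⟨a, ha⟩ : Subgroup.closure _) ⟨b, hb⟩)
  have hNM : N ≤ N ⊔ Subgroup.zpowers y := le_sup_left
  generalize N ⊔ Subgroup.zpowers y = M at hMn hyM hMab hNM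
  by_cases hirr : ∀ W : Submodule (ZMod 2) V, (∀ a ∈ M, ∀ v ∈ W, ρ a v ∈ W) → W = ⊥ ∨ W = ⊤
  · exact Or.inl ⟨M, hMn, hMab, hirr⟩
  · right
    push_neg at hirr
    obtain ⟨W, hWinv, hWbot, hWtop⟩ := hirr
    -- cardinalities of invariant submodules
    have hcard : ∀ W' : Submodule (ZMod 2) V, (∀ a ∈ M, ∀ v ∈ W', ρ a v ∈ W') →
        Nat.card W' = 1 ∨ Nat.card W' = 8 ∨ Nat.card W' = 64 := by
      intro W' hW'
      apply card_sub_cases hV
      refine (card_modEq_fix (ρ y) 1 hT7 W' (hW' y hyM)).trans ?_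
      have : Nat.card {v : W' // ρ y (v : V) = v} = 1 := by
        rw [Nat.card_eq_one_iff_unique]
        refine ⟨⟨?_⟩, ⟨⟨0, by simp⟩⟩⟩
        intro a b
        apply Subtype.ext; apply Subtype.ext
        rw [hfpf _ a.2, hfpf _ b.2]
      rw [this]
    have hL8 : ∀ W' : Submodule (ZMod 2) V, (∀ a ∈ M, ∀ v ∈ W', ρ a v ∈ W') → W' ≠ ⊥ → W' ≠ ⊤ →
        Nat.card W' = 8 := by
      intro W' hW' hb ht
      rcases hcard W' hW' with h | h | h
      · exact absurd (eq_bot_of_card_one W' h) hb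
      · exact h
      · exact absurd (eq_top_of_card_eq W' (h.trans hV.symm)) ht
    have hW8 := hL8 W hWinv hWbot hWtop
    -- every nonzero vector lies in an invariant submodule with 8 elements
    have hcover : ∀ v : V, v ≠ 0 → ∃ W' : Submodule (ZMod 2) V,
        (∀ a ∈ M, ∀ v ∈ W', ρ a v ∈ W') ∧ Nat.card W' = 8 ∧ v ∈ W' := by
      intro v hv
      obtain ⟨w₀, hw₀, hw₀ne⟩ := (Submodule.ne_bot_iff W).1 hWbot
      obtain ⟨g, hg⟩ := htr w₀ v hw₀ne hv
      refine ⟨W.map (ρ g).toLinearMap, ?_, ?_, ?_⟩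
      · intro a ha v' hv'
        obtain ⟨w, hw, rfl⟩ := Submodule.mem_map.1 hv'
        refine Submodule.mem_map.2 ⟨ρ (g⁻¹ * a * g) w, hWinv _ ?_ w hw, ?_⟩
        · have := hMn.conj_mem a ha g⁻¹
          simpa using this
        · change ρ g (ρ (g⁻¹ * a * g) w) = ρ a (ρ g w)
          rw [← LinearEquiv.mul_apply, ← map_mul, ← LinearEquiv.mul_apply, ← map_mul]
          congr 2; group
      · rw [← hW8]
        exact Nat.card_congr ((ρ g).submoduleMap W).toEquiv.symm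
      · exact Submodule.mem_map.2 ⟨w₀, hw₀, hg⟩
    -- distinct members meet trivially and span
    have hmeet : ∀ W₁ W₂ : Submodule (ZMod 2) V, (∀ a ∈ M, ∀ v ∈ W₁, ρ a v ∈ W₁) →
        (∀ a ∈ M, ∀ v ∈ W₂, ρ a v ∈ W₂) → Nat.card W₁ = 8 → Nat.card W₂ = 8 → W₁ ≠ W₂ →
        W₁ ⊓ W₂ = ⊥ := by
      intro W₁ W₂ h₁ h₂ c₁ c₂ hne
      have hinv : ∀ a ∈ M, ∀ v ∈ W₁ ⊓ W₂, ρ a v ∈ W₁ ⊓ W₂ :=
        fun a ha v hv => ⟨h₁ a ha v hv.1, h₂ a ha v hv.2⟩
      rcases hcard _ hinv with h | h | h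
      · exact eq_bot_of_card_one _ h
      · exfalso
        have e₁ := eq_of_le_of_card_eq (W₁ ⊓ W₂) W₁ inf_le_left (h.trans c₁.symm)
        have e₂ := eq_of_le_of_card_eq (W₁ ⊓ W₂) W₂ inf_le_right (h.trans c₂.symm)
        exact hne (e₁.symm.trans e₂)
      · exfalso
        have : Nat.card (W₁ ⊓ W₂ : Submodule (ZMod 2) V) ≤ Nat.card W₁ :=
          Nat.card_le_card_of_injective (Submodule.inclusion inf_le_left)
            (Submodule.inclusion_injective _)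
        omega
    have hsup : ∀ W₁ W₂ : Submodule (ZMod 2) V, (∀ a ∈ M, ∀ v ∈ W₁, ρ a v ∈ W₁) →
        (∀ a ∈ M, ∀ v ∈ W₂, ρ a v ∈ W₂) → Nat.card W₁ = 8 → Nat.card W₂ = 8 → W₁ ≠ W₂ →
        W₁ ⊔ W₂ = ⊤ := by
      intro W₁ W₂ h₁ h₂ c₁ c₂ hne
      have hinv : ∀ a ∈ M, ∀ v ∈ W₁ ⊔ W₂, ρ a v ∈ W₁ ⊔ W₂ := by
        intro a ha v hv
        obtain ⟨v₁, hv₁, v₂, hv₂, rfl⟩ := Submodule.mem_sup.1 hv
        rw [map_add]
        exact Submodule.add_mem _ (Submodule.mem_sup_left (h₁ a ha v₁ hv₁))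
          (Submodule.mem_sup_right (h₂ a ha v₂ hv₂))
      rcases hcard _ hinv with h | h | h
      · exfalso
        have : Nat.card W₁ ≤ Nat.card (W₁ ⊔ W₂ : Submodule (ZMod 2) V) :=
          Nat.card_le_card_of_injective (Submodule.inclusion le_sup_left)
            (Submodule.inclusion_injective _)
        omega
      · exfalso
        have e₁ := eq_of_le_of_card_eq W₁ (W₁ ⊔ W₂) le_sup_left (c₁.trans h.symm)
        have e₂ := eq_of_le_of_card_eq W₂ (W₁ ⊔ W₂) le_sup_right (c₂.trans h.symm)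
        exact hne (e₁.trans e₂.symm)
      · exact eq_top_of_card_eq _ (h.trans hV.symm)
    -- an element of `M` acts on a member as a power of `y`
    have hact : ∀ g ∈ M, ∀ W' : Submodule (ZMod 2) V, (∀ a ∈ M, ∀ v ∈ W', ρ a v ∈ W') →
        Nat.card W' = 8 → ∀ w' ∈ W', w' ≠ 0 → ∃ k < 7, ∀ w ∈ W', ρ g w = ρ (y ^ k) w := by
      intro g hg W' hW' c w' hw' hw'ne
      have hgw : ρ g w' ∈ W' := hW' g hg w' hw'
      have hgwne : ρ g w' ≠ 0 := by
        intro h; exact hw'ne ((ρ g).map_eq_zero_iff.1 h)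
      obtain ⟨k, hk, hkeq⟩ := orbit_eq ρ hy hfpf W' (hW' y hyM) c hw' hw'ne hgw hgwne
      refine ⟨k, hk, ?_⟩
      intro w hw
      by_cases hw0 : w = 0
      · rw [hw0, map_zero, map_zero]
      · obtain ⟨j, hj, hjeq⟩ := orbit_eq ρ hy hfpf W' (hW' y hyM) c hw' hw'ne hw hw0
        rw [hjeq]
        have hyj : y ^ j ∈ M := Subgroup.pow_mem _ hyM j
        calc ρ g (ρ (y ^ j) w') = ρ (g * y ^ j) w' := by rw [map_mul]; rfl
          _ = ρ (y ^ j * g) w' := by rw [hMab g hg _ hyj]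
          _ = ρ (y ^ j) (ρ g w') := by rw [map_mul]; rfl
          _ = ρ (y ^ j) (ρ (y ^ k) w') := by rw [hkeq]
          _ = ρ (y ^ j * y ^ k) w' := by rw [map_mul]; rfl
          _ = ρ (y ^ k * y ^ j) w' := by rw [← pow_add, ← pow_add, add_comm]
          _ = ρ (y ^ k) (ρ (y ^ j) w') := by rw [map_mul]; rfl
    -- three members
    obtain ⟨w₁, hw₁, hw₁ne⟩ := (Submodule.ne_bot_iff W).1 hWbot
    obtain ⟨v₂, hv₂⟩ : ∃ v, v ∉ W := by
      by_contra h
      push_neg at h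
      exact hWtop (eq_top_iff.2 fun v _ => h v)
    have hv₂ne : v₂ ≠ 0 := fun h => hv₂ (h ▸ W.zero_mem)
    obtain ⟨W₂, hW₂inv, hW₂8, hv₂W₂⟩ := hcover v₂ hv₂ne
    have hne12 : W ≠ W₂ := fun h => hv₂ (h ▸ hv₂W₂)
    have hm12 := hmeet W W₂ hWinv hW₂inv hW8 hW₂8 hne12
    have hs12 := hsup W W₂ hWinv hW₂inv hW8 hW₂8 hne12
    have hv₃ne : w₁ + v₂ ≠ 0 := by
      intro h
      have : v₂ = -w₁ := by rw [eq_neg_iff_add_eq_zero, add_comm]; exact h
      exact hv₂ (this ▸ W.neg_mem hw₁)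
    obtain ⟨W₃, hW₃inv, hW₃8, hv₃W₃⟩ := hcover (w₁ + v₂) hv₃ne
    have hMle : M ≤ Subgroup.zpowers y := by
      intro g hg
      obtain ⟨k₁, hk₁, e₁⟩ := hact g hg W hWinv hW8 w₁ hw₁ hw₁ne
      obtain ⟨k₂, hk₂, e₂⟩ := hact g hg W₂ hW₂inv hW₂8 v₂ hv₂W₂ hv₂ne
      obtain ⟨k₃, hk₃, e₃⟩ := hact g hg W₃ hW₃inv hW₃8 (w₁ + v₂) hv₃W₃ hv₃ne
      have hk : ∀ j : ℕ, ∀ W' : Submodule (ZMod 2) V, (∀ a ∈ M, ∀ v ∈ W', ρ a v ∈ W') →
          ∀ v ∈ W', ρ (y ^ j) v ∈ W' :=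
        fun j W' hW' v hv => hW' _ (Subgroup.pow_mem _ hyM j) v hv
      have key : ρ (y ^ k₃) w₁ - ρ (y ^ k₁) w₁ = ρ (y ^ k₂) v₂ - ρ (y ^ k₃) v₂ := by
        have h1 := e₃ (w₁ + v₂) hv₃W₃
        rw [map_add, map_add, e₁ w₁ hw₁, e₂ v₂ hv₂W₂] at h1
        rw [sub_eq_sub_iff_add_eq_add, ← h1, add_comm]
      have hz : ρ (y ^ k₃) w₁ - ρ (y ^ k₁) w₁ ∈ W ⊓ W₂ :=
        ⟨W.sub_mem (hk _ W hWinv _ hw₁) (hk _ W hWinv _ hw₁), by
          rw [key]; exact W₂.sub_mem (hk _ W₂ hW₂inv _ hv₂W₂) (hk _ W₂ hW₂inv _ hv₂W₂)⟩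
      rw [hm12, Submodule.mem_bot, sub_eq_zero] at hz
      have hz2 : ρ (y ^ k₂) v₂ - ρ (y ^ k₃) v₂ = 0 := by rw [← key, hz, sub_self]
      rw [sub_eq_zero] at hz2
      have h31 : k₃ = k₁ := pow_inj ρ hy hfpf hw₁ne hk₃ hk₁ hz
      have h23 : k₂ = k₃ := pow_inj ρ hy hfpf hv₂ne hk₂ hk₃ hz2
      have : ρ g = ρ (y ^ k₁) := by
        apply LinearEquiv.ext
        intro v
        have hv : v ∈ W ⊔ W₂ := by rw [hs12]; trivial
        obtain ⟨a, ha, b, hb, rfl⟩ := Submodule.mem_sup.1 hv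
        rw [map_add, map_add, e₁ a ha, e₂ b hb, h23, h31]
      rw [hinj this]
      exact Subgroup.pow_mem _ (Subgroup.mem_zpowers y) _
    exact hNM.trans hMle

end Cfsg.Agent.H8.Hup
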