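import Mathlib
import Cfsg.Agent.H99.I2Defs

/-!
# I2 sub-project (helper99; S5974 / S5990): piece I2-X4 (helper8)

The orthogonal sum of two invariant nondegenerate planes with `rank (T - 1) = 1` contains
invariant nondegenerate planes of both types.
-/

set_option autoImplicit false

namespace Cfsg.Agent.H8.I2

open Cfsg.Agent.H45 Cfsg.Agent.H48.Ep Cfsg.Agent.H99.I2 Module

universe u v

section

variable {F : Type u} [Field F] {V : Type v} [AddCommGroup V] [Module F V]

/-- every element of a finite field of characteristic `2` is a square -/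
theorem x4_sqrt [Finite F] (h2 : (2 : F) = 0) (a : F) : ∃ l : F, l ^ 2 = a := by
  have hinj : Function.Injective (fun x : F => x ^ 2) := by
    intro x y h
    have h' : x ^ 2 = y ^ 2 := h
    have h1 : (x - y) ^ 2 = 0 := by linear_combination h' + (y ^ 2 - x * y) * h2
    have h3 : x - y = 0 := by simpa using h1
    exact sub_eq_zero.mp h3
  exact (Finite.injective_iff_surjective.mp hinj) a

/-- an element which is not of the form `s² + s` -/
theorem x4_delta [Finite F] (h2 : (2 : F) = 0) : ∃ δ : F, ∀ s : F, s ^ 2 + s ≠ δ := by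
  have hninj : ¬ Function.Injective (fun x : F => x ^ 2 + x) := by
    intro hinj
    have h1 : (fun x : F => x ^ 2 + x) 1 = (fun x : F => x ^ 2 + x) 0 := by
      show (1 : F) ^ 2 + 1 = 0 ^ 2 + 0
      linear_combination h2
    exact one_ne_zero (hinj h1)
  have hnsurj : ¬ Function.Surjective (fun x : F => x ^ 2 + x) :=
    fun hs => hninj (Finite.injective_iff_surjective.mpr hs)
  by_contra hcon
  push Not at hcon
  exact hnsurj (fun δ => hcon δ)

/-- an invariant nondegenerate subspace on which `T - 1` has rank `1`: a vector `v` with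
`f = T v - v` fixed by `T` and non-singular -/
theorem x4_plane [FiniteDimensional F V] {Q : QuadraticForm F V} {T : Module.End F V}
    (hC : I2Ctx Q T) {P : Submodule F V} (hP : Inv Q T P) (hrk : rk T P = 1) :
    ∃ v f : V, v ∈ P ∧ f ∈ P ∧ T v = v + f ∧ T f = f ∧ Q f ≠ 0 ∧
      QuadraticMap.polar ⇑Q v f = Q f := by
  have h2 := hC.two
  have hneg : ∀ w : V, -w = w := by
    intro w
    rw [neg_eq_iff_add_eq_zero, ← two_smul F w, h2, zero_smul]
  have hnegF : ∀ a : F, -a = a := by
    intro a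
    rw [neg_eq_iff_add_eq_zero, ← two_mul, h2, zero_mul]
  have hTT : ∀ w, T (T w) = w := fun w => congrArg (fun f : Module.End F V => f w) hC.sq
  have hisom : ∀ x y, QuadraticMap.polar ⇑Q (T x) (T y) = QuadraticMap.polar ⇑Q x y := by
    intro x y
    rw [QuadraticMap.polar, QuadraticMap.polar, ← map_add, hC.isom, hC.isom, hC.isom]
  have hPinv : ∀ w ∈ P, T w ∈ P := fun w hw => hP.1 hw
  have hrk' : Module.finrank F ↥(P.map (T - 1)) = 1 := hrk
  obtain ⟨v, hv, hNv⟩ : ∃ v ∈ P, (T - 1) v ≠ 0 := by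
    by_contra hcon
    push Not at hcon
    have h1 : P.map (T - 1) = ⊥ := by
      rw [eq_bot_iff]
      rintro _ ⟨w, hw, rfl⟩
      rw [hcon w hw]
      exact Submodule.zero_mem _
    rw [h1, finrank_bot] at hrk'
    exact zero_ne_one hrk'
  obtain ⟨f, hf⟩ : ∃ f : V, f = (T - 1) v := ⟨_, rfl⟩
  have hfv : f = T v - v := by rw [hf, LinearMap.sub_apply, Module.End.one_apply]
  have hfne : f ≠ 0 := by rw [hf]; exact hNv
  have hfP : f ∈ P := by rw [hfv]; exact P.sub_mem (hPinv v hv) hv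
  have hTv : T v = v + f := by rw [hfv]; abel
  have hTf : T f = f := by
    rw [hfv, map_sub, hTT, ← neg_sub, hneg]
  have hkey : ∀ a b : V, QuadraticMap.polar ⇑Q a ((T - 1) b)
      = QuadraticMap.polar ⇑Q b ((T - 1) a) := by
    intro a b
    rw [LinearMap.sub_apply, LinearMap.sub_apply, Module.End.one_apply, Module.End.one_apply,
      QuadraticMap.polar_sub_right, QuadraticMap.polar_sub_right]
    have h1 : QuadraticMap.polar ⇑Q a (T b) = QuadraticMap.polar ⇑Q b (T a) := by
      rw [← hisom a (T b), hTT, QuadraticMap.polar_comm]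
    rw [h1, QuadraticMap.polar_comm (⇑Q) a b]
  have hQf : QuadraticMap.polar ⇑Q v f = Q f := by
    have h1 := QuadraticMap.map_add (⇑Q) v f
    rw [← hTv, hC.isom] at h1
    have h4 : QuadraticMap.polar ⇑Q v f = - Q f := by linear_combination -h1
    rw [h4, hnegF]
  refine ⟨v, f, hv, hfP, hTv, hTf, ?_, hQf⟩
  intro hQ0
  rw [hQ0] at hQf
  have hmem : f ∈ P ⊓ perp (QuadraticMap.polarBilin Q) P := by
    refine ⟨hfP, ?_⟩
    rw [SetLike.mem_coe, mem_perp]
    intro w hw
    show QuadraticMap.polar ⇑Q w f = 0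
    have hfmem : f ∈ P.map (T - 1) := by
      rw [hf]
      exact Submodule.mem_map_of_mem hv
    have h1 := (finrank_eq_one_iff_of_nonzero' (⟨f, hfmem⟩ : ↥(P.map (T - 1)))
      (by intro h; exact hfne (congrArg Subtype.val h))).mp hrk'
    obtain ⟨c, hc⟩ := h1 ⟨(T - 1) w, Submodule.mem_map_of_mem hw⟩
    have hc' : c • f = (T - 1) w := congrArg Subtype.val hc
    have h5 : QuadraticMap.polar ⇑Q w f = QuadraticMap.polar ⇑Q v ((T - 1) w) := by
      rw [hf]
      exact hkey w v
    rw [h5, ← hc', QuadraticMap.polar_smul_right, hQf, smul_zero]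
  have hnd : P ⊓ perp (QuadraticMap.polarBilin Q) P = ⊥ := hP.2
  rw [hnd] at hmem
  exact hfne ((Submodule.mem_bot F).mp hmem)

end

/-- I2-X4. -/
theorem x4 : Cfsg.Agent.H99.I2.StI2X4.{u, v} := by
  intro F _ _ V _ _ _ Q T hC P₁ P₂ hP₁ hP₂ hf₁ hf₂ hr₁ hr₂ horth pl
  have h2 := hC.two
  obtain ⟨v₁, f₁, hv₁, hf₁P, hTv₁, hTf₁, hQf₁, hB₁⟩ := x4_plane hC hP₁ hr₁
  obtain ⟨v₂, f₂, hv₂, hf₂P, hTv₂, hTf₂, hQf₂, hB₂⟩ := x4_plane hC hP₂ hr₂
  obtain ⟨β₁, hβ₁⟩ : ∃ β : F, β = Q f₁ := ⟨_, rfl⟩
  obtain ⟨β₂, hβ₂⟩ : ∃ β : F, β = Q f₂ := ⟨_, rfl⟩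
  have hβ₁ne : β₁ ≠ 0 := by rw [hβ₁]; exact hQf₁
  have hβ₂ne : β₂ ≠ 0 := by rw [hβ₂]; exact hQf₂
  have hself : ∀ w : V, QuadraticMap.polar ⇑Q w w = 0 := by
    intro w
    rw [QuadraticMap.polar_self, two_nsmul, ← two_mul, h2, zero_mul]
  have key : ∀ c : F, ∃ P : Submodule F V, P ≤ P₁ ⊔ P₂ ∧ Inv Q T P ∧ Module.finrank F ↥P = 2 ∧
      ∃ u : V, (∀ w ∈ P, ∃ x y : F, w = x • u + y • f₁) ∧ u ∈ P ∧ u ≠ 0 ∧
        ∀ x y : F, Q (x • u + y • f₁) = c * x ^ 2 + β₁ * y ^ 2 + β₁ * (x * y) := by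
    intro c
    obtain ⟨l, hl⟩ := x4_sqrt h2 ((c + Q v₁) / β₂)
    obtain ⟨u, hu⟩ : ∃ u : V, u = v₁ + l • f₂ := ⟨_, rfl⟩
    have hBf₂f₁ : QuadraticMap.polar ⇑Q f₂ f₁ = 0 := by
      rw [QuadraticMap.polar_comm]
      exact horth f₁ hf₁P f₂ hf₂P
    have hBuf₁ : QuadraticMap.polar ⇑Q u f₁ = β₁ := by
      rw [hu, QuadraticMap.polar_add_left, QuadraticMap.polar_smul_left, hBf₂f₁, smul_zero,
        add_zero, hB₁, hβ₁]
    have hBf₁u : QuadraticMap.polar ⇑Q f₁ u = β₁ := by
      rw [QuadraticMap.polar_comm]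
      exact hBuf₁
    have hQu : Q u = c := by
      rw [hu, QuadraticMap.map_add (⇑Q) v₁ (l • f₂), QuadraticMap.map_smul,
        QuadraticMap.polar_smul_right, horth v₁ hv₁ f₂ hf₂P, smul_zero, add_zero, smul_eq_mul,
        ← hβ₂]
      have h3 : l * l * β₂ = c + Q v₁ := by
        rw [← pow_two, hl]
        field_simp
      rw [h3]
      linear_combination (Q v₁) * h2
    have hTu : T u = u + f₁ := by
      rw [hu, map_add, map_smul, hTv₁, hTf₂]
      abel
    have hQform : ∀ x y : F, Q (x • u + y • f₁) = c * x ^ 2 + β₁ * y ^ 2 + β₁ * (x * y) := by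
      intro x y
      rw [QuadraticMap.map_add (⇑Q) (x • u) (y • f₁), QuadraticMap.map_smul,
        QuadraticMap.map_smul, QuadraticMap.polar_smul_left, QuadraticMap.polar_smul_right,
        hBuf₁, hQu, ← hβ₁]
      simp only [smul_eq_mul]
      ring
    have hcoef : ∀ x y : F,
        QuadraticMap.polar ⇑Q u (x • u + y • f₁) = y * β₁ ∧
        QuadraticMap.polar ⇑Q f₁ (x • u + y • f₁) = x * β₁ := by
      intro x y
      constructor
      · rw [QuadraticMap.polar_add_right, QuadraticMap.polar_smul_right,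
          QuadraticMap.polar_smul_right, hself, hBuf₁, smul_zero, zero_add, smul_eq_mul]
      · rw [QuadraticMap.polar_add_right, QuadraticMap.polar_smul_right,
          QuadraticMap.polar_smul_right, hBf₁u, hself, smul_zero, add_zero, smul_eq_mul]
    have hzero : ∀ x y : F, x • u + y • f₁ = 0 → x = 0 ∧ y = 0 := by
      intro x y hxy
      obtain ⟨h1, h3⟩ := hcoef x y
      rw [hxy, QuadraticMap.polar_zero_right] at h1 h3
      exact ⟨(mul_eq_zero.mp h3.symm).resolve_right hβ₁ne,
        (mul_eq_zero.mp h1.symm).resolve_right hβ₁ne⟩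
    have huS : u ∈ Submodule.span F ({u, f₁} : Set V) := Submodule.subset_span (by simp)
    have hfS : f₁ ∈ Submodule.span F ({u, f₁} : Set V) := Submodule.subset_span (by simp)
    refine ⟨Submodule.span F {u, f₁}, ?_, ⟨?_, ?_⟩, ?_, u, ?_, huS, ?_, hQform⟩
    · rw [Submodule.span_le]
      intro w hw
      rcases hw with rfl | hw
      · rw [hu]
        exact Submodule.add_mem _ (Submodule.mem_sup_left hv₁)
          (Submodule.mem_sup_right (P₂.smul_mem l hf₂P))
      · rw [Set.mem_singleton_iff.mp hw]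
        exact Submodule.mem_sup_left hf₁P
    · rw [Module.End.mem_invtSubmodule_iff_forall_mem_of_mem]
      intro w hw
      obtain ⟨x, y, rfl⟩ := Submodule.mem_span_pair.mp hw
      rw [map_add, map_smul, map_smul, hTu, hTf₁]
      have h1 : x • (u + f₁) + y • f₁ = x • u + (x + y) • f₁ := by
        rw [smul_add, add_smul]
        abel
      rw [h1]
      exact Submodule.mem_span_pair.mpr ⟨x, x + y, rfl⟩
    · show Submodule.span F {u, f₁}
        ⊓ perp (QuadraticMap.polarBilin Q) (Submodule.span F {u, f₁}) = ⊥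
      rw [eq_bot_iff]
      intro w hw
      obtain ⟨x, y, rfl⟩ := Submodule.mem_span_pair.mp hw.1
      have hp : ∀ z ∈ Submodule.span F ({u, f₁} : Set V),
          QuadraticMap.polar ⇑Q z (x • u + y • f₁) = 0 := (mem_perp _ _ _).mp hw.2
      obtain ⟨h1, h3⟩ := hcoef x y
      rw [hp u huS] at h1
      rw [hp f₁ hfS] at h3
      have hy : y = 0 := (mul_eq_zero.mp h1.symm).resolve_right hβ₁ne
      have hx : x = 0 := (mul_eq_zero.mp h3.symm).resolve_right hβ₁ne
      rw [hx, hy, zero_smul, zero_smul, add_zero]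
      exact Submodule.zero_mem _
    · have hli : LinearIndependent F ![u, f₁] := by
        rw [LinearIndependent.pair_iff]
        intro s t hst
        exact hzero s t hst
      have h1 := finrank_span_eq_card hli
      rw [Matrix.range_cons_cons_empty, Fintype.card_fin] at h1
      exact h1
    · intro w hw
      obtain ⟨x, y, rfl⟩ := Submodule.mem_span_pair.mp hw
      exact ⟨x, y, rfl⟩
    · intro h0
      rw [h0, QuadraticMap.polar_zero_left] at hBuf₁
      exact hβ₁ne hBuf₁.symm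
  by_cases hpl : pl
  · obtain ⟨P, hPle, hPinv, hPfin, u, hcoord, huP, hune, hQform⟩ := key 0
    refine ⟨P, hPle, hPinv, hPfin, iff_of_true ?_ hpl⟩
    refine ⟨Submodule.span F {u}, ?_, ?_, ?_⟩
    · rw [Submodule.span_le]
      intro w hw
      rw [Set.mem_singleton_iff.mp hw]
      exact huP
    · intro w hw
      obtain ⟨a, rfl⟩ := Submodule.mem_span_singleton.mp hw
      have h1 := hQform a 0
      rw [zero_smul, add_zero] at h1
      rw [h1]
      ring
    · rw [finrank_span_singleton hune, hPfin]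
  · obtain ⟨δ, hδ⟩ := x4_delta h2
    have hδne : δ ≠ 0 := by
      intro h0
      apply hδ 0
      rw [h0]
      ring
    obtain ⟨P, hPle, hPinv, hPfin, u, hcoord, huP, hune, hQform⟩ := key (β₁ * δ)
    refine ⟨P, hPle, hPinv, hPfin, iff_of_false ?_ hpl⟩
    rintro ⟨U, hUP, hUs, hUf⟩
    have hU1 : Module.finrank F ↥U = 1 := by omega
    have hUne : U ≠ ⊥ := by
      intro h0
      rw [h0, finrank_bot] at hU1
      exact zero_ne_one hU1
    obtain ⟨w, hwU, hwne⟩ := Submodule.exists_mem_ne_zero_of_ne_bot hUne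
    obtain ⟨x, y, rfl⟩ := hcoord w (hUP hwU)
    have hQ0 := hUs _ hwU
    rw [hQform] at hQ0
    have h5 : δ * x ^ 2 + y ^ 2 + x * y = 0 := by
      have h6 : β₁ * (δ * x ^ 2 + y ^ 2 + x * y) = 0 := by linear_combination hQ0
      exact (mul_eq_zero.mp h6).resolve_left hβ₁ne
    by_cases hy : y = 0
    · rw [hy] at h5
      have hx : x = 0 := by
        have h6 : δ * x ^ 2 = 0 := by linear_combination h5
        rcases mul_eq_zero.mp h6 with h | h
        · exact absurd h hδne
        · exact pow_eq_zero_iff (n := 2) (by norm_num) |>.mp h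
      apply hwne
      rw [hx, hy, zero_smul, zero_smul, add_zero]
    · apply hδ (δ * x / y)
      have hy2 : y ^ 2 ≠ 0 := pow_ne_zero 2 hy
      rw [div_pow, div_add_div _ _ hy2 hy, div_eq_iff (mul_ne_zero hy2 hy)]
      linear_combination (δ * y) * h5 - (δ * y ^ 3) * h2

example : Cfsg.Agent.H99.I2.StI2X4.{u, v} := x4

end Cfsg.Agent.H8.I2
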