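import Mathlib
import Cfsg.Agent.H82.JxDefs

/-!
# Piece JX-FUN (for helper82; clause `|W_K| = 4` of the existence of a `J(T)`-component)

An abelian 2-group `B` acting by conjugation on a nontrivial elementary abelian 2-group `U`
with at most two fixed points satisfies `2 |B : C_B(U)| ≤ |U|`.

Dual route: let `f ≠ 1` be the fixed point and `lam : U →* ℂˣ` with `lam f ≠ 1`.  The map
`b ↦ lam ∘ conj_b` is injective on `B / C_B(U)` and its values lie in one coset of the proper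
subgroup `{μ | μ f = 1}` of the dual of `U`, which has at most `|U| / 2` elements.
-/

set_option autoImplicit false

namespace Cfsg.Agent.H8.Jx

open Cfsg.Agent.H82.Jx

universe u

/-- A 2-group acting by conjugation on a nontrivial group of exponent 2 has a nontrivial
fixed point. -/
theorem exists_fixed2 {G : Type*} [Group G] [Finite G] (B I : Subgroup G)
    (hB2 : IsPGroup 2 ↥B) (hn : ∀ b ∈ B, ∀ w ∈ I, b * w * b⁻¹ ∈ I)
    (h2 : ∀ w ∈ I, w * w = 1) (hne : I ≠ ⊥) :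
    ∃ f ∈ I, f ≠ 1 ∧ ∀ b ∈ B, b * f * b⁻¹ = f := by
  let _ : MulAction ↥B ↥I :=
    { smul := fun j w => ⟨(j : G) * (w : G) * (j : G)⁻¹, hn j j.2 w w.2⟩
      one_smul := fun w => Subtype.ext (by
        show ((1 : ↥B) : G) * (w : G) * ((1 : ↥B) : G)⁻¹ = (w : G)
        simp)
      mul_smul := fun a b w => Subtype.ext (by
        show ((a * b : ↥B) : G) * (w : G) * ((a * b : ↥B) : G)⁻¹
          = (a : G) * ((b : G) * (w : G) * (b : G)⁻¹) * (a : G)⁻¹
        simp [mul_assoc]) }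
  have : Fact (Nat.Prime 2) := ⟨Nat.prime_two⟩
  have h1 : (1 : ↥I) ∈ MulAction.fixedPoints ↥B ↥I := fun j => Subtype.ext (by
    show (j : G) * ((1 : ↥I) : G) * (j : G)⁻¹ = ((1 : ↥I) : G)
    simp)
  have hdvd : 2 ∣ Nat.card ↥I := by
    obtain ⟨w, hw1⟩ := (Subgroup.ne_bot_iff_exists_ne_one).mp hne
    have hw2 : w ^ 2 = 1 := by
      apply Subtype.ext
      rw [Subgroup.coe_pow, Subgroup.coe_one, pow_two]
      exact h2 _ w.2
    have ho : orderOf w = 2 := orderOf_eq_prime hw2 hw1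
    rw [← ho]
    exact orderOf_dvd_natCard w
  obtain ⟨b, hb, hne'⟩ := hB2.exists_fixed_point_of_prime_dvd_card_of_fixed_point ↥I hdvd h1
  refine ⟨b, b.2, fun h => hne' (Subtype.ext h.symm), fun j hj => ?_⟩
  exact congrArg Subtype.val (hb ⟨j, hj⟩)

/-- The subgroup `{d u d⁻¹ u : u ∈ U}` of an abelian group `U` of exponent 2 normalized by
`d`. -/
def commSub {G : Type*} [Group G] (U : Subgroup G) (d : G)
    (hUc : ∀ u ∈ U, ∀ v ∈ U, u * v = v * u) (hU2 : ∀ u ∈ U, u * u = 1)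
    (hd : ∀ u ∈ U, d * u * d⁻¹ ∈ U) : Subgroup G where
  carrier := {w | ∃ u ∈ U, w = d * u * d⁻¹ * u}
  one_mem' := ⟨1, U.one_mem, by group⟩
  mul_mem' := by
    rintro w w' ⟨u, hu, rfl⟩ ⟨v, hv, rfl⟩
    refine ⟨u * v, U.mul_mem hu hv, ?_⟩
    have hc := hUc u hu (d * v * d⁻¹) (hd v hv)
    calc d * u * d⁻¹ * u * (d * v * d⁻¹ * v)
        = d * u * d⁻¹ * (u * (d * v * d⁻¹)) * v := by group
      _ = d * u * d⁻¹ * ((d * v * d⁻¹) * u) * v := by rw [hc]
      _ = d * (u * v) * d⁻¹ * (u * v) := by group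
  inv_mem' := by
    rintro w ⟨u, hu, rfl⟩
    refine ⟨u, hu, ?_⟩
    have hwU : d * u * d⁻¹ * u ∈ U := U.mul_mem (hd u hu) hu
    exact inv_eq_of_mul_eq_one_left (hU2 _ hwU)

theorem mem_commSub {G : Type*} [Group G] (U : Subgroup G) (d : G)
    (hUc : ∀ u ∈ U, ∀ v ∈ U, u * v = v * u) (hU2 : ∀ u ∈ U, u * u = 1)
    (hd : ∀ u ∈ U, d * u * d⁻¹ ∈ U) (w : G) :
    w ∈ commSub U d hUc hU2 hd ↔ ∃ u ∈ U, w = d * u * d⁻¹ * u := Iff.rfl

/-- piece JX-FUN -/
theorem fn : StFun.{u} := by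
  intro G _ _ B U hBc hB2 hUc hU2 hnorm hfix hU
  classical
  -- the fixed point
  obtain ⟨f, hfU, hf1, hfB⟩ := exists_fixed2 B U hB2 hnorm hU2 hU
  have hmemF : ∀ w ∈ U, (∀ b ∈ B, b * w * b⁻¹ = w) →
      w ∈ U ⊓ Subgroup.centralizer (B : Set G) := by
    intro w hwU hwB
    refine Subgroup.mem_inf.mpr ⟨hwU, ?_⟩
    rw [Subgroup.mem_centralizer_iff]
    intro b hb
    have h0 := hwB b hb
    calc b * w = b * w * b⁻¹ * b := by group
      _ = w * b := by rw [h0]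
  have hfF := hmemF f hfU hfB
  have hF2 : Nat.card ↥(U ⊓ Subgroup.centralizer (B : Set G)) = 2 := by
    apply le_antisymm hfix
    have hnt : Nontrivial ↥(U ⊓ Subgroup.centralizer (B : Set G)) :=
      nontrivial_of_ne (⟨f, hfF⟩ : ↥(U ⊓ Subgroup.centralizer (B : Set G))) 1
        (fun h => hf1 (congrArg Subtype.val h))
    exact Finite.one_lt_card_iff_nontrivial.mpr hnt
  have huniq : ∀ w ∈ U, w ≠ 1 → (∀ b ∈ B, b * w * b⁻¹ = w) → w = f := by
    intro w hwU hw1 hwB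
    have hwF := hmemF w hwU hwB
    obtain ⟨y, -, hy⟩ :=
      (Nat.card_eq_two_iff' (1 : ↥(U ⊓ Subgroup.centralizer (B : Set G)))).mp hF2
    have e1 := hy ⟨w, hwF⟩ (fun h => hw1 (congrArg Subtype.val h))
    have e2 := hy ⟨f, hfF⟩ (fun h => hf1 (congrArg Subtype.val h))
    exact congrArg Subtype.val (e1.trans e2.symm)
  -- the dual of `U`
  letI : CommGroup ↥U := { (inferInstance : Group ↥U) with
    mul_comm := fun a b => Subtype.ext (hUc a a.2 b b.2) }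
  have hexp : NeZero (Monoid.exponent ↥U) := ⟨Monoid.exponent_ne_zero_of_finite⟩
  have hcardD : Nat.card (↥U →* ℂˣ) = Nat.card ↥U :=
    CommGroup.card_monoidHom_of_hasEnoughRootsOfUnity ↥U ℂ
  have hfin : Finite (↥U →* ℂˣ) := by
    apply Nat.finite_of_card_ne_zero
    rw [hcardD]
    exact Nat.card_pos.ne'
  have hfU1 : (⟨f, hfU⟩ : ↥U) ≠ 1 := fun h => hf1 (congrArg Subtype.val h)
  obtain ⟨lam, hlam⟩ := CommGroup.exists_apply_ne_one_of_hasEnoughRootsOfUnity ↥U ℂ hfU1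
  -- the conjugation homs
  obtain ⟨κ, hκ⟩ : ∃ κ : ↥B → (↥U →* ↥U),
      ∀ (b : ↥B) (u : ↥U), ((κ b u : ↥U) : G) = (b : G) * (u : G) * (b : G)⁻¹ := by
    refine ⟨fun b =>
      { toFun := fun u => ⟨(b : G) * (u : G) * (b : G)⁻¹, hnorm b b.2 u u.2⟩
        map_one' := Subtype.ext (by simp)
        map_mul' := fun u v => Subtype.ext (by simp [mul_assoc]) }, fun b u => rfl⟩
  have hκf : ∀ b : ↥B, κ b ⟨f, hfU⟩ = ⟨f, hfU⟩ := by
    intro b
    apply Subtype.ext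
    rw [hκ]
    exact hfB b b.2
  -- the proper subgroup of the dual
  obtain ⟨ev, hev⟩ : ∃ ev : (↥U →* ℂˣ) →* ℂˣ, ∀ μ : ↥U →* ℂˣ, ev μ = μ ⟨f, hfU⟩ :=
    ⟨MonoidHom.eval (⟨f, hfU⟩ : ↥U), fun μ => rfl⟩
  have hlamA : lam ∉ ev.ker := by
    rw [MonoidHom.mem_ker, hev]
    exact hlam
  have hAtop : ev.ker ≠ ⊤ := fun h => hlamA (h ▸ Subgroup.mem_top lam)
  have hidx : 2 ≤ ev.ker.index := by
    have h0 : ev.ker.index ≠ 0 := Subgroup.index_ne_zero_of_finite
    have h1 : ev.ker.index ≠ 1 := fun h => hAtop (Subgroup.index_eq_one.mp h)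
    omega
  have hcardA : 2 * Nat.card ↥ev.ker ≤ Nat.card ↥U := by
    rw [← hcardD, ← Subgroup.card_mul_index ev.ker]
    calc 2 * Nat.card ↥ev.ker = Nat.card ↥ev.ker * 2 := by ring
      _ ≤ Nat.card ↥ev.ker * ev.ker.index := Nat.mul_le_mul_left _ hidx
  -- the map into the dual
  have hΨmem : ∀ b : ↥B, lam.comp (κ b) * lam⁻¹ ∈ ev.ker := by
    intro b
    rw [MonoidHom.mem_ker, hev, MonoidHom.mul_apply, MonoidHom.comp_apply, hκf,
      MonoidHom.inv_apply, mul_inv_cancel]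
  -- injectivity modulo the centralizer
  have key : ∀ b c : ↥B, lam.comp (κ b) * lam⁻¹ = lam.comp (κ c) * lam⁻¹ →
      (b : G)⁻¹ * (c : G) ∈ B ⊓ Subgroup.centralizer (U : Set G) := by
    intro b c hbc
    have h1 : lam.comp (κ b) = lam.comp (κ c) := mul_right_cancel hbc
    have h2 : ∀ u : ↥U, lam (κ b u) = lam (κ c u) := fun u => DFunLike.congr_fun h1 u
    obtain ⟨d, hddef⟩ : ∃ d : G, d = (b : G)⁻¹ * (c : G) := ⟨_, rfl⟩
    have hdB : d ∈ B := by
      rw [hddef]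
      exact B.mul_mem (B.inv_mem b.2) c.2
    rw [← hddef]
    refine Subgroup.mem_inf.mpr ⟨hdB, ?_⟩
    have hdn : ∀ u ∈ U, d * u * d⁻¹ ∈ U := fun u hu => hnorm d hdB u hu
    have hIU : ∀ w ∈ commSub U d hUc hU2 hdn, w ∈ U := by
      intro w hw
      obtain ⟨u, hu, rfl⟩ := (mem_commSub U d hUc hU2 hdn w).mp hw
      exact U.mul_mem (hdn u hu) hu
    -- `lam ∘ conj_b` kills the subgroup
    have hkill : ∀ w (hw : w ∈ commSub U d hUc hU2 hdn), lam (κ b ⟨w, hIU w hw⟩) = 1 := by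
      intro w hw
      obtain ⟨u, hu, rfl⟩ := (mem_commSub U d hUc hU2 hdn w).mp hw
      have e1 : κ b ⟨d * u * d⁻¹ * u, hIU _ hw⟩ = κ c ⟨u, hu⟩ * κ b ⟨u, hu⟩ := by
        apply Subtype.ext
        rw [Subgroup.coe_mul, hκ, hκ, hκ]
        show (b : G) * (d * u * d⁻¹ * u) * (b : G)⁻¹
          = (c : G) * u * (c : G)⁻¹ * ((b : G) * u * (b : G)⁻¹)
        rw [hddef]
        group
      have e2 : κ b ⟨u, hu⟩ * κ b ⟨u, hu⟩ = 1 := by
        apply Subtype.ext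
        rw [Subgroup.coe_mul, Subgroup.coe_one]
        exact hU2 _ (κ b ⟨u, hu⟩).2
      rw [e1, map_mul, ← h2 ⟨u, hu⟩, ← map_mul, e2, map_one]
    -- the subgroup is trivial
    have hbot : commSub U d hUc hU2 hdn = ⊥ := by
      by_contra hne
      have hinv : ∀ b' ∈ B, ∀ w ∈ commSub U d hUc hU2 hdn,
          b' * w * b'⁻¹ ∈ commSub U d hUc hU2 hdn := by
        intro b' hb' w hw
        obtain ⟨u, hu, rfl⟩ := (mem_commSub U d hUc hU2 hdn w).mp hw
        refine (mem_commSub U d hUc hU2 hdn _).mpr ⟨b' * u * b'⁻¹, hnorm b' hb' u hu, ?_⟩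
        have hcomm : b' * d = d * b' := hBc b' hb' d hdB
        have hcomm' : d⁻¹ * b'⁻¹ = b'⁻¹ * d⁻¹ := by
          rw [← mul_inv_rev, ← mul_inv_rev, hcomm]
        calc b' * (d * u * d⁻¹ * u) * b'⁻¹
            = (b' * d) * u * (d⁻¹ * b'⁻¹) * (b' * u * b'⁻¹) := by group
          _ = (d * b') * u * (b'⁻¹ * d⁻¹) * (b' * u * b'⁻¹) := by rw [hcomm, hcomm']
          _ = d * (b' * u * b'⁻¹) * d⁻¹ * (b' * u * b'⁻¹) := by group
      obtain ⟨w0, hw0I, hw01, hw0B⟩ := exists_fixed2 B (commSub U d hUc hU2 hdn) hB2 hinv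
        (fun w hw => hU2 w (hIU w hw)) hne
      have hw0f : w0 = f := huniq w0 (hIU w0 hw0I) hw01 hw0B
      have h3 := hkill w0 hw0I
      have h4 : κ b ⟨w0, hIU w0 hw0I⟩ = ⟨f, hfU⟩ := by
        apply Subtype.ext
        rw [hκ]
        show (b : G) * w0 * (b : G)⁻¹ = f
        rw [hw0f]
        exact hfB b b.2
      rw [h4] at h3
      exact hlam h3
    rw [Subgroup.mem_centralizer_iff]
    intro h hh
    have hh' : h ∈ U := hh
    have h5 : d * h * d⁻¹ * h ∈ commSub U d hUc hU2 hdn :=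
      (mem_commSub U d hUc hU2 hdn _).mpr ⟨h, hh', rfl⟩
    rw [hbot, Subgroup.mem_bot] at h5
    have h6 : h * h = 1 := hU2 h hh'
    have h7 : d * h * d⁻¹ = h := by
      have a1 : d * h * d⁻¹ = h⁻¹ := mul_eq_one_iff_eq_inv.mp h5
      have a2 : h⁻¹ = h := inv_eq_of_mul_eq_one_left h6
      rw [a1, a2]
    calc h * d = (d * h * d⁻¹) * d := by rw [h7]
      _ = d * h := by group
  -- counting
  have hinj : Function.Injective
      (fun q : ↥B ⧸ (B ⊓ Subgroup.centralizer (U : Set G)).subgroupOf B =>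
        (⟨lam.comp (κ q.out) * lam⁻¹, hΨmem q.out⟩ : ↥ev.ker)) := by
    intro q q' h
    have h1 : lam.comp (κ q.out) * lam⁻¹ = lam.comp (κ q'.out) * lam⁻¹ :=
      congrArg Subtype.val h
    have h2 := key q.out q'.out h1
    have h3 : (q.out)⁻¹ * q'.out ∈ (B ⊓ Subgroup.centralizer (U : Set G)).subgroupOf B := by
      rw [Subgroup.mem_subgroupOf]
      simpa using h2
    have h4 := QuotientGroup.eq.mpr h3
    rwa [QuotientGroup.out_eq', QuotientGroup.out_eq'] at h4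
  have hle : (B ⊓ Subgroup.centralizer (U : Set G)).relIndex B ≤ Nat.card ↥ev.ker :=
    Nat.card_le_card_of_injective _ hinj
  calc 2 * (B ⊓ Subgroup.centralizer (U : Set G)).relIndex B
      ≤ 2 * Nat.card ↥ev.ker := Nat.mul_le_mul_left _ hle
    _ ≤ Nat.card ↥U := hcardA

example : Cfsg.Agent.H82.Jx.StFun.{u} := fn

end Cfsg.Agent.H8.Jx
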