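import Cfsg.Agent.H94.JxPFacts
import Cfsg.Agent.H97.JyPFacts
import Cfsg.Agent.H19.JyGoodA

/-!
# S2953 (kill sub-project JX): the P-side input `StPSide` of helper52's KB glue

For a configuration `Base S M T K L`, with `D = O₂(K ⊔ T)`: `|T : D| = 2` (elementwise),
`T ∖ D` inverts `K` modulo `D`, and `K` has an element `k` with `k ^ 3 = 1` outside `M`.
From helper97's abstract `pfacts` (whose `D` is identified with `O₂(K ⊔ T)`).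
-/

set_option autoImplicit false
open Cfsg

universe u

namespace Cfsg.Agent.H8.Jx

open Cfsg.Agent.H64.Jz

/-- The statement `StPSide` of helper52's post 11203 (verbatim). -/
def StPSide' : Prop := ∀ {G : Type u} [Group G] [Finite G] (S : Sylow 2 G) (M T K L : Subgroup G),
  Cfsg.Agent.H64.Jz.Base S M T K L →
  (∀ a ∈ T, ∀ b ∈ T, a ∉ pCoreOf 2 (K ⊔ T) → b ∉ pCoreOf 2 (K ⊔ T) →
    a * b ∈ pCoreOf 2 (K ⊔ T)) ∧
  (∀ x ∈ T, x ∉ pCoreOf 2 (K ⊔ T) → ∀ g ∈ K, x * g * x⁻¹ * g ∈ pCoreOf 2 (K ⊔ T)) ∧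
  ∃ k ∈ K, k ^ 3 = 1 ∧ k ∉ M

/-- The P-side facts, in a stronger form: the inversion holds modulo `O₂(K)`, and `K = O₂(K)⟨k⟩`. -/
theorem pSide_strong {G : Type u} [Group G] [Finite G] (S : Sylow 2 G) (M T K L : Subgroup G)
    (hB : Base S M T K L) :
    (∀ a ∈ T, ∀ b ∈ T, a ∉ pCoreOf 2 (K ⊔ T) → b ∉ pCoreOf 2 (K ⊔ T) →
      a * b ∈ pCoreOf 2 (K ⊔ T)) ∧
    (∀ x ∈ T, x ∉ pCoreOf 2 (K ⊔ T) → ∀ g ∈ K, x * g * x⁻¹ * g ∈ pCoreOf 2 K) ∧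
    pCoreOf 2 K ≤ pCoreOf 2 (K ⊔ T) ∧ pCoreOf 2 (K ⊔ T) ≤ T ∧
    T ≤ Subgroup.normalizer (K : Set G) ∧
    ∃ k ∈ K, k ^ 3 = 1 ∧ k ∉ M ∧ k ∉ pCoreOf 2 K ∧
      (∀ g ∈ K, ∃ o ∈ pCoreOf 2 K, ∃ i : ℕ, g = o * k ^ i) := by
  obtain ⟨-, hsylP, -, -, -, -, hsylL, -⟩ := Cfsg.Agent.H94.Jy.good_facts S M T K L hB
  obtain ⟨hZN, hO, hM, hMJ, hT, hTS, hK, hLmax, hKJL⟩ := hB
  obtain ⟨hchar, hsolv, hZ⟩ := hZN
  obtain ⟨L₀, hL₀max, hL₀, huniq, hsub, hsyl⟩ :=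
    Cfsg.Agent.S2950.result hchar hsolv hZ hO S M hM hMJ T hT K hK
  have hLL₀ : L = L₀ := huniq L hLmax hKJL
  rw [← hLL₀] at huniq hsub hsyl
  obtain ⟨hTL, hT2, hToddL⟩ := hsyl
  have hTM : T ≤ M := hT.1.2.2.1
  have hKL : K ≤ L := le_sup_left.trans hKJL
  have hTP : T ≤ K ⊔ T := le_sup_right
  have hKP : K ≤ K ⊔ T := le_sup_left
  have hOLT : pCoreOf 2 L ≤ T := Cfsg.Agent.Helper55.J48.pCoreOf_le_of_sylowIn hsylL
  obtain ⟨hgen, hcomm, hrel3, -, -, -⟩ := hK.1.1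
  have hOK : pCoreOf 2 K ≤ K := Subgroup.map_subtype_le _
  have hOKT : pCoreOf 2 K ≤ T := (Cfsg.Agent.H54.Uq.o2sn K L hKL hsub).trans hOLT
  have hKn : (K.subgroupOf (K ⊔ T)).Normal :=
    Cfsg.Agent.S2952.result hchar hsolv hZ hO S M hM hMJ T hT K hK
  have hPK : K ⊔ T ≤ Subgroup.normalizer (K : Set G) :=
    (Subgroup.normal_subgroupOf_iff_le_normalizer hKP).mp hKn
  have hTK : T ≤ Subgroup.normalizer (K : Set G) := hTP.trans hPK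
  have hOnK : K ≤ Subgroup.normalizer (pCoreOf 2 K : Set G) :=
    Cfsg.Agent.H31.X.H54.le_normalizer_pCoreOf K
  have hOnT : T ≤ Subgroup.normalizer (pCoreOf 2 K : Set G) :=
    hTK.trans (Cfsg.Agent.H31.X.H54.normalizer_le_normalizer_pCoreOf K)
  obtain ⟨D, k, hDT, hOD, hKD, hTD, hidx, hinv, -, -, hkK, hkO, hk3, hKO, hdich⟩ :=
    Cfsg.Agent.H97.Jy.pfacts K T (pCoreOf 2 K) hT2 hTK hOK hOKT hrel3 hOnK hOnT hgen
  have hPD : K ⊔ T ≤ Subgroup.normalizer (D : Set G) := sup_le hKD hTD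
  have hD2 : IsPGroup 2 ↥D := hT2.to_le hDT
  have hDQ : D ≤ pCoreOf 2 (K ⊔ T) :=
    Cfsg.Agent.H19.Jy.le_pCoreOf_of_normal (hDT.trans hTP) hD2 hPD
  have hQD : pCoreOf 2 (K ⊔ T) ≤ D := by
    rcases hdich (pCoreOf 2 (K ⊔ T)) (Subgroup.map_subtype_le _)
      (Cfsg.Agent.H31.X.H54.le_normalizer_pCoreOf (K ⊔ T)) with h | h
    · exact h
    · exfalso
      have hX : IsPGroup 2 ↥(pCoreOf 2 (K ⊔ T)) := by
        have : Fact (Nat.Prime 2) := ⟨Nat.prime_two⟩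
        exact (Cfsg.Agent.Helper55.isPGroup_pCore 2 ↥(K ⊔ T)).map (K ⊔ T).subtype
      have hKbot : K = ⊥ := by
        rw [← hgen, Subgroup.closure_eq_bot_iff]
        rintro g ⟨hgK, hodd⟩
        obtain ⟨n, hn⟩ := hX ⟨g, h hgK⟩
        have hn' : g ^ 2 ^ n = 1 := congrArg Subtype.val hn
        have hdvd : orderOf g ∣ 2 ^ n := orderOf_dvd_of_pow_eq_one hn'
        have hcop : Nat.Coprime (orderOf g) (2 ^ n) :=
          Nat.Coprime.pow_right n (Nat.coprime_two_right.mpr hodd)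
        have h1 : orderOf g = 1 := Nat.Coprime.eq_one_of_dvd hcop hdvd
        exact orderOf_eq_one_iff.mp h1
      rw [hKbot, Subgroup.relIndex_bot_right] at hrel3
      omega
  have hEq : D = pCoreOf 2 (K ⊔ T) := le_antisymm hDQ hQD
  rw [← hEq]
  refine ⟨hidx, hinv, hOD, hDT, hTK, k, hkK, hk3, ?_, hkO, hKO⟩
  intro hkM
  apply hK.2.1
  intro g hg
  obtain ⟨o, ho, i, rfl⟩ := hKO g hg
  exact mul_mem (hTM (hOKT ho)) (pow_mem hkM i)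

/-- **P-SIDE** (helper52's `StPSide`, post 11203), hypothesis-free. -/
theorem pSide : StPSide'.{u} := by
  intro G _ _ S M T K L hB
  obtain ⟨h1, h2, hOD, -, -, k, hkK, hk3, hkM, -, -⟩ := pSide_strong S M T K L hB
  exact ⟨h1, fun x hx hxD g hg => hOD (h2 x hx hxD g hg), k, hkK, hk3, hkM⟩

end Cfsg.Agent.H8.Jx
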