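import Cfsg.Agent.H64.JzDefs
import Cfsg.Agent.Helper55.ThJ
import Cfsg.Agent.H63.SnIfV
import Cfsg.Agent.H14.Holo
import Cfsg.Agent.S2946

set_option autoImplicit false
set_option linter.unusedVariables false

/-! Piece JZ-RESA (helper8, for helper64's JZ project, S2951 / S2952): in the residual situation
(R), if `a(T') = a(S)` then clause 1 holds (`Ω₁Z(S) = Ω₁Z(J(S))` of order 2).

Proof: `𝒜(T') ⊆ 𝒜(S)`, so `J(T') ≤ J(S)` and `Z₀ = Ω₁Z(J(S)) ≤ Z₀' = Ω₁Z(J(T'))`; an element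
`y ≠ 1` of `Z₀` centralizing `K'` would give the 2-local `N_G(⟨y⟩) ⊇ J(S)`, inside `L`, containing
`K'`; S2946 for `(T', K')` gives `Z₀' = C' · D'` with `C' ≤ C(K')`, `|D'| = 2`, so `|Z₀| ≤ 2`;
S2946 for `(S, K)` gives `Z₀ ≠ 1`; and `1 ≠ Ω₁Z(S) ≤ Z₀`. -/

open Cfsg

namespace Cfsg.Agent.H8.Jz

open Cfsg.Agent.H64.Jz Cfsg.Agent.Helper55.ThJ Cfsg.Agent.H63.Sn

universe u

theorem omegaCenterOf_elemAb {G : Type u} [Group G] (X : Subgroup G) :
    IsElementaryAbelian 2 (omegaCenterOf X) := by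
  refine ⟨?_, fun a ha => (mem_omegaCenterOf X ha).2.2⟩
  rw [← Subgroup.le_centralizer_iff_isMulCommutative]
  intro x hx
  rw [Subgroup.mem_centralizer_iff]
  intro y hy
  exact (Subgroup.mem_centralizer_iff.mp (mem_omegaCenterOf X hx).2.1) y
    (mem_omegaCenterOf X hy).1

/-- `Ω₁(Z(Y))` lies in every elementary abelian subgroup `A` of largest order of `T`, when
`Ω₁(Z(Y)) ≤ T` centralizes `A`. -/
theorem omega_le_gen {G : Type u} [Group G] [Finite G] (T Y A : Subgroup G) (hA : A ∈ gens T)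
    (hYT : omegaCenterOf Y ≤ T) (hc : omegaCenterOf Y ≤ Subgroup.centralizer (A : Set G)) :
    omegaCenterOf Y ≤ A := by
  have hel := Cfsg.Agent.H14.elemAb_sup hA.2.1 (omegaCenterOf_elemAb Y) hc
  have hle : A ⊔ omegaCenterOf Y ≤ T := sup_le hA.1 hYT
  have hcard := card_le_a T hle hel
  rw [← hA.2.2] at hcard
  have heq : A = A ⊔ omegaCenterOf Y := Subgroup.eq_of_le_of_card_ge le_sup_left hcard
  rw [heq]
  exact le_sup_right

/-- `Ω₁(Z(P)) ≠ 1` for a nontrivial 2-group `P`. -/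
theorem omegaCenterOf_ne_bot {G : Type u} [Group G] [Finite G] (P : Subgroup G)
    (hP : IsPGroup 2 ↥P) (hP1 : P ≠ ⊥) : omegaCenterOf P ≠ ⊥ := by
  haveI : Fact (Nat.Prime 2) := ⟨Nat.prime_two⟩
  haveI : Nontrivial ↥P := (Subgroup.nontrivial_iff_ne_bot P).mpr hP1
  haveI := hP.center_nontrivial
  have h2 : 2 ∣ Nat.card ↥(Subgroup.center ↥P) := by
    obtain ⟨n, hn⟩ := (hP.to_subgroup (Subgroup.center ↥P)).exists_card_eq
    have hgt : 1 < Nat.card ↥(Subgroup.center ↥P) := Finite.one_lt_card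
    rw [hn] at hgt ⊢
    cases n with
    | zero => simp at hgt
    | succ n => exact Dvd.intro_left _ (pow_succ 2 n).symm
  obtain ⟨z, hz⟩ := exists_prime_orderOf_dvd_card' 2 h2
  intro hbot
  have hzmem : ((z : ↥P) : G) ∈ omegaCenterOf P := by
    apply omegaCenterOf_mem
    · exact (z : ↥P).2
    · rw [Subgroup.mem_centralizer_iff]
      intro h hh
      have h' := (Subgroup.mem_center_iff.mp z.2) ⟨h, hh⟩
      exact congrArg Subtype.val h'
    · have h' : z ^ 2 = 1 := by rw [← hz]; exact pow_orderOf_eq_one z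
      have h'' := congrArg (fun t : ↥(Subgroup.center ↥P) => ((t : ↥P) : G)) h'
      simpa using h''
  rw [hbot, Subgroup.mem_bot] at hzmem
  have hz1 : z = 1 := Subtype.ext (Subtype.ext hzmem)
  rw [hz1, orderOf_one] at hz
  omega

/-- Counting inside an abelian group `Z0' = C' D'`, `|D'| = 2`, `Z0 ∩ C' = 1`: `|Z0| ≤ 2`. -/
theorem card_le_two_of {G : Type u} [Group G] [Finite G] (Z0 Z0' C' D' : Subgroup G)
    (hab : Z0' ≤ Subgroup.centralizer (Z0' : Set G))
    (h1 : Z0 ≤ Z0') (hC : C' ≤ Z0') (hD : D' ≤ Z0') (hsup : C' ⊔ D' = Z0')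
    (hDc : Nat.card D' = 2) (hinf : Z0 ⊓ C' = ⊥) : Nat.card Z0 ≤ 2 := by
  have hn : ∀ B F : Subgroup G, B ≤ Z0' → F ≤ Z0' → B ≤ Subgroup.normalizer (F : Set G) := by
    intro B F hB hF
    have h : B ≤ Subgroup.centralizer (F : Set G) :=
      (hB.trans hab).trans (Subgroup.centralizer_le (SetLike.coe_subset_coe.mpr hF))
    exact h.trans (Subgroup.centralizer_le_normalizer _)
  have e1 := Cfsg.Agent.H14.Holo.card_sup_mul_card_inf D' C' (hn D' C' hD hC)
  have e2 := Cfsg.Agent.H14.Holo.card_sup_mul_card_inf Z0 C' (hn Z0 C' h1 hC)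
  rw [hinf, Subgroup.card_bot, mul_one] at e2
  rw [sup_comm, hsup, hDc] at e1
  have h3 : Nat.card ↥(Z0 ⊔ C') ≤ Nat.card Z0' := Subgroup.card_le_of_le (sup_le h1 hC)
  have h4 : 0 < Nat.card ↥(D' ⊓ C') := Nat.card_pos
  have h5 : 0 < Nat.card C' := Nat.card_pos
  have h6 : Nat.card Z0' ≤ 2 * Nat.card C' := by
    calc Nat.card Z0' ≤ Nat.card Z0' * Nat.card ↥(D' ⊓ C') := Nat.le_mul_of_pos_right _ h4
      _ = 2 * Nat.card C' := e1
  have h7 : Nat.card Z0 * Nat.card C' ≤ 2 * Nat.card C' := by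
    rw [← e2]
    exact h3.trans h6
  exact Nat.le_of_mul_le_mul_right h7 h5

theorem resA : StResA.{u} := by
  intro G _ _ S M K L T' K' L' hR ha
  obtain ⟨hB, hX, hB', hne⟩ := hR
  obtain ⟨hZN, hO, hM, hMJ, hSmax, -, hK, hLmax, hKL⟩ := hB
  obtain ⟨-, -, hL2, hLJ, hT'max, hT'S, hK', hL'max, hK'L'⟩ := hB'
  obtain ⟨hL, hN, hZ⟩ := hZN
  left
  have hS2 : IsPGroup 2 ↥(S : Subgroup G) := S.isPGroup'
  have hS1 : (S : Subgroup G) ≠ ⊥ := hSmax.1.2.1
  have hT'2 : IsPGroup 2 ↥T' := hT'max.1.1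
  have hT'1 : T' ≠ ⊥ := hT'max.1.2.1
  have hJJ : thompsonSubgroupOf 2 T' ≤ thompsonSubgroupOf 2 (S : Subgroup G) :=
    J_le_J_of ((J_le T').trans hT'S) ha.ge
  -- `Z ≤ Z₀`
  obtain ⟨A, hA⟩ := gens_nonempty (S : Subgroup G)
  have hZZ0 : omegaCenterOf (S : Subgroup G) ≤
      omegaCenterOf (thompsonSubgroupOf 2 (S : Subgroup G)) := by
    have h1 : omegaCenterOf (S : Subgroup G) ≤ A := by
      apply omega_le_gen (S : Subgroup G) (S : Subgroup G) A hA
      · intro x hx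
        exact (mem_omegaCenterOf _ hx).1
      · intro x hx
        exact Subgroup.centralizer_le (SetLike.coe_subset_coe.mpr hA.1)
          (mem_omegaCenterOf _ hx).2.1
    intro x hx
    refine omegaCenterOf_mem _ (gen_le_J hA (h1 hx)) ?_ (mem_omegaCenterOf _ hx).2.2
    exact Subgroup.centralizer_le (SetLike.coe_subset_coe.mpr (J_le _))
      (mem_omegaCenterOf _ hx).2.1
  -- `Z₀ ≤ Z₀'`
  obtain ⟨A', hA'⟩ := gens_nonempty T'
  have hZ0Z0' : omegaCenterOf (thompsonSubgroupOf 2 (S : Subgroup G)) ≤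
      omegaCenterOf (thompsonSubgroupOf 2 T') := by
    have hA'S : A' ∈ gens (S : Subgroup G) :=
      ⟨hA'.1.trans hT'S, hA'.2.1, by rw [hA'.2.2, ha]⟩
    have h1 : omegaCenterOf (thompsonSubgroupOf 2 (S : Subgroup G)) ≤ A' := by
      apply omega_le_gen (S : Subgroup G) _ A' hA'S
      · intro x hx
        exact J_le _ (mem_omegaCenterOf _ hx).1
      · intro x hx
        exact Subgroup.centralizer_le (SetLike.coe_subset_coe.mpr (gen_le_J hA'S))
          (mem_omegaCenterOf _ hx).2.1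
    intro x hx
    refine omegaCenterOf_mem _ (gen_le_J hA' (h1 hx)) ?_ (mem_omegaCenterOf _ hx).2.2
    exact Subgroup.centralizer_le (SetLike.coe_subset_coe.mpr hJJ)
      (mem_omegaCenterOf _ hx).2.1
  -- S2946 for `(T', K')` and for `(S, K)`
  obtain ⟨hD', hdec'⟩ := Cfsg.Agent.S2946.result hL hN hZ T' hT'2 hT'1 K' hK'.1.1 _ rfl
  obtain ⟨hD, -⟩ := Cfsg.Agent.S2946.result hL hN hZ (S : Subgroup G) hS2 hS1 K hK.1.1 _ rfl
  -- `Z₀ ∩ C' = 1`
  have hinf : omegaCenterOf (thompsonSubgroupOf 2 (S : Subgroup G)) ⊓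
      (omegaCenterOf (thompsonSubgroupOf 2 T') ⊓ ((K' ⊔ thompsonSubgroupOf 2 T') ⊓
        Subgroup.centralizer ((K' ⊔ thompsonSubgroupOf 2 T') : Set G))) = ⊥ := by
    rw [eq_bot_iff]
    intro y hy
    rw [Subgroup.mem_bot]
    by_contra hy1
    have hyZ0 := (Subgroup.mem_inf.mp hy).1
    have hyC := (Subgroup.mem_inf.mp (Subgroup.mem_inf.mp (Subgroup.mem_inf.mp hy).2).2).2
    have hy2 : y ^ 2 = 1 := (mem_omegaCenterOf _ hyZ0).2.2
    have hyJ : y ∈ Subgroup.centralizer (thompsonSubgroupOf 2 (S : Subgroup G) : Set G) :=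
      (mem_omegaCenterOf _ hyZ0).2.1
    have hyK' : y ∈ Subgroup.centralizer (K' : Set G) :=
      Subgroup.centralizer_le le_sup_left hyC
    haveI : Fact (Nat.Prime 2) := ⟨Nat.prime_two⟩
    have hord : orderOf y = 2 := orderOf_eq_prime hy2 hy1
    have hP2 : IsPGroup 2 ↥(Subgroup.zpowers y) := by
      apply IsPGroup.of_card (n := 1)
      rw [Nat.card_zpowers, hord, pow_one]
    have hP1 : Subgroup.zpowers y ≠ ⊥ := by
      intro h
      apply hy1
      have h' : y ∈ Subgroup.zpowers y := Subgroup.mem_zpowers y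
      rw [h, Subgroup.mem_bot] at h'
      exact h'
    have h2loc : IsTwoLocal (Subgroup.normalizer (Subgroup.zpowers y : Set G)) :=
      ⟨_, hP2, hP1, rfl⟩
    have hcz : ∀ H : Subgroup G, y ∈ Subgroup.centralizer (H : Set G) →
        H ≤ Subgroup.normalizer (Subgroup.zpowers y : Set G) := by
      intro H hH
      have h1 : Subgroup.zpowers y ≤ Subgroup.centralizer (H : Set G) :=
        Subgroup.zpowers_le.mpr hH
      exact (Subgroup.le_centralizer_iff.mp h1).trans (Subgroup.centralizer_le_normalizer _)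
    have h3 := hX _ h2loc (hcz _ hyJ)
    exact hK'.2.1 ((hcz _ hyK').trans h3)
  have hZ0le : Nat.card ↥(omegaCenterOf (thompsonSubgroupOf 2 (S : Subgroup G))) ≤ 2 :=
    card_le_two_of _ (omegaCenterOf (thompsonSubgroupOf 2 T')) _ _
      (Subgroup.le_centralizer_iff_isMulCommutative.mpr (omegaCenterOf_elemAb _).1)
      hZ0Z0' inf_le_left inf_le_left hdec' hD' hinf
  have hZ0ge : 2 ≤ Nat.card ↥(omegaCenterOf (thompsonSubgroupOf 2 (S : Subgroup G))) := by
    exact hD.ge.trans (Subgroup.card_le_of_le inf_le_left)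
  have hZ0card := le_antisymm hZ0le hZ0ge
  have hZne := omegaCenterOf_ne_bot (S : Subgroup G) hS2 hS1
  have hZcard : 1 < Nat.card ↥(omegaCenterOf (S : Subgroup G)) :=
    (Subgroup.one_lt_card_iff_ne_bot _).mpr hZne
  refine ⟨Subgroup.eq_of_le_of_card_ge hZZ0 (by rw [hZ0card]; exact hZcard), hZ0card⟩

example : Cfsg.Agent.H64.Jz.StResA.{u} := resA

end Cfsg.Agent.H8.Jz
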