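import Mathlib
import Cfsg.Agent.H9.PGDefs

/-!
# PG-R2 (helper8 for helper9, S3662): a fast kernel-evaluable check of the commutator relations

Matrices over `K4` are functions; to let the kernel evaluate products of several matrices without
re-evaluating entries, every intermediate matrix is normalised entry by entry (`force`), and the
matrix product is the explicit six-term sum `fmul`.
-/

set_option autoImplicit false

namespace Cfsg.Agent.H8.PG

open Cfsg Cfsg.Lie Cfsg.Agent.H9.PG
open scoped Matrix

abbrev M6 : Type := Matrix (Fin 6) (Fin 6) K4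

/-- evaluate `x` to a constructor, then continue -/
def force {α : Type} (x : K4) (f : K4 → α) : α :=
  match x with
  | .z => f .z
  | .o => f .o
  | .w => f .w
  | .v => f .v

theorem force_eq {α : Type} (x : K4) (f : K4 → α) : force x f = f x := by
  cases x <;> rfl

/-- the matrix product as an explicit six-term sum -/
def fmul (A B : M6) : M6 :=
  fun i k => A i 0 * B 0 k + A i 1 * B 1 k + A i 2 * B 2 k + A i 3 * B 3 k + A i 4 * B 4 k +
    A i 5 * B 5 k

theorem fmul_eq (A B : M6) : fmul A B = A * B := by
  ext i k
  simp only [fmul, Matrix.mul_apply, Fin.sum_univ_six]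

def nfRow {α : Type} (r : Fin 6 → K4) (k : (Fin 6 → K4) → α) : α :=
  force (r 0) fun a0 => force (r 1) fun a1 => force (r 2) fun a2 => force (r 3) fun a3 =>
    force (r 4) fun a4 => force (r 5) fun a5 => k ![a0, a1, a2, a3, a4, a5]

theorem nfRow_eq {α : Type} (r : Fin 6 → K4) (k : (Fin 6 → K4) → α) : nfRow r k = k r := by
  simp only [nfRow, force_eq]
  congr 1
  ext i
  fin_cases i <;> rfl

def nfMat {α : Type} (A : M6) (k : M6 → α) : α :=
  nfRow (A 0) fun r0 => nfRow (A 1) fun r1 => nfRow (A 2) fun r2 => nfRow (A 3) fun r3 =>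
    nfRow (A 4) fun r4 => nfRow (A 5) fun r5 => k (Matrix.of ![r0, r1, r2, r3, r4, r5])

theorem nfMat_eq {α : Type} (A : M6) (k : M6 → α) : nfMat A k = k A := by
  simp only [nfMat, nfRow_eq]
  congr 1
  ext i j
  fin_cases i <;> rfl

/-- normalised product of a list of matrices -/
def nprod {α : Type} : List M6 → (M6 → α) → α
  | [], k => k 1
  | A :: l, k => nprod l fun B => nfMat A fun A' => nfMat (fmul A' B) k

theorem nprod_eq {α : Type} (l : List M6) (k : M6 → α) : nprod l k = k l.prod := by
  induction l generalizing k with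
  | nil => rfl
  | cons A l ih =>
    simp only [nprod, ih, nfMat_eq, fmul_eq, List.prod_cons]

def eqb (Q R : M6) : Bool :=
  (List.finRange 6).all fun i => (List.finRange 6).all fun j => decide (Q i j = R i j)

theorem eqb_sound {Q R : M6} (h : eqb Q R = true) : Q = R := by
  ext i j
  simp only [eqb, List.all_eq_true, List.mem_finRange, forall_const, decide_eq_true_eq] at h
  exact h i j

/-- the right-hand side of (R2), as a list of matrices -/
def rhsL (r s : ℕ) (a b : K4) : List M6 :=
  (chevG2.commTerms r s).map fun c => Xc c.1 ((c.2.1 : K4) * (-a) ^ c.2.2.1 * b ^ c.2.2.2)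

/-- the check of one instance of (R2) -/
def chk (r s : ℕ) (a b : K4) : Bool :=
  nfMat (Xc s b) fun B => nfMat (Xc r a) fun A => nfMat (fmul B A) fun P =>
    nfMat (fmul P P) fun Q => nprod (rhsL r s a b) fun R => eqb Q R

theorem chk_sound (r s : ℕ) (a b : K4) (h : chk r s a b = true) :
    Xc s b * Xc r a * Xc s b * Xc r a = (rhsL r s a b).prod := by
  simp only [chk, nfMat_eq, nprod_eq, fmul_eq] at h
  have h2 := eqb_sound h
  rw [Matrix.mul_assoc (Xc s b * Xc r a)]
  exact h2

def allK4 (f : K4 → Bool) : Bool :=
  f .z && f .o && f .w && f .v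

theorem allK4_sound {f : K4 → Bool} (h : allK4 f = true) (x : K4) : f x = true := by
  simp only [allK4, Bool.and_eq_true] at h
  obtain ⟨⟨⟨h1, h2⟩, h3⟩, h4⟩ := h
  cases x
  · exact h1
  · exact h2
  · exact h3
  · exact h4

/-- the check of all instances of (R2) with first root `r` -/
def chkRow (r : ℕ) : Bool :=
  (List.range 12).all fun s => (s == r || s == chevG2.neg r) ||
    allK4 fun a => allK4 fun b => chk r s a b

theorem chkRow_sound {r : ℕ} (h : chkRow r = true) (s : ℕ) (hs : s < 12) (hsr : s ≠ r)
    (hsn : s ≠ chevG2.neg r) (a b : K4) : chk r s a b = true := by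
  simp only [chkRow, List.all_eq_true, List.mem_range] at h
  have h1 := h s hs
  rw [Bool.or_eq_true] at h1
  rcases h1 with h1 | h1
  · exfalso
    rw [Bool.or_eq_true] at h1
    rcases h1 with h1 | h1
    · exact hsr (by simpa using h1)
    · exact hsn (by simpa using h1)
  · exact allK4_sound (allK4_sound h1 a) b

end Cfsg.Agent.H8.PG
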