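import Mathlib
import Cfsg.Agent.H9.PGDefs
import Cfsg.Agent.H8.PGR2Base

/-!
# PG-R2 (helper8 for helper9, S3662)

Chevalley's commutator formula (R2) of `chevG2` for the `6 × 6` matrices `XG r t` over `K4`:
all `132 × 16` instances are checked by kernel evaluation (`chkRow`).
-/

set_option autoImplicit false

namespace Cfsg.Agent.H8.PG

open Cfsg Cfsg.Lie Cfsg.Agent.H9.PG
open scoped Matrix

set_option maxRecDepth 100000 in
theorem chkRow0 : chkRow 0 = true := by decide +kernel
set_option maxRecDepth 100000 in
theorem chkRow1 : chkRow 1 = true := by decide +kernel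
set_option maxRecDepth 100000 in
theorem chkRow2 : chkRow 2 = true := by decide +kernel
set_option maxRecDepth 100000 in
theorem chkRow3 : chkRow 3 = true := by decide +kernel
set_option maxRecDepth 100000 in
theorem chkRow4 : chkRow 4 = true := by decide +kernel
set_option maxRecDepth 100000 in
theorem chkRow5 : chkRow 5 = true := by decide +kernel
set_option maxRecDepth 100000 in
theorem chkRow6 : chkRow 6 = true := by decide +kernel
set_option maxRecDepth 100000 in
theorem chkRow7 : chkRow 7 = true := by decide +kernel
set_option maxRecDepth 100000 in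
theorem chkRow8 : chkRow 8 = true := by decide +kernel
set_option maxRecDepth 100000 in
theorem chkRow9 : chkRow 9 = true := by decide +kernel
set_option maxRecDepth 100000 in
theorem chkRow10 : chkRow 10 = true := by decide +kernel
set_option maxRecDepth 100000 in
theorem chkRow11 : chkRow 11 = true := by decide +kernel

theorem chkRow_all (r : ℕ) (hr : r < 12) : chkRow r = true := by
  interval_cases r
  · exact chkRow0
  · exact chkRow1
  · exact chkRow2
  · exact chkRow3
  · exact chkRow4
  · exact chkRow5
  · exact chkRow6
  · exact chkRow7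
  · exact chkRow8
  · exact chkRow9
  · exact chkRow10
  · exact chkRow11

theorem val_list_prod_XG (l : List (ℕ × ℤ × ℕ × ℕ)) (f : ℕ × ℤ × ℕ × ℕ → K4) :
    (((l.map fun c => XG c.1 (f c)).prod : GL (Fin 6) K4) : Matrix (Fin 6) (Fin 6) K4) =
      (l.map fun c => Xc c.1 (f c)).prod := by
  induction l with
  | nil => rfl
  | cons c l ih =>
    rw [List.map_cons, List.prod_cons, Units.val_mul, ih, List.map_cons, List.prod_cons]
    rfl

theorem r2 : StR2 := by
  intro r s hr hs hsr hsn a b
  have h := chkRow_sound (chkRow_all r hr) s hs hsr hsn a b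
  have h2 := chk_sound r s a b h
  apply Units.ext
  rw [val_list_prod_XG]
  exact h2

example : Cfsg.Agent.H9.PG.StR2 := r2

end Cfsg.Agent.H8.PG
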