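import Mathlib
import Cfsg.Agent.H7.RCDefs0
/-!
Team project S1156 (helper7), piece RC-BLOCKHOM: a group of block triangular matrices maps
homomorphically to each diagonal block.
-/
set_option autoImplicit false

namespace Cfsg.Agent.H8.RC

open Matrix Cfsg.Agent.H7.RC

universe u v

/-- restriction to the diagonal block `k` is multiplicative on block triangular matrices -/
theorem block_mul {n : Type u} [Fintype n] [DecidableEq n] {K : Type v} [Field K] (b : n → ℕ)
    (k : ℕ) (M N : Matrix n n K) (hM : Matrix.BlockTriangular M b)
    (hN : Matrix.BlockTriangular N b) (i j : {i : n // b i = k}) :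
    (M * N) i.1 j.1 = ∑ l : {i : n // b i = k}, M i.1 l.1 * N l.1 j.1 := by
  rw [Matrix.mul_apply]
  have h1 : ∑ l ∈ Finset.univ.filter (fun l : n => b l = k), M i.1 l * N l j.1
      = ∑ l : n, M i.1 l * N l j.1 := by
    apply Finset.sum_filter_of_ne
    intro l _ hne
    by_contra hlk
    rcases lt_or_gt_of_ne hlk with h | h
    · have : M i.1 l = 0 := hM (by rw [i.2]; exact h)
      exact hne (by rw [this, zero_mul])
    · have : N l j.1 = 0 := hN (by rw [j.2]; exact h)
      exact hne (by rw [this, mul_zero])
  rw [← h1]
  exact Finset.sum_subtype _ (by intro x; simp) _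

/-- **RC-BLOCKHOM** -/
theorem blockHom : StBlockHom.{u, v} := by
  intro n _ _ K _ b H hH k
  let φ : ↥H →* Matrix {i : n // b i = k} {i : n // b i = k} K :=
    { toFun := fun g => Matrix.of fun i j => ((g : GL n K) : Matrix n n K) i.1 j.1
      map_one' := by
        ext i j
        simp [Matrix.one_apply, Subtype.ext_iff]
      map_mul' := by
        intro g h
        ext i j
        simp only [Matrix.of_apply, Subgroup.coe_mul, Units.val_mul, Matrix.mul_apply]
        rw [← Matrix.mul_apply]
        exact block_mul b k _ _ (hH g.1 g.2) (hH h.1 h.2) i j }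
  refine ⟨φ.toHomUnits, fun g i j => ?_⟩
  rfl

example : StBlockHom.{u, v} := blockHom

end Cfsg.Agent.H8.RC
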