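import Mathlib
import Cfsg.Agent.H8.S7Common

/-!
# S7-QuartCnt1 (helper8, for helper45, S2357): the elements of order `i > 1` dividing
`k = (q+1)/4`

`quartCnt1 : StQuartCnt1`, where `Cfsg.Agent.H8.S7.StQuartCnt1` is the verbatim copy (in
`H8/S7Common.lean`) of `Cfsg.Agent.H45.S7.StQuartCnt1`.
-/

set_option autoImplicit false

namespace Cfsg.Agent.H8.S7

open Cfsg.Agent.H45.S8

universe u

theorem quartCnt1 : StQuartCnt1.{u} := by
  intro G _ _ m hm hG hQ hSyl hOC hAr A hAc hAk hN i hi1 hidvd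
  obtain ⟨hcomm, hAC, hmemA, hcentA⟩ := quarter_facts m hm hQ hAr A hAc hAk
  obtain ⟨-, -, -, hsub⟩ := hQ A hAc hAk
  obtain ⟨-, -, -, h4k, hkodd, hk1, -, -, -, -, -, -, -, -, -, -⟩ := hAr m hm
  have hQ3 := three_le_qq m
  have hiodd : Odd i := by
    obtain ⟨d, hd⟩ := hidvd
    rw [hd] at hkodd
    exact (Nat.odd_mul.mp hkodd).1
  -- claim A
  have hA : ∀ x ∈ Subgroup.centralizer (A : Set G), orderOf x = i →
      Subgroup.centralizer ({x} : Set G) = Subgroup.centralizer (A : Set G) := by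
    intro x hx hxo
    have hxA : x ∈ A := hmemA x hx i hiodd (by rw [← hxo]; exact pow_orderOf_eq_one x)
    have hx1 : x ≠ 1 := by
      intro h
      rw [h, orderOf_one] at hxo
      omega
    exact hcentA x hxA hx1
  -- claim B
  have hB : ∀ g : G, orderOf g = i →
      ∃ c : G, c * g * c⁻¹ ∈ Subgroup.centralizer (A : Set G) := by
    intro g hgo
    obtain ⟨s, hs, hsi⟩ := Nat.exists_prime_and_dvd (by omega : i ≠ 1)
    have hsk : s ∣ kk m := hsi.trans hidvd
    exact exists_conj_mem_centralizer A hsub s hs (by rw [hAk]; exact hsk) (@hSyl s ⟨hs⟩ hsk) g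
      (by rw [hgo]; exact hsi)
  have h1 := hOC G (Subgroup.centralizer (A : Set G)) i hA
  have e1 : Nat.card {g : G // orderOf g = i ∧
      ∃ c : G, c * g * c⁻¹ ∈ Subgroup.centralizer (A : Set G)} =
      Nat.card {g : G // orderOf g = i} :=
    Nat.card_congr (Equiv.subtypeEquivRight (fun g => ⟨fun h => h.1, fun h => ⟨h, hB g h⟩⟩))
  have e2 : Nat.card {x : G // x ∈ Subgroup.centralizer (A : Set G) ∧ orderOf x = i} =
      Nat.totient i := by
    rw [← card_orderOf_eq_totient_sub A hAc i (by rw [hAk]; exact hidvd)]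
    exact Nat.card_congr (Equiv.subtypeEquivRight (fun x =>
      ⟨fun h => ⟨hmemA x h.1 i hiodd (by rw [← h.2]; exact pow_orderOf_eq_one x), h.2⟩,
        fun h => ⟨hAC h.1, h.2⟩⟩))
  rw [e1, e2, hN, hG] at h1
  unfold GG at h1
  rw [qq_cube_add_one] at h1
  apply Nat.eq_of_mul_eq_mul_right (show 0 < qq m + 1 by omega)
  calc 6 * Nat.card {g : G // orderOf g = i} * (qq m + 1)
      = Nat.card {g : G // orderOf g = i} * (6 * (qq m + 1)) := by ring
    _ = qq m ^ 3 * (qq m - 1) * ((qq m + 1) * (qq m ^ 2 - qq m + 1)) * Nat.totient i := h1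
    _ = Nat.totient i * qq m ^ 3 * (qq m - 1) * (qq m ^ 2 - qq m + 1) * (qq m + 1) := by ring

example : StQuartCnt1.{u} := quartCnt1

end Cfsg.Agent.H8.S7
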