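import Mathlib
import Cfsg.Agent.H52.SnDefs

/-!
# SN-FINA (helper8 for helper52, S2942)

`O ≤ Q` and `K C` is normal in a normal subgroup `R` of `X`.
-/

set_option autoImplicit false
open Cfsg

namespace Cfsg.Agent.H8.Sn

open Cfsg.Agent.H52.Sn

universe u

theorem finA : StFinA.{u} := by
  intro X _ _ T C Q M J K O hT hTodd hC hQ hM hTC hJM hcomm hKgen hKJ hOK hO
  haveI := hC
  haveI := hQ
  haveI := hM
  have hKM : K ≤ M := by
    rw [← hKJ]
    exact (Subgroup.commutator_mono le_top hJM).trans (Subgroup.commutator_le_right ⊤ M)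
  obtain ⟨π, hπ⟩ : ∃ π : X →* X ⧸ C, π = QuotientGroup.mk' C := ⟨_, rfl⟩
  have hπker : ∀ x : X, π x = 1 ↔ x ∈ C := by
    intro x; rw [hπ]; exact QuotientGroup.eq_one_iff x
  obtain ⟨SM, hSM⟩ : ∃ SM : Set X, SM = {x | x ∈ M ∧ Odd (orderOf x)} := ⟨_, rfl⟩
  obtain ⟨A, hA⟩ : ∃ A : Subgroup (X ⧸ C), A = Subgroup.closure (π '' SM) := ⟨_, rfl⟩
  have hgen : ∀ z ∈ π '' SM, ∀ w ∈ π '' SM, z * w = w * z := by
    rintro _ ⟨x, hx, rfl⟩ _ ⟨y, hy, rfl⟩
    rw [hSM] at hx hy
    have h1 := hcomm x hx.1 y hy.1 hx.2 hy.2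
    have h2 : π (x * y * x⁻¹ * y⁻¹) = 1 := (hπker _).mpr h1
    rw [map_mul, map_mul, map_mul, map_inv, map_inv] at h2
    calc π x * π y = (π x * π y * (π x)⁻¹ * (π y)⁻¹) * (π y * π x) := by group
      _ = π y * π x := by rw [h2, one_mul]
  have hA1 : A ≤ Subgroup.centralizer (π '' SM) := by
    rw [hA, Subgroup.closure_le]
    intro z hz
    rw [SetLike.mem_coe, Subgroup.mem_centralizer_iff]
    intro w hw
    exact hgen w hw z hz
  have hA2 : A ≤ Subgroup.centralizer (A : Set (X ⧸ C)) := by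
    intro z hz
    have hz' : z ∈ Subgroup.closure (π '' SM) := hA ▸ hz
    have hsub : Subgroup.closure (π '' SM) ≤ Subgroup.centralizer (A : Set (X ⧸ C)) := by
      rw [Subgroup.closure_le]
      intro z hz
      rw [SetLike.mem_coe, Subgroup.mem_centralizer_iff]
      intro w hw
      have h1 := hA1 hw
      rw [Subgroup.mem_centralizer_iff] at h1
      exact (h1 z hz).symm
    exact hsub hz'
  have hF1 : ∀ z ∈ A, ∀ w ∈ A, z * w = w * z := by
    intro z hz w hw
    have h1 := hA2 hw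
    rw [Subgroup.mem_centralizer_iff] at h1
    exact h1 z hz
  obtain ⟨a, m, hm, hcard⟩ := Nat.exists_eq_two_pow_mul_odd (Nat.card_pos (α := X ⧸ C)).ne'
  have hF2 : ∀ z ∈ Subgroup.closure (π '' SM), z ^ m = 1 := by
    intro z hz
    induction hz using Subgroup.closure_induction with
    | mem z hz =>
      obtain ⟨x, hx, rfl⟩ := hz
      rw [hSM] at hx
      have h1 : orderOf (π x) ∣ orderOf x := orderOf_map_dvd π x
      have h2 : Odd (orderOf (π x)) := hx.2.of_dvd_nat h1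
      have h3 : orderOf (π x) ∣ 2 ^ a * m := hcard ▸ orderOf_dvd_natCard (π x)
      have h4 : Nat.Coprime (orderOf (π x)) (2 ^ a) :=
        Nat.Coprime.pow_right a h2.coprime_two_right
      exact orderOf_dvd_iff_pow_eq_one.mp (h4.dvd_of_dvd_mul_left h3)
    | one => exact one_pow m
    | mul z w hz hw ihz ihw =>
      have hc : Commute z w := hF1 z (hA ▸ hz) w (hA ▸ hw)
      rw [hc.mul_pow, ihz, ihw, one_mul]
    | inv z hz ihz => rw [inv_pow, ihz, inv_one]
  have hSMA : SM ⊆ (A.comap π : Set X) := by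
    intro x hx
    show π x ∈ A
    rw [hA]; exact Subgroup.subset_closure ⟨x, hx, rfl⟩
  have hKA : K ≤ A.comap π := by
    rw [← hKgen, Subgroup.closure_le]
    intro g hg
    apply hSMA
    rw [hSM]; exact ⟨hKM hg.1, hg.2⟩
  have hCA : C ≤ A.comap π := by
    intro c hc
    show π c ∈ A
    rw [(hπker c).mpr hc]; exact A.one_mem
  have hconj : Group.conjugatesOfSet SM ⊆ SM := by
    intro b hb
    rw [Group.mem_conjugatesOfSet_iff] at hb
    obtain ⟨x, hx, hxb⟩ := hb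
    rw [isConj_iff] at hxb
    obtain ⟨c, rfl⟩ := hxb
    rw [hSM] at hx ⊢
    refine ⟨hM.conj_mem x hx.1 c, ?_⟩
    have h1 : orderOf ((MulAut.conj c).toMonoidHom x) = orderOf x :=
      orderOf_injective _ (MulAut.conj c).injective x
    have h2 : (MulAut.conj c).toMonoidHom x = c * x * c⁻¹ := rfl
    rw [h2] at h1
    show Odd (orderOf (c * x * c⁻¹))
    rw [h1]; exact hx.2
  obtain ⟨R, hR⟩ : ∃ R : Subgroup X, R = C ⊔ Subgroup.normalClosure SM := ⟨_, rfl⟩
  have hRA : R ≤ A.comap π := by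
    rw [hR]
    refine sup_le hCA ?_
    show Subgroup.closure (Group.conjugatesOfSet SM) ≤ _
    rw [Subgroup.closure_le]
    exact fun b hb => hSMA (hconj hb)
  have hKR : K ⊔ C ≤ R := by
    rw [hR]
    refine sup_le ?_ le_sup_left
    refine le_trans ?_ le_sup_right
    rw [← hKgen, Subgroup.closure_le]
    intro g hg
    apply Subgroup.subset_normalClosure
    rw [hSM]; exact ⟨hKM hg.1, hg.2⟩
  have hRn : R.Normal := by rw [hR]; infer_instance
  have hfwd : ∀ r ∈ R, ∀ h ∈ K ⊔ C, r * h * r⁻¹ ∈ K ⊔ C := by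
    intro r hr h hh
    have h1 : π r * π h = π h * π r := hF1 _ (hRA hr) _ (hRA (hKR hh))
    have h2 : r * h * r⁻¹ * h⁻¹ ∈ C := by
      rw [← hπker, map_mul, map_mul, map_mul, map_inv, map_inv, h1]; group
    have h3 : r * h * r⁻¹ = (r * h * r⁻¹ * h⁻¹) * h := by group
    rw [h3]
    exact Subgroup.mul_mem _ (Subgroup.mem_sup_right h2) hh
  have hRN : R ≤ Subgroup.normalizer ((K ⊔ C : Subgroup X) : Set X) := by
    intro r hr
    rw [Subgroup.mem_normalizer_iff]
    intro h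
    constructor
    · exact hfwd r hr h
    · intro hh
      have h1 := hfwd r⁻¹ (R.inv_mem hr) _ hh
      have e : r⁻¹ * (r * h * r⁻¹) * r⁻¹⁻¹ = h := by group
      rwa [e] at h1
  have hOC : O ≤ C := by
    intro o ho
    rw [← hπker]
    have h1 : (π o) ^ m = 1 := hF2 _ (hA ▸ hKA (hOK ho))
    obtain ⟨k, hk⟩ := hO ⟨o, ho⟩
    have h2 : o ^ (2 ^ k) = 1 := by
      have h := congrArg Subtype.val hk
      simpa using h
    have h3 : (π o) ^ (2 ^ k) = 1 := by rw [← map_pow, h2, map_one]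
    have h4 : (π o) ^ Nat.gcd m (2 ^ k) = 1 := pow_gcd_eq_one.mpr ⟨h1, h3⟩
    have h5 : Nat.gcd m (2 ^ k) = 1 := Nat.Coprime.pow_right k hm.coprime_two_right
    rw [h5, pow_one] at h4
    exact h4
  have hOQ : O ≤ Q := by
    haveI : Fact (Nat.Prime 2) := ⟨Nat.prime_two⟩
    have hTidx : ¬ 2 ∣ T.index := fun h =>
      (Nat.not_even_iff_odd.mpr hTodd) (even_iff_two_dvd.mpr h)
    obtain ⟨P, hP⟩ : ∃ P : Sylow 2 X, (P : Subgroup X) = T :=
      ⟨hT.toSylow hTidx, IsPGroup.toSylow_coe _ _⟩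
    obtain ⟨P', hP'⟩ := hO.exists_le_sylow
    obtain ⟨g, hg⟩ := MulAction.exists_smul_eq X P P'
    intro o ho
    have h1 : o ∈ (P' : Subgroup X) := hP' ho
    rw [← hg, Sylow.coe_subgroup_smul] at h1
    obtain ⟨t, ht, hto⟩ := (Subgroup.mem_smul_pointwise_iff_exists _ _ _).mp h1
    have hto' : g * t * g⁻¹ = o := hto
    rw [hP] at ht
    have htC : t ∈ C := by
      have h2 : t = g⁻¹ * o * g⁻¹⁻¹ := by rw [← hto']; group
      rw [h2]; exact hC.conj_mem o (hOC ho) g⁻¹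
    have htQ : t ∈ Q := hTC ⟨ht, htC⟩
    rw [← hto']; exact hQ.conj_mem t htQ g
  exact ⟨hOQ, R, hRn, hKR, hRN⟩

example : Cfsg.Agent.H52.Sn.StFinA.{u} := finA

end Cfsg.Agent.H8.Sn
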