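import Mathlib
import Cfsg.Agent.H52.SpDefs

/-!
# S2944, piece SP-GLPA (for helper52 / helper66)

A central extension `f : Y →* X'`, with kernel of odd order, of a group generated by
independent normal copies of `SL(2,2)`: the elements of odd order of `Y` commute.

The first half (odd-order elements of the range lie in the subgroup `S` generated by the
squares of the elements of the factors) follows helper89's `H89/SnGLA.lean`; the second
half shows that any two preimages of elements of `S` commute.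
-/

set_option autoImplicit false

namespace Cfsg.Agent.H8.Sp

open Cfsg.Agent.H52.Sn

universe u

theorem sl22_sq_inv : ∀ A : Matrix.SpecialLinearGroup (Fin 2) (ZMod 2),
    ∃ s : Matrix.SpecialLinearGroup (Fin 2) (ZMod 2), s * (A * A) * s⁻¹ = (A * A)⁻¹ := by
  decide

theorem sl22_sq_pow : ∀ A B : Matrix.SpecialLinearGroup (Fin 2) (ZMod 2),
    A * A = 1 ∨ B * B = 1 ∨ B * B = A * A ∨ B * B = (A * A) * (A * A) := by
  decide

/-- If `s` inverts `u` and centralizes `w` modulo central elements and `[u, w]` is central,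
then `[u, w]² = 1`. -/
theorem central_comm_sq {G : Type*} [Group G] (u w s z₁ z₂ : G)
    (h1 : ∀ g, z₁ * g = g * z₁) (h2 : ∀ g, z₂ * g = g * z₂)
    (hc : ∀ g, (u * w * u⁻¹ * w⁻¹) * g = g * (u * w * u⁻¹ * w⁻¹))
    (hu : s * u * s⁻¹ = u⁻¹ * z₁) (hw : s * w * s⁻¹ = w * z₂) :
    (u * w * u⁻¹ * w⁻¹) * (u * w * u⁻¹ * w⁻¹) = 1 := by
  obtain ⟨c, hcdef⟩ : ∃ c : G, c = u * w * u⁻¹ * w⁻¹ := ⟨_, rfl⟩
  rw [← hcdef] at hc ⊢
  have e1 : s * c * s⁻¹ = c := by
    rw [← hc s]
    group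
  have e2 : s * c * s⁻¹
      = (s * u * s⁻¹) * (s * w * s⁻¹) * (s * u * s⁻¹)⁻¹ * (s * w * s⁻¹)⁻¹ := by
    rw [hcdef]
    group
  rw [hu, hw] at e2
  have e3 : (u⁻¹ * z₁) * (w * z₂) * (u⁻¹ * z₁)⁻¹ * (w * z₂)⁻¹ = u⁻¹ * w * u * w⁻¹ := by
    have a1 : (u⁻¹ * z₁) * (w * z₂) = (u⁻¹ * w) * (z₁ * z₂) := by
      calc (u⁻¹ * z₁) * (w * z₂) = u⁻¹ * (z₁ * w) * z₂ := by group
        _ = u⁻¹ * (w * z₁) * z₂ := by rw [h1 w]
        _ = (u⁻¹ * w) * (z₁ * z₂) := by group
    have a2 : (w * z₂) * (u⁻¹ * z₁) = (w * u⁻¹) * (z₁ * z₂) := by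
      calc (w * z₂) * (u⁻¹ * z₁) = w * (z₂ * (u⁻¹ * z₁)) := by group
        _ = w * ((u⁻¹ * z₁) * z₂) := by rw [h2 (u⁻¹ * z₁)]
        _ = (w * u⁻¹) * (z₁ * z₂) := by group
    calc (u⁻¹ * z₁) * (w * z₂) * (u⁻¹ * z₁)⁻¹ * (w * z₂)⁻¹
        = ((u⁻¹ * z₁) * (w * z₂)) * ((w * z₂) * (u⁻¹ * z₁))⁻¹ := by group
      _ = ((u⁻¹ * w) * (z₁ * z₂)) * ((w * u⁻¹) * (z₁ * z₂))⁻¹ := by rw [a1, a2]
      _ = u⁻¹ * w * u * w⁻¹ := by group
  have e4 : u⁻¹ * w * u * w⁻¹ = c⁻¹ := by
    have hci : c⁻¹ * u = u * c⁻¹ := by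
      have h0 := hc u
      calc c⁻¹ * u = c⁻¹ * (u * c) * c⁻¹ := by group
        _ = c⁻¹ * (c * u) * c⁻¹ := by rw [h0]
        _ = u * c⁻¹ := by group
    calc u⁻¹ * w * u * w⁻¹ = u⁻¹ * (c⁻¹ * u) := by rw [hcdef]; group
      _ = u⁻¹ * (u * c⁻¹) := by rw [hci]
      _ = c⁻¹ := by group
  have e5 : c = c⁻¹ := by
    calc c = s * c * s⁻¹ := e1.symm
      _ = (u⁻¹ * z₁) * (w * z₂) * (u⁻¹ * z₁)⁻¹ * (w * z₂)⁻¹ := e2
      _ = u⁻¹ * w * u * w⁻¹ := e3
      _ = c⁻¹ := e4
  have e6 : c * c = c * c⁻¹ := congrArg (fun t => c * t) e5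
  rw [e6, mul_inv_cancel]

/-- Preimages of the elements of a subgroup generated by `gens` commute as soon as the
preimages of the generators do (the kernel being central). -/
theorem comm_of_gens {Y X' : Type*} [Group Y] [Group X'] (f : Y →* X') (gens : Set X')
    (hker : ∀ z ∈ f.ker, ∀ y : Y, z * y = y * z)
    (hSr : Subgroup.closure gens ≤ f.range)
    (hbase : ∀ a ∈ gens, ∀ b ∈ gens, ∀ u w : Y, f u = a → f w = b → u * w = w * u) :
    ∀ a ∈ Subgroup.closure gens, ∀ b ∈ Subgroup.closure gens, ∀ u w : Y,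
      f u = a → f w = b → u * w = w * u := by
  have step1 : ∀ a ∈ gens, ∀ b ∈ Subgroup.closure gens, ∀ u w : Y,
      f u = a → f w = b → u * w = w * u := by
    intro a ha b hb
    induction hb using Subgroup.closure_induction with
    | mem b hb => exact hbase a ha b hb
    | one =>
      intro u w _ hw
      exact (hker w (MonoidHom.mem_ker.mpr hw) u).symm
    | mul b1 b2 hb1 hb2 ih1 ih2 =>
      intro u w hu hw
      obtain ⟨w1, hw1⟩ := hSr hb1
      have hw2 : f (w1⁻¹ * w) = b2 := by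
        rw [map_mul, map_inv, hw1, hw]
        group
      have c1 := ih1 u w1 hu hw1
      have c2 := ih2 u (w1⁻¹ * w) hu hw2
      calc u * w = (u * w1) * (w1⁻¹ * w) := by group
        _ = (w1 * u) * (w1⁻¹ * w) := by rw [c1]
        _ = w1 * (u * (w1⁻¹ * w)) := by group
        _ = w1 * ((w1⁻¹ * w) * u) := by rw [c2]
        _ = w * u := by group
    | inv b hb ih =>
      intro u w hu hw
      have hw' : f w⁻¹ = b := by rw [map_inv, hw, inv_inv]
      have c1 := ih u w⁻¹ hu hw'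
      calc u * w = w * (w⁻¹ * u) * w := by group
        _ = w * (u * w⁻¹) * w := by rw [c1]
        _ = w * u := by group
  intro a ha
  induction ha using Subgroup.closure_induction with
  | mem a ha => exact step1 a ha
  | one =>
    intro b _ u w hu _
    exact hker u (MonoidHom.mem_ker.mpr hu) w
  | mul a1 a2 ha1 ha2 ih1 ih2 =>
    intro b hb u w hu hw
    obtain ⟨u1, hu1⟩ := hSr ha1
    have hu2 : f (u1⁻¹ * u) = a2 := by
      rw [map_mul, map_inv, hu1, hu]
      group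
    have c1 := ih1 b hb u1 w hu1 hw
    have c2 := ih2 b hb (u1⁻¹ * u) w hu2 hw
    calc u * w = u1 * ((u1⁻¹ * u) * w) := by group
      _ = u1 * (w * (u1⁻¹ * u)) := by rw [c2]
      _ = (u1 * w) * (u1⁻¹ * u) := by group
      _ = (w * u1) * (u1⁻¹ * u) := by rw [c1]
      _ = w * u := by group
  | inv a ha ih =>
    intro b hb u w hu hw
    have hu' : f u⁻¹ = a := by rw [map_inv, hu, inv_inv]
    have c1 := ih b hb u⁻¹ w hu' hw
    calc u * w = u * (w * u⁻¹) * u := by group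
      _ = u * (u⁻¹ * w) * u := by rw [c1]
      _ = w * u := by group

/-- piece SP-GLPA -/
theorem glpA : StGLPA.{u} := by
  intro Y X' _ _ _ _ f ι E hker hoddk hN hiso hind hsup x y hxo hyo
  obtain ⟨H, hH⟩ : ∃ H : Subgroup X', H = f.range := ⟨_, rfl⟩
  rw [← hH] at hN hsup
  have hHr : ∀ h ∈ H, ∃ v : Y, f v = h := by
    intro h hh
    rw [hH] at hh
    exact hh
  have hfH : ∀ v : Y, f v ∈ H := by
    intro v
    rw [hH]
    exact ⟨v, rfl⟩
  have hEH : ∀ i, E i ≤ H := fun i => hsup ▸ le_iSup E i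
  have hconj : ∀ i, ∀ h ∈ H, ∀ e ∈ E i, h * e * h⁻¹ ∈ E i := by
    intro i h hh e he
    exact (Subgroup.mem_normalizer_iff.mp (hN i hh) e).mp he
  -- different factors commute
  have hcomm : ∀ i j, i ≠ j → ∀ a ∈ E i, ∀ b ∈ E j, a * b = b * a := by
    intro i j hij a ha b hb
    have hd : Disjoint (E i) (E j) := hind.pairwiseDisjoint hij
    have h1 : a * b * a⁻¹ * b⁻¹ ∈ E i := by
      have h0 := hconj i b (hEH j hb) a⁻¹ ((E i).inv_mem ha)
      have e : a * b * a⁻¹ * b⁻¹ = a * (b * a⁻¹ * b⁻¹) := by group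
      rw [e]
      exact (E i).mul_mem ha h0
    have h2 : a * b * a⁻¹ * b⁻¹ ∈ E j := by
      have h0 := hconj j a (hEH i ha) b hb
      exact (E j).mul_mem h0 ((E j).inv_mem hb)
    have h3 := Subgroup.disjoint_def.mp hd h1 h2
    have e : a * b = (a * b * a⁻¹ * b⁻¹) * (b * a) := by group
    rw [e, h3, one_mul]
  -- the subgroup generated by the squares
  obtain ⟨gens, hgens⟩ : ∃ gens : Set X', gens = {s : X' | ∃ i, ∃ e ∈ E i, s = e * e} :=
    ⟨_, rfl⟩
  obtain ⟨S, hSdef⟩ : ∃ S : Subgroup X', S = Subgroup.closure gens := ⟨_, rfl⟩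
  have hsq : ∀ i, ∀ e ∈ E i, e * e ∈ S := by
    intro i e he
    rw [hSdef]
    apply Subgroup.subset_closure
    rw [hgens]
    exact ⟨i, e, he, rfl⟩
  -- it is normalized by `H`
  have hSn : ∀ h ∈ H, ∀ s ∈ S, h * s * h⁻¹ ∈ S := by
    intro h hh s hs
    rw [hSdef] at hs
    induction hs using Subgroup.closure_induction with
    | mem s hs =>
      rw [hgens] at hs
      obtain ⟨i, e, he, rfl⟩ := hs
      have e1 : h * (e * e) * h⁻¹ = (h * e * h⁻¹) * (h * e * h⁻¹) := by group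
      rw [e1]
      exact hsq i _ (hconj i h hh e he)
    | one =>
      have e1 : h * 1 * h⁻¹ = 1 := by group
      rw [e1]
      exact S.one_mem
    | mul a b _ _ ha hb =>
      have e1 : h * (a * b) * h⁻¹ = (h * a * h⁻¹) * (h * b * h⁻¹) := by group
      rw [e1]
      exact S.mul_mem ha hb
    | inv a _ ha =>
      have e1 : h * a⁻¹ * h⁻¹ = (h * a * h⁻¹)⁻¹ := by group
      rw [e1]
      exact S.inv_mem ha
  -- the elements of the factors are central modulo `S`
  have hD : ∀ i, ∀ e ∈ E i, ∀ g ∈ H, g * e * g⁻¹ * e⁻¹ ∈ S := by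
    intro i e he g hg
    have key : g ∈ H ∧ g * e * g⁻¹ * e⁻¹ ∈ S := by
      rw [← hsup] at hg
      refine Subgroup.iSup_induction E (C := fun g => g ∈ H ∧ g * e * g⁻¹ * e⁻¹ ∈ S) hg ?_ ?_ ?_
      · intro j g hg
        refine ⟨hEH j hg, ?_⟩
        by_cases hij : j = i
        · subst hij
          have e1 : g * e * g⁻¹ * e⁻¹
              = (g * e) * (g * e) * (e⁻¹ * (g⁻¹ * g⁻¹) * e⁻¹⁻¹) * (e⁻¹ * e⁻¹) := by group
          rw [e1]
          refine S.mul_mem (S.mul_mem (hsq j _ ((E j).mul_mem hg he)) ?_)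
            (hsq j _ ((E j).inv_mem he))
          exact hSn e⁻¹ (H.inv_mem (hEH j he)) _ (hsq j _ ((E j).inv_mem hg))
        · have hc := hcomm j i hij g hg e he
          have e1 : g * e * g⁻¹ * e⁻¹ = 1 := by
            rw [hc]
            group
          rw [e1]
          exact S.one_mem
      · refine ⟨H.one_mem, ?_⟩
        have e1 : (1 : X') * e * 1⁻¹ * e⁻¹ = 1 := by group
        rw [e1]
        exact S.one_mem
      · rintro g1 g2 ⟨hg1, h1⟩ ⟨hg2, h2⟩
        refine ⟨H.mul_mem hg1 hg2, ?_⟩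
        have e1 : g1 * g2 * e * (g1 * g2)⁻¹ * e⁻¹
            = (g1 * (g2 * e * g2⁻¹ * e⁻¹) * g1⁻¹) * (g1 * e * g1⁻¹ * e⁻¹) := by group
        rw [e1]
        exact S.mul_mem (hSn g1 hg1 _ h2) h1
    exact key.2
  -- every square lies in `S`
  have hC : ∀ h ∈ H, h * h ∈ S := by
    intro h hh
    have key : h ∈ H ∧ h * h ∈ S ∧ ∀ g ∈ H, g * h * g⁻¹ * h⁻¹ ∈ S := by
      rw [← hsup] at hh
      refine Subgroup.iSup_induction E
        (C := fun h => h ∈ H ∧ h * h ∈ S ∧ ∀ g ∈ H, g * h * g⁻¹ * h⁻¹ ∈ S) hh ?_ ?_ ?_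
      · intro i h hh
        exact ⟨hEH i hh, hsq i h hh, fun g hg => hD i h hh g hg⟩
      · refine ⟨H.one_mem, ?_, ?_⟩
        · rw [one_mul]
          exact S.one_mem
        · intro g _
          have e1 : g * 1 * g⁻¹ * (1 : X')⁻¹ = 1 := by group
          rw [e1]
          exact S.one_mem
      · rintro h1 h2 ⟨hh1, hs1, hc1⟩ ⟨hh2, hs2, hc2⟩
        refine ⟨H.mul_mem hh1 hh2, ?_, ?_⟩
        · have e1 : h1 * h2 * (h1 * h2)
              = (h1 * (h2 * h1 * h2⁻¹ * h1⁻¹) * h1⁻¹) * (h1 * h1) * (h2 * h2) := by group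
          rw [e1]
          exact S.mul_mem (S.mul_mem (hSn h1 hh1 _ (hc1 h2 hh2)) hs1) hs2
        · intro g hg
          have e1 : g * (h1 * h2) * g⁻¹ * (h1 * h2)⁻¹
              = (g * h1 * g⁻¹ * h1⁻¹) * (h1 * (g * h2 * g⁻¹ * h2⁻¹) * h1⁻¹) := by group
          rw [e1]
          exact S.mul_mem (hc1 g hg) (hSn h1 hh1 _ (hc2 g hg))
    exact key.2.1
  -- elements of odd order are powers of their squares
  have hodd : ∀ z ∈ H, Odd (orderOf z) → z ∈ S := by
    intro z hz ho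
    obtain ⟨m, hm⟩ := ho
    have e1 : z = (z * z) ^ (m + 1) := by
      rw [← pow_two, ← pow_mul]
      have e2 : 2 * (m + 1) = orderOf z + 1 := by omega
      rw [e2, pow_succ, pow_orderOf_eq_one, one_mul]
    rw [e1]
    exact S.pow_mem (hC z hz) _
  -- `S ≤ range f`
  have hSr : Subgroup.closure gens ≤ f.range := by
    rw [Subgroup.closure_le]
    intro s hs
    rw [hgens] at hs
    obtain ⟨i, e, he, rfl⟩ := hs
    have h0 : e * e ∈ H := H.mul_mem (hEH i he) (hEH i he)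
    rw [hH] at h0
    exact h0
  -- a central element of the kernel with trivial square is trivial
  have hc1 : ∀ c ∈ f.ker, c * c = 1 → c = 1 := by
    intro c hc hcc
    obtain ⟨k, hk⟩ := hoddk
    have h0 : (⟨c, hc⟩ : f.ker) ^ Nat.card ↥f.ker = 1 := pow_card_eq_one'
    have h1 : c ^ Nat.card ↥f.ker = 1 := by
      have h2 := congrArg Subtype.val h0
      simpa using h2
    rw [hk, pow_succ, pow_mul, pow_two, hcc, one_pow, one_mul] at h1
    exact h1
  -- preimages of two squares commute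
  have hbase : ∀ a ∈ gens, ∀ b ∈ gens, ∀ u w : Y, f u = a → f w = b → u * w = w * u := by
    intro a ha b hb u w hu hw
    rw [hgens] at ha hb
    obtain ⟨i, e, he, rfl⟩ := ha
    obtain ⟨j, e', he', rfl⟩ := hb
    by_cases hij : i = j
    · subst hij
      obtain ⟨φ⟩ := hiso i
      have hval : ∀ p q : ↥(E i), φ p = φ q → (p : X') = (q : X') := fun p q h =>
        congrArg Subtype.val (φ.injective h)
      rcases sl22_sq_pow (φ ⟨e, he⟩) (φ ⟨e', he'⟩) with h1 | h1 | h1 | h1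
      · -- `e * e = 1`
        have h2 : φ (⟨e, he⟩ * ⟨e, he⟩) = φ 1 := by
          rw [map_mul, map_one]
          exact h1
        have h3 : e * e = 1 := hval _ _ h2
        rw [h3] at hu
        exact hker u (MonoidHom.mem_ker.mpr hu) w
      · have h2 : φ (⟨e', he'⟩ * ⟨e', he'⟩) = φ 1 := by
          rw [map_mul, map_one]
          exact h1
        have h3 : e' * e' = 1 := hval _ _ h2
        rw [h3] at hw
        exact (hker w (MonoidHom.mem_ker.mpr hw) u).symm
      · have h2 : φ (⟨e', he'⟩ * ⟨e', he'⟩) = φ (⟨e, he⟩ * ⟨e, he⟩) := by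
          rw [map_mul, map_mul]
          exact h1
        have h3 : e' * e' = e * e := hval _ _ h2
        have hz : u⁻¹ * w ∈ f.ker := by
          rw [MonoidHom.mem_ker, map_mul, map_inv, hu, hw, h3]
          group
        have hzc := hker _ hz u
        calc u * w = u * (u * (u⁻¹ * w)) := by group
          _ = u * ((u⁻¹ * w) * u) := by rw [hzc]
          _ = w * u := by group
      · have h2 : φ (⟨e', he'⟩ * ⟨e', he'⟩)
            = φ ((⟨e, he⟩ * ⟨e, he⟩) * (⟨e, he⟩ * ⟨e, he⟩)) := by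
          rw [map_mul, map_mul, map_mul]
          exact h1
        have h3 : e' * e' = (e * e) * (e * e) := hval _ _ h2
        have hz : (u * u)⁻¹ * w ∈ f.ker := by
          rw [MonoidHom.mem_ker, map_mul, map_inv, map_mul, hu, hw, h3]
          group
        have hzc := hker _ hz u
        calc u * w = u * (u * u * ((u * u)⁻¹ * w)) := by group
          _ = u * u * (u * ((u * u)⁻¹ * w)) := by group
          _ = u * u * (((u * u)⁻¹ * w) * u) := by rw [hzc]
          _ = w * u := by group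
    · obtain ⟨φ⟩ := hiso i
      obtain ⟨s', hs'⟩ := sl22_sq_inv (φ ⟨e, he⟩)
      have h2 : φ (φ.symm s' * (⟨e, he⟩ * ⟨e, he⟩) * (φ.symm s')⁻¹)
          = φ ((⟨e, he⟩ * ⟨e, he⟩)⁻¹) := by
        simp only [map_mul, map_inv, MulEquiv.apply_symm_apply]
        exact hs'
      have h3 := congrArg Subtype.val (φ.injective h2)
      simp only [Subgroup.coe_mul, Subgroup.coe_inv] at h3
      obtain ⟨s0, hs0def⟩ : ∃ s0 : X', s0 = ((φ.symm s' : ↥(E i)) : X') := ⟨_, rfl⟩
      rw [← hs0def] at h3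
      have hs0 : s0 ∈ E i := by
        rw [hs0def]
        exact (φ.symm s').2
      obtain ⟨s, hs⟩ := hHr s0 (hEH i hs0)
      have hee : e * e ∈ E i := (E i).mul_mem he he
      have hee' : e' * e' ∈ E j := (E j).mul_mem he' he'
      have hc0 : s0 * (e' * e') = (e' * e') * s0 := hcomm i j hij s0 hs0 _ hee'
      have hab : (e * e) * (e' * e') = (e' * e') * (e * e) := hcomm i j hij _ hee _ hee'
      have hz1 : u * (s * u * s⁻¹) ∈ f.ker := by
        rw [MonoidHom.mem_ker, map_mul, map_mul, map_mul, map_inv, hu, hs, h3]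
        group
      have hz2 : w⁻¹ * (s * w * s⁻¹) ∈ f.ker := by
        rw [MonoidHom.mem_ker, map_mul, map_inv, map_mul, map_mul, map_inv, hw, hs, hc0]
        group
      have hck : u * w * u⁻¹ * w⁻¹ ∈ f.ker := by
        rw [MonoidHom.mem_ker, map_mul, map_mul, map_mul, map_inv, map_inv, hu, hw, hab]
        group
      have hcc := central_comm_sq u w s (u * (s * u * s⁻¹)) (w⁻¹ * (s * w * s⁻¹))
        (hker _ hz1) (hker _ hz2) (hker _ hck) (by group) (by group)
      have hc2 := hc1 _ hck hcc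
      calc u * w = (u * w * u⁻¹ * w⁻¹) * (w * u) := by group
        _ = w * u := by rw [hc2, one_mul]
  have key := comm_of_gens f gens hker hSr hbase
  have hfx : f x ∈ S := by
    apply hodd (f x) (hfH x)
    exact Odd.of_dvd_nat hxo (orderOf_map_dvd f x)
  have hfy : f y ∈ S := by
    apply hodd (f y) (hfH y)
    exact Odd.of_dvd_nat hyo (orderOf_map_dvd f y)
  rw [hSdef] at hfx hfy
  exact key (f x) hfx (f y) hfy x y rfl rfl

example : Cfsg.Agent.H52.Sn.StGLPA.{u} := glpA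

end Cfsg.Agent.H8.Sp
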