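import Mathlib
import Cfsg.Agent.H8.SpGlpa
import Cfsg.Agent.H37.SpDefs

/-!
# S2944, piece SP-CEXT (for helper37)

The twin of `SP-GLPA` (`Cfsg.Agent.H8.Sp.glpA`) without finiteness of the target group and
with the kernel hypothesis stated as `π.ker ≤ center`.  Same proof (the helper lemmas are
those of `H8/SpGlpa.lean`).
-/

set_option autoImplicit false

namespace Cfsg.Agent.H8.Sp

universe u

/-- The common core of `SP-GLPA` and `SP-CEXT` (target group not assumed finite). -/
theorem cext_core {Y X' : Type u} [Group Y] [Finite Y] [Group X'] (f : Y →* X')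
    {ι : Type u} (E : ι → Subgroup X')
    (hker : ∀ z ∈ f.ker, ∀ y : Y, z * y = y * z) (hoddk : Odd (Nat.card ↥f.ker))
    (hN : ∀ i, f.range ≤ Subgroup.normalizer ((E i : Subgroup X') : Set X'))
    (hiso : ∀ i, Nonempty (↥(E i) ≃* Matrix.SpecialLinearGroup (Fin 2) (ZMod 2)))
    (hind : iSupIndep E) (hsup : (⨆ i, E i) = f.range)
    (x y : Y) (hxo : Odd (orderOf x)) (hyo : Odd (orderOf y)) : x * y = y * x := by
  obtain ⟨H, hH⟩ : ∃ H : Subgroup X', H = f.range := ⟨_, rfl⟩
  rw [← hH] at hN hsup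
  have hHr : ∀ h ∈ H, ∃ v : Y, f v = h := by
    intro h hh
    rw [hH] at hh
    exact hh
  have hfH : ∀ v : Y, f v ∈ H := by
    intro v
    rw [hH]
    exact ⟨v, rfl⟩
  have hEH : ∀ i, E i ≤ H := fun i => hsup ▸ le_iSup E i
  have hconj : ∀ i, ∀ h ∈ H, ∀ e ∈ E i, h * e * h⁻¹ ∈ E i := by
    intro i h hh e he
    exact (Subgroup.mem_normalizer_iff.mp (hN i hh) e).mp he
  -- different factors commute
  have hcomm : ∀ i j, i ≠ j → ∀ a ∈ E i, ∀ b ∈ E j, a * b = b * a := by
    intro i j hij a ha b hb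
    have hd : Disjoint (E i) (E j) := hind.pairwiseDisjoint hij
    have h1 : a * b * a⁻¹ * b⁻¹ ∈ E i := by
      have h0 := hconj i b (hEH j hb) a⁻¹ ((E i).inv_mem ha)
      have e : a * b * a⁻¹ * b⁻¹ = a * (b * a⁻¹ * b⁻¹) := by group
      rw [e]
      exact (E i).mul_mem ha h0
    have h2 : a * b * a⁻¹ * b⁻¹ ∈ E j := by
      have h0 := hconj j a (hEH i ha) b hb
      exact (E j).mul_mem h0 ((E j).inv_mem hb)
    have h3 := Subgroup.disjoint_def.mp hd h1 h2
    have e : a * b = (a * b * a⁻¹ * b⁻¹) * (b * a) := by group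
    rw [e, h3, one_mul]
  -- the subgroup generated by the squares
  obtain ⟨gens, hgens⟩ : ∃ gens : Set X', gens = {s : X' | ∃ i, ∃ e ∈ E i, s = e * e} :=
    ⟨_, rfl⟩
  obtain ⟨S, hSdef⟩ : ∃ S : Subgroup X', S = Subgroup.closure gens := ⟨_, rfl⟩
  have hsq : ∀ i, ∀ e ∈ E i, e * e ∈ S := by
    intro i e he
    rw [hSdef]
    apply Subgroup.subset_closure
    rw [hgens]
    exact ⟨i, e, he, rfl⟩
  -- it is normalized by `H`
  have hSn : ∀ h ∈ H, ∀ s ∈ S, h * s * h⁻¹ ∈ S := by
    intro h hh s hs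
    rw [hSdef] at hs
    induction hs using Subgroup.closure_induction with
    | mem s hs =>
      rw [hgens] at hs
      obtain ⟨i, e, he, rfl⟩ := hs
      have e1 : h * (e * e) * h⁻¹ = (h * e * h⁻¹) * (h * e * h⁻¹) := by group
      rw [e1]
      exact hsq i _ (hconj i h hh e he)
    | one =>
      have e1 : h * 1 * h⁻¹ = 1 := by group
      rw [e1]
      exact S.one_mem
    | mul a b _ _ ha hb =>
      have e1 : h * (a * b) * h⁻¹ = (h * a * h⁻¹) * (h * b * h⁻¹) := by group
      rw [e1]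
      exact S.mul_mem ha hb
    | inv a _ ha =>
      have e1 : h * a⁻¹ * h⁻¹ = (h * a * h⁻¹)⁻¹ := by group
      rw [e1]
      exact S.inv_mem ha
  -- the elements of the factors are central modulo `S`
  have hD : ∀ i, ∀ e ∈ E i, ∀ g ∈ H, g * e * g⁻¹ * e⁻¹ ∈ S := by
    intro i e he g hg
    have key : g ∈ H ∧ g * e * g⁻¹ * e⁻¹ ∈ S := by
      rw [← hsup] at hg
      refine Subgroup.iSup_induction E (C := fun g => g ∈ H ∧ g * e * g⁻¹ * e⁻¹ ∈ S) hg ?_ ?_ ?_
      · intro j g hg
        refine ⟨hEH j hg, ?_⟩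
        by_cases hij : j = i
        · subst hij
          have e1 : g * e * g⁻¹ * e⁻¹
              = (g * e) * (g * e) * (e⁻¹ * (g⁻¹ * g⁻¹) * e⁻¹⁻¹) * (e⁻¹ * e⁻¹) := by group
          rw [e1]
          refine S.mul_mem (S.mul_mem (hsq j _ ((E j).mul_mem hg he)) ?_)
            (hsq j _ ((E j).inv_mem he))
          exact hSn e⁻¹ (H.inv_mem (hEH j he)) _ (hsq j _ ((E j).inv_mem hg))
        · have hc := hcomm j i hij g hg e he
          have e1 : g * e * g⁻¹ * e⁻¹ = 1 := by
            rw [hc]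
            group
          rw [e1]
          exact S.one_mem
      · refine ⟨H.one_mem, ?_⟩
        have e1 : (1 : X') * e * 1⁻¹ * e⁻¹ = 1 := by group
        rw [e1]
        exact S.one_mem
      · rintro g1 g2 ⟨hg1, h1⟩ ⟨hg2, h2⟩
        refine ⟨H.mul_mem hg1 hg2, ?_⟩
        have e1 : g1 * g2 * e * (g1 * g2)⁻¹ * e⁻¹
            = (g1 * (g2 * e * g2⁻¹ * e⁻¹) * g1⁻¹) * (g1 * e * g1⁻¹ * e⁻¹) := by group
        rw [e1]
        exact S.mul_mem (hSn g1 hg1 _ h2) h1
    exact key.2
  -- every square lies in `S`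
  have hC : ∀ h ∈ H, h * h ∈ S := by
    intro h hh
    have key : h ∈ H ∧ h * h ∈ S ∧ ∀ g ∈ H, g * h * g⁻¹ * h⁻¹ ∈ S := by
      rw [← hsup] at hh
      refine Subgroup.iSup_induction E
        (C := fun h => h ∈ H ∧ h * h ∈ S ∧ ∀ g ∈ H, g * h * g⁻¹ * h⁻¹ ∈ S) hh ?_ ?_ ?_
      · intro i h hh
        exact ⟨hEH i hh, hsq i h hh, fun g hg => hD i h hh g hg⟩
      · refine ⟨H.one_mem, ?_, ?_⟩
        · rw [one_mul]
          exact S.one_mem
        · intro g _
          have e1 : g * 1 * g⁻¹ * (1 : X')⁻¹ = 1 := by group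
          rw [e1]
          exact S.one_mem
      · rintro h1 h2 ⟨hh1, hs1, hc1⟩ ⟨hh2, hs2, hc2⟩
        refine ⟨H.mul_mem hh1 hh2, ?_, ?_⟩
        · have e1 : h1 * h2 * (h1 * h2)
              = (h1 * (h2 * h1 * h2⁻¹ * h1⁻¹) * h1⁻¹) * (h1 * h1) * (h2 * h2) := by group
          rw [e1]
          exact S.mul_mem (S.mul_mem (hSn h1 hh1 _ (hc1 h2 hh2)) hs1) hs2
        · intro g hg
          have e1 : g * (h1 * h2) * g⁻¹ * (h1 * h2)⁻¹
              = (g * h1 * g⁻¹ * h1⁻¹) * (h1 * (g * h2 * g⁻¹ * h2⁻¹) * h1⁻¹) := by group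
          rw [e1]
          exact S.mul_mem (hc1 g hg) (hSn h1 hh1 _ (hc2 g hg))
    exact key.2.1
  -- elements of odd order are powers of their squares
  have hodd : ∀ z ∈ H, Odd (orderOf z) → z ∈ S := by
    intro z hz ho
    obtain ⟨m, hm⟩ := ho
    have e1 : z = (z * z) ^ (m + 1) := by
      rw [← pow_two, ← pow_mul]
      have e2 : 2 * (m + 1) = orderOf z + 1 := by omega
      rw [e2, pow_succ, pow_orderOf_eq_one, one_mul]
    rw [e1]
    exact S.pow_mem (hC z hz) _
  -- `S ≤ range f`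
  have hSr : Subgroup.closure gens ≤ f.range := by
    rw [Subgroup.closure_le]
    intro s hs
    rw [hgens] at hs
    obtain ⟨i, e, he, rfl⟩ := hs
    have h0 : e * e ∈ H := H.mul_mem (hEH i he) (hEH i he)
    rw [hH] at h0
    exact h0
  -- a central element of the kernel with trivial square is trivial
  have hc1 : ∀ c ∈ f.ker, c * c = 1 → c = 1 := by
    intro c hc hcc
    obtain ⟨k, hk⟩ := hoddk
    have h0 : (⟨c, hc⟩ : f.ker) ^ Nat.card ↥f.ker = 1 := pow_card_eq_one'
    have h1 : c ^ Nat.card ↥f.ker = 1 := by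
      have h2 := congrArg Subtype.val h0
      simpa using h2
    rw [hk, pow_succ, pow_mul, pow_two, hcc, one_pow, one_mul] at h1
    exact h1
  -- preimages of two squares commute
  have hbase : ∀ a ∈ gens, ∀ b ∈ gens, ∀ u w : Y, f u = a → f w = b → u * w = w * u := by
    intro a ha b hb u w hu hw
    rw [hgens] at ha hb
    obtain ⟨i, e, he, rfl⟩ := ha
    obtain ⟨j, e', he', rfl⟩ := hb
    by_cases hij : i = j
    · subst hij
      obtain ⟨φ⟩ := hiso i
      have hval : ∀ p q : ↥(E i), φ p = φ q → (p : X') = (q : X') := fun p q h =>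
        congrArg Subtype.val (φ.injective h)
      rcases sl22_sq_pow (φ ⟨e, he⟩) (φ ⟨e', he'⟩) with h1 | h1 | h1 | h1
      · -- `e * e = 1`
        have h2 : φ (⟨e, he⟩ * ⟨e, he⟩) = φ 1 := by
          rw [map_mul, map_one]
          exact h1
        have h3 : e * e = 1 := hval _ _ h2
        rw [h3] at hu
        exact hker u (MonoidHom.mem_ker.mpr hu) w
      · have h2 : φ (⟨e', he'⟩ * ⟨e', he'⟩) = φ 1 := by
          rw [map_mul, map_one]
          exact h1
        have h3 : e' * e' = 1 := hval _ _ h2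
        rw [h3] at hw
        exact (hker w (MonoidHom.mem_ker.mpr hw) u).symm
      · have h2 : φ (⟨e', he'⟩ * ⟨e', he'⟩) = φ (⟨e, he⟩ * ⟨e, he⟩) := by
          rw [map_mul, map_mul]
          exact h1
        have h3 : e' * e' = e * e := hval _ _ h2
        have hz : u⁻¹ * w ∈ f.ker := by
          rw [MonoidHom.mem_ker, map_mul, map_inv, hu, hw, h3]
          group
        have hzc := hker _ hz u
        calc u * w = u * (u * (u⁻¹ * w)) := by group
          _ = u * ((u⁻¹ * w) * u) := by rw [hzc]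
          _ = w * u := by group
      · have h2 : φ (⟨e', he'⟩ * ⟨e', he'⟩)
            = φ ((⟨e, he⟩ * ⟨e, he⟩) * (⟨e, he⟩ * ⟨e, he⟩)) := by
          rw [map_mul, map_mul, map_mul]
          exact h1
        have h3 : e' * e' = (e * e) * (e * e) := hval _ _ h2
        have hz : (u * u)⁻¹ * w ∈ f.ker := by
          rw [MonoidHom.mem_ker, map_mul, map_inv, map_mul, hu, hw, h3]
          group
        have hzc := hker _ hz u
        calc u * w = u * (u * u * ((u * u)⁻¹ * w)) := by group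
          _ = u * u * (u * ((u * u)⁻¹ * w)) := by group
          _ = u * u * (((u * u)⁻¹ * w) * u) := by rw [hzc]
          _ = w * u := by group
    · obtain ⟨φ⟩ := hiso i
      obtain ⟨s', hs'⟩ := sl22_sq_inv (φ ⟨e, he⟩)
      have h2 : φ (φ.symm s' * (⟨e, he⟩ * ⟨e, he⟩) * (φ.symm s')⁻¹)
          = φ ((⟨e, he⟩ * ⟨e, he⟩)⁻¹) := by
        simp only [map_mul, map_inv, MulEquiv.apply_symm_apply]
        exact hs'
      have h3 := congrArg Subtype.val (φ.injective h2)
      simp only [Subgroup.coe_mul, Subgroup.coe_inv] at h3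
      obtain ⟨s0, hs0def⟩ : ∃ s0 : X', s0 = ((φ.symm s' : ↥(E i)) : X') := ⟨_, rfl⟩
      rw [← hs0def] at h3
      have hs0 : s0 ∈ E i := by
        rw [hs0def]
        exact (φ.symm s').2
      obtain ⟨s, hs⟩ := hHr s0 (hEH i hs0)
      have hee : e * e ∈ E i := (E i).mul_mem he he
      have hee' : e' * e' ∈ E j := (E j).mul_mem he' he'
      have hc0 : s0 * (e' * e') = (e' * e') * s0 := hcomm i j hij s0 hs0 _ hee'
      have hab : (e * e) * (e' * e') = (e' * e') * (e * e) := hcomm i j hij _ hee _ hee'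
      have hz1 : u * (s * u * s⁻¹) ∈ f.ker := by
        rw [MonoidHom.mem_ker, map_mul, map_mul, map_mul, map_inv, hu, hs, h3]
        group
      have hz2 : w⁻¹ * (s * w * s⁻¹) ∈ f.ker := by
        rw [MonoidHom.mem_ker, map_mul, map_inv, map_mul, map_mul, map_inv, hw, hs, hc0]
        group
      have hck : u * w * u⁻¹ * w⁻¹ ∈ f.ker := by
        rw [MonoidHom.mem_ker, map_mul, map_mul, map_mul, map_inv, map_inv, hu, hw, hab]
        group
      have hcc := central_comm_sq u w s (u * (s * u * s⁻¹)) (w⁻¹ * (s * w * s⁻¹))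
        (hker _ hz1) (hker _ hz2) (hker _ hck) (by group) (by group)
      have hc2 := hc1 _ hck hcc
      calc u * w = (u * w * u⁻¹ * w⁻¹) * (w * u) := by group
        _ = w * u := by rw [hc2, one_mul]
  have key := comm_of_gens f gens hker hSr hbase
  have hfx : f x ∈ S := by
    apply hodd (f x) (hfH x)
    exact Odd.of_dvd_nat hxo (orderOf_map_dvd f x)
  have hfy : f y ∈ S := by
    apply hodd (f y) (hfH y)
    exact Odd.of_dvd_nat hyo (orderOf_map_dvd f y)
  rw [hSdef] at hfx hfy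
  exact key (f x) hfx (f y) hfy x y rfl rfl

/-- piece SP-CEXT -/
theorem cext : Cfsg.Agent.H37.Sp.StCext.{u} := by
  intro G₁ Y _ _ _ π ι E hk hodd hN hiso hind hsup x y hx hy
  exact cext_core π E (fun z hz g => ((Subgroup.mem_center_iff.mp (hk hz)) g).symm)
    hodd hN hiso hind hsup x y hx hy

example : Cfsg.Agent.H37.Sp.StCext.{u} := cext

end Cfsg.Agent.H8.Sp
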