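import Mathlib
import Cfsg.Agent.H8.SzSubg5
import Cfsg.Agent.H8.SzLie2
import Cfsg.Prelude.Def_KGroupFacts

set_option autoImplicit false

namespace Cfsg.Agent.H8

open Cfsg Matrix MulAction Module

universe u v

/-- transport of the outer automorphism group along an isomorphism -/
noncomputable def szOutCongr {G : Type u} {H : Type v} [Group G] [Group H] (e : G ≃* H) :
    Cfsg.Out G ≃* Cfsg.Out H :=
  QuotientGroup.congr (Cfsg.Inn G) (Cfsg.Inn H) (MulAut.congr e) (by
    ext ψ
    constructor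
    · rintro ⟨φ, ⟨g, rfl⟩, rfl⟩
      refine ⟨e g, ?_⟩
      ext x
      simp [MulAut.congr]
    · rintro ⟨h, rfl⟩
      refine ⟨MulAut.conj (e.symm h), ⟨e.symm h, rfl⟩, ?_⟩
      ext x
      simp [MulAut.congr])

section

variable {F : Type*} [Field F] [Fintype F] {m : ℕ}

/-- the number of automorphisms of the field of order `2^(2m+1)` -/
theorem sz_card_ringAut (hF : Fintype.card F = 2 ^ (2 * m + 1)) :
    Nat.card (RingAut F) = 2 * m + 1 := by
  haveI := sz_charP hF
  haveI : Fact (Nat.Prime 2) := ⟨Nat.prime_two⟩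
  letI : Algebra (ZMod 2) F := ZMod.algebra F 2
  have h2 : Module.finrank (ZMod 2) F = 2 * m + 1 := by
    have := FiniteField.pow_finrank_eq_card 2 F
    rw [hF] at this
    exact Nat.pow_right_injective (le_refl 2) this
  rw [← h2, ← IsGalois.card_aut_eq_finrank (ZMod 2) F]
  have hcomm : ∀ (σ : F ≃+* F) (x : ZMod 2),
      σ (algebraMap (ZMod 2) F x) = algebraMap (ZMod 2) F x := by
    intro σ x
    exact RingHom.congr_fun (Subsingleton.elim
      ((σ : F →+* F).comp (algebraMap (ZMod 2) F)) (algebraMap (ZMod 2) F)) x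
  refine Nat.card_congr
    { toFun := fun σ => AlgEquiv.ofRingEquiv (f := σ) (hcomm σ)
      invFun := fun τ => τ.toRingEquiv
      left_inv := fun σ => by ext x; rfl
      right_inv := fun τ => by ext x; rfl }

/-- the endomorphism of the Suzuki group induced by a field automorphism -/
noncomputable def szFrobHom (hm : 1 ≤ m) (hF : Fintype.card F = 2 ^ (2 * m + 1))
    (σ : F ≃+* F) : Sz F m →* Sz F m :=
  szEmb hm hF hF (dvd_refl _) (σ : F →+* F)

theorem szFrobHom_apply (hm : 1 ≤ m) (hF : Fintype.card F = 2 ^ (2 * m + 1))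
    (σ : F ≃+* F) (g : Sz F m) (i j : Fin 4) :
    ((szFrobHom hm hF σ g : Sz F m) : Matrix.SpecialLinearGroup (Fin 4) F).1 i j =
      σ ((g : Matrix.SpecialLinearGroup (Fin 4) F).1 i j) := rfl

/-- the automorphism of the Suzuki group induced by a field automorphism -/
noncomputable def szFrob (hm : 1 ≤ m) (hF : Fintype.card F = 2 ^ (2 * m + 1)) :
    RingAut F →* MulAut (Sz F m) where
  toFun σ :=
    { toFun := szFrobHom hm hF σ
      invFun := szFrobHom hm hF σ.symm
      left_inv := fun g => by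
        apply Subtype.ext; apply Subtype.ext; ext i j
        rw [szFrobHom_apply, szFrobHom_apply]
        exact σ.symm_apply_apply _
      right_inv := fun g => by
        apply Subtype.ext; apply Subtype.ext; ext i j
        rw [szFrobHom_apply, szFrobHom_apply]
        exact σ.apply_symm_apply _
      map_mul' := map_mul _ }
  map_one' := by
    apply MulEquiv.ext
    intro g
    apply Subtype.ext; apply Subtype.ext; ext i j
    rfl
  map_mul' σ τ := by
    apply MulEquiv.ext
    intro g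
    apply Subtype.ext; apply Subtype.ext; ext i j
    rfl

theorem szFrob_apply (hm : 1 ≤ m) (hF : Fintype.card F = 2 ^ (2 * m + 1)) (σ : RingAut F)
    (g : Sz F m) : szFrob hm hF σ g = szFrobHom hm hF σ g := rfl

theorem szFrob_szUM (hm : 1 ≤ m) (hF : Fintype.card F = 2 ^ (2 * m + 1)) (σ : RingAut F)
    (a b : F) : szFrob hm hF σ (szUM hF a b : Sz F m) = (szUM hF (σ a) (σ b) : Sz F m) :=
  szEmb_szUM hm hF hF (dvd_refl _) (σ : F →+* F) a b

theorem szFrob_szHG (hm : 1 ≤ m) (hF : Fintype.card F = 2 ^ (2 * m + 1)) (σ : RingAut F)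
    (c : Fˣ) : szFrob hm hF σ (szHG hF c) =
      szHG hF (Units.map ((σ : F →+* F) : F →* F) c) :=
  szEmb_szHG hm hF hF (dvd_refl _) (σ : F →+* F) c

theorem szFrob_szWG (hm : 1 ≤ m) (hF : Fintype.card F = 2 ^ (2 * m + 1)) (σ : RingAut F) :
    szFrob hm hF σ (szWG hF) = szWG hF :=
  szEmb_szWG hm hF hF (dvd_refl _) (σ : F →+* F)

/-- a field automorphism inducing an inner automorphism is trivial -/
theorem szFrob_inner (hm : 1 ≤ m) (hF : Fintype.card F = 2 ^ (2 * m + 1)) (σ : RingAut F)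
    (g : Sz F m) (h : szFrob hm hF σ = MulAut.conj g) : σ = 1 := by
  have hchar := sz_charP hF
  have hconj : ∀ x : Sz F m, szFrob hm hF σ x = g * x * g⁻¹ := by
    intro x; rw [h]; rfl
  have hu₀ : (szUM hF (0 : F) 1 : Sz F m) ≠ 1 := by
    intro h
    have h' : szUM hF (0 : F) 1 = szUM hF 0 0 := by
      rw [szUM_zero]; exact Subtype.ext h
    exact one_ne_zero (szUM_inj hF h').2
  have h1 : g * (szUM hF (0 : F) 1 : Sz F m) * g⁻¹ ∈ szU (m := m) hF := by
    rw [← hconj, szFrob_szUM]; exact (szUM hF _ _).2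
  have hne : g * (szUM hF (0 : F) 1 : Sz F m) * g⁻¹ ≠ 1 := by
    intro h
    apply hu₀
    calc (szUM hF (0 : F) 1 : Sz F m)
        = g⁻¹ * (g * (szUM hF (0 : F) 1 : Sz F m) * g⁻¹) * g := by group
      _ = 1 := by rw [h]; group
  have hfix : (g * (szUM hF (0 : F) 1 : Sz F m) * g⁻¹) • (g • szP F m none) =
      g • szP F m none := by
    rw [← mul_smul, inv_mul_cancel_right, mul_smul]
    congr 1
    rw [sz_smul_szP]; exact szU_fix_inf hF (szUM hF _ _).2
  have hginf : g • szP F m none = szP F m none := szU_fix_unique hF h1 hne hfix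
  obtain ⟨κ₁, hκ₁⟩ := sz_exists_unit_ne_one hm hF
  have hd : Units.map ((σ : F →+* F) : F →* F) κ₁ ≠ 1 := by
    intro h1
    apply hκ₁
    have h2 : σ (κ₁ : F) = 1 := congrArg Units.val h1
    apply Units.ext
    apply σ.injective
    rw [h2, Units.val_one, map_one]
  have h2 : szHG hF (Units.map ((σ : F →+* F) : F →* F) κ₁) • (g • szP F m (some (0, 0))) =
      g • szP F m (some (0, 0)) := by
    rw [← szFrob_szHG hm hF σ κ₁, hconj, ← mul_smul, inv_mul_cancel_right, mul_smul,
      szHG_smul_zero]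
  rcases szHG_fix hF hd h2 with h3 | h3
  · exfalso
    have := MulAction.injective g (h3.trans hginf.symm)
    exact szP_inf_ne_zero this.symm
  · obtain ⟨μ, hμ⟩ := sz_mem_torus_of_fix hm hF hginf h3
    subst hμ
    have h4 := hconj (szUM hF 1 0 : Sz F m)
    rw [szFrob_szUM, szHG_szUM] at h4
    have h5 := (szUM_inj hF (Subtype.ext h4)).1
    rw [map_one, mul_one] at h5
    apply RingEquiv.ext
    intro a
    have h6 := hconj (szUM hF a 0 : Sz F m)
    rw [szFrob_szUM, szHG_szUM] at h6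
    have h7 := (szUM_inj hF (Subtype.ext h6)).1
    rw [← h5, one_mul] at h7
    exact h7

/-- a normalised injective endomorphism is induced by a field automorphism on the Borel
subgroup -/
theorem sz_aut_coords (hm : 1 ≤ m) (hF : Fintype.card F = 2 ^ (2 * m + 1))
    (f : Sz F m →* Sz F m) (hf : Function.Injective f)
    (hU : ∀ u ∈ szU (m := m) hF, f u ∈ szU (m := m) hF)
    (hH : ∀ c : Fˣ, ∃ d : Fˣ, f (szHG hF c) = szHG hF d) :
    ∃ (μ : Fˣ) (σ : RingAut F),
      (∀ a b : F, cjHom (szHG hF μ) f (szUM hF a b : Sz F m) =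
        (szUM hF (σ a) (σ b) : Sz F m)) ∧
      ∀ c : Fˣ, cjHom (szHG hF μ) f (szHG hF c) =
        szHG hF (Units.map ((σ : F →+* F) : F →* F) c) := by
  have hcF := sz_charP hF
  choose γ hγeq using hH
  have hex : ∀ a b : F, ∃ x y : F, f (szUM hF a b : Sz F m) = (szUM hF x y : Sz F m) := by
    intro a b
    obtain ⟨x, y, h⟩ := hU _ (szUM hF a b).2
    exact ⟨x, y, Subtype.ext h⟩
  choose α β hαβ using hex
  have hinj : ∀ a b a' b', α a b = α a' b' → β a b = β a' b' → a = a' ∧ b = b' := by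
    intro a b a' b' h1 h2
    have h3 : f (szUM hF a b : Sz F m) = f (szUM hF a' b' : Sz F m) := by
      rw [hαβ, hαβ, h1, h2]
    exact szUM_inj hF (Subtype.ext (hf h3))
  have hmul : ∀ a b a' b', α (a + a') (b + b' + szT m a * a') = α a b + α a' b' ∧
      β (a + a') (b + b' + szT m a * a') = β a b + β a' b' + szT m (α a b) * α a' b' := by
    intro a b a' b'
    have h := hαβ (a + a') (b + b' + szT m a * a')
    rw [← szUM_mul, Subgroup.coe_mul, map_mul, hαβ, hαβ, ← Subgroup.coe_mul, szUM_mul] at h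
    have h2 := szUM_inj hF (Subtype.ext h)
    exact ⟨h2.1.symm, h2.2.symm⟩
  have htor : ∀ (c : Fˣ) a b, α (c * a) (c * szT m (c : F) * b) = γ c * α a b ∧
      β (c * a) (c * szT m (c : F) * b) = γ c * szT m (γ c : F) * β a b := by
    intro c a b
    have e1 : szHG hF c * (szUM hF a b : Sz F m) =
        (szUM hF (c * a) (c * szT m (c : F) * b) : Sz F m) * szHG hF c :=
      Subtype.ext (szH_szM hF c a b)
    have e2 := congrArg f e1
    rw [map_mul, map_mul, hαβ, hαβ, hγeq] at e2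
    have e3 : szHG hF (γ c) * (szUM hF (α a b) (β a b) : Sz F m) =
        (szUM hF (γ c * α a b) (γ c * szT m (γ c : F) * β a b) : Sz F m) * szHG hF (γ c) :=
      Subtype.ext (szH_szM hF (γ c) _ _)
    rw [e3] at e2
    have e4 := szUM_inj hF (Subtype.ext (mul_right_cancel e2))
    exact ⟨e4.1.symm, e4.2.symm⟩
  obtain ⟨a00, b00, a0b, hα, hadd, hβ, hker⟩ := sz_sub_alg0 hF hF α β hinj
    (fun a b a' b' => (hmul a b a' b').1) (fun a b a' b' => (hmul a b a' b').2)
  set a₁ := α 1 0 with ha₁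
  have h0 : a₁ ≠ 0 := fun h => one_ne_zero (hker 1 h)
  have hT0 : szT m a₁ ≠ 0 := fun h => h0 (szT_eq_zero.1 h)
  set φ : F → F := fun a => α a 0 / a₁ with hφ
  have φ1 : φ 1 = 1 := div_self h0
  have φ0 : φ 0 = 0 := by simp [hφ, a00]
  have φadd : ∀ a a', φ (a + a') = φ a + φ a' := by
    intro a a'
    simp only [hφ]
    rw [hadd, add_div]
  have φtor : ∀ (c : Fˣ) a, φ (c * a) = γ c * φ a := by
    intro c a
    have := (htor c a 0).1
    rw [mul_zero] at this
    simp only [hφ]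
    rw [this, mul_div_assoc]
  have φγ : ∀ c : Fˣ, φ c = γ c := by
    intro c
    have := φtor c 1
    rwa [mul_one, φ1, mul_one] at this
  have φmul : ∀ x y, φ (x * y) = φ x * φ y := by
    intro x y
    by_cases hx : x = 0
    · subst hx; rw [zero_mul, φ0, zero_mul]
    · have := φtor (Units.mk0 x hx) y
      rw [Units.val_mk0] at this
      rw [this, ← φγ, Units.val_mk0]
  let φr : F →+* F :=
    { toFun := φ, map_one' := φ1, map_mul' := φmul, map_zero' := φ0, map_add' := φadd }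
  have φbij : Function.Bijective φr := by
    have hinj' : Function.Injective φr := φr.injective
    exact ⟨hinj', Finite.injective_iff_surjective.1 hinj'⟩
  let σ : RingAut F := RingEquiv.ofBijective φr φbij
  have hσ : ∀ a, σ a = φ a := fun a => rfl
  have φT : ∀ a, szT m (φ a) = φ (szT m a) := by
    intro a
    show szT m (φr a) = φr (szT m a)
    rw [szT, szT, map_pow]
  have φne : ∀ a, a ≠ 0 → φ a ≠ 0 := by
    intro a ha h
    apply ha
    apply φr.injective
    rw [map_zero]; exact h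
  have hsq : ∀ a, β 0 (szT m a * a) / (a₁ * szT m a₁) = φ (szT m a * a) := by
    intro a
    have h := (hmul a 0 a 0).2
    rw [CharTwo.add_self_eq_zero, CharTwo.add_self_eq_zero, zero_add,
      CharTwo.add_self_eq_zero, zero_add] at h
    rw [h, φmul, ← φT]
    simp only [hφ]
    rw [szT_div]
    field_simp
  have hψ : ∀ b, β 0 b / (a₁ * szT m a₁) = φ b := by
    intro b
    obtain ⟨d, hd⟩ := sz_norm_surj hF b
    rw [← hd, mul_comm d]
    exact hsq d
  set C : F → F := fun a => β a 0 / (a₁ * szT m a₁) with hC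
  have C0 : C 0 = 0 := by simp [hC, b00]
  have Cadd : ∀ a a', C (a + a') = C a + C a' := by
    intro a a'
    have h := (hmul a 0 a' 0).2
    rw [add_zero, zero_add, hβ (a + a') (szT m a * a')] at h
    have h2 := congrArg (fun t => t / (a₁ * szT m a₁)) h
    simp only [add_div] at h2
    rw [hψ, φmul, ← φT] at h2
    have e : szT m (α a 0) * α a' 0 / (a₁ * szT m a₁) = szT m (φ a) * φ a' := by
      simp only [hφ]
      rw [szT_div]
      field_simp
    rw [e] at h2
    exact add_right_cancel h2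
  have Ctor : ∀ (c : Fˣ) a, C (c * a) = φ c * szT m (φ c) * C a := by
    intro c a
    have := (htor c a 0).2
    rw [mul_zero] at this
    simp only [hC]
    rw [this, mul_div_assoc, φγ]
  obtain ⟨c₀, hc₀0, hc₀1⟩ := sz_exists_ne_zero_one hm hF
  have C1 : C 1 = 0 := by
    have hc₁ : c₀ + 1 ≠ 0 := by
      intro h; exact hc₀1 (CharTwo.add_eq_zero.1 h)
    have e1 := Ctor (Units.mk0 c₀ hc₀0) 1
    have e2 := Ctor (Units.mk0 (c₀ + 1) hc₁) 1
    rw [Units.val_mk0, mul_one] at e1 e2
    have e3 := Cadd c₀ 1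
    rw [e1, e2, φadd, φ1, szT_add hF, szT_one] at e3
    have e4 : (φ c₀ + szT m (φ c₀)) * C 1 = 0 := by
      generalize szT m (φ c₀) = T at e3 ⊢
      generalize φ c₀ = P at e3 ⊢
      generalize C 1 = X at e3 ⊢
      grind
    rcases mul_eq_zero.1 e4 with h | h
    · exfalso
      have h' : szT m (φ c₀) = φ c₀ := (CharTwo.add_eq_zero.1 h).symm
      rcases szT_fixed hF h' with h | h
      · exact φne c₀ hc₀0 h
      · apply hc₀1
        apply φr.injective
        show φ c₀ = φr 1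
        rw [h, map_one]
    · exact h
  have Czero : ∀ a, C a = 0 := by
    intro a
    by_cases ha : a = 0
    · rw [ha, C0]
    · have := Ctor (Units.mk0 a ha) 1
      rw [Units.val_mk0, mul_one, C1, mul_zero] at this
      exact this
  refine ⟨(Units.mk0 a₁ h0)⁻¹, σ, ?_, ?_⟩
  · intro a b
    rw [cjHom_apply, hαβ, szHG_szUM]
    have e5 : (((Units.mk0 a₁ h0)⁻¹ : Fˣ) : F) = a₁⁻¹ := by
      rw [Units.val_inv_eq_inv_val, Units.val_mk0]
    have e6 : (((Units.mk0 a₁ h0)⁻¹ : Fˣ) : F) * α a b = σ a := by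
      rw [e5, hσ, hα a b]
      simp only [hφ]
      field_simp
    have e7 : (((Units.mk0 a₁ h0)⁻¹ : Fˣ) : F) *
        szT m (((Units.mk0 a₁ h0)⁻¹ : Fˣ) : F) * β a b = σ b := by
      rw [e5, szT_inv, hσ, ← hψ b, hβ a b]
      have := Czero a
      simp only [hC] at this
      have hβa : β a 0 = 0 := by
        rcases div_eq_zero_iff.1 this with h | h
        · exact h
        · exact absurd h (mul_ne_zero h0 hT0)
      rw [hβa, zero_add]
      field_simp
    rw [e6, e7]
  · intro c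
    rw [cjHom_apply, hγeq, ← map_mul, ← map_inv, ← map_mul, mul_comm _ (γ c),
      mul_inv_cancel_right]
    congr 1
    ext
    rw [← φγ]; rfl

/-- a normalised injective endomorphism fixes the Weyl element -/
theorem sz_aut_weyl (hm : 1 ≤ m) (hF : Fintype.card F = 2 ^ (2 * m + 1))
    (f : Sz F m →* Sz F m) (hf : Function.Injective f) (σ : RingAut F)
    (hU : ∀ a b : F, f (szUM hF a b : Sz F m) = (szUM hF (σ a) (σ b) : Sz F m))
    (hH : ∀ c : Fˣ, f (szHG hF c) = szHG hF (Units.map ((σ : F →+* F) : F →* F) c)) :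
    f (szWG hF) = szWG hF := by
  have hcF := sz_charP hF
  obtain ⟨c₀, hc₀0, hc₀1⟩ := sz_exists_ne_zero_one hm hF
  set d₁ : Fˣ := Units.map ((σ : F →+* F) : F →* F) (Units.mk0 c₀ hc₀0) with hd₁def
  have hd₁ : f (szHG hF (Units.mk0 c₀ hc₀0)) = szHG hF d₁ := hH _
  have hd₁ne : d₁ ≠ 1 := by
    intro h
    rw [h, map_one] at hd₁
    have h1 : szHG hF (Units.mk0 c₀ hc₀0) = 1 := hf (by rw [hd₁, map_one])
    have h2 : Units.mk0 c₀ hc₀0 = 1 := szHG_injective hF (by rw [h1, map_one])
    exact hc₀1 (by simpa using congrArg Units.val h2)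
  set n : Sz F m := f (szWG hF) with hn
  have hrel : n * szHG hF d₁ = (szHG hF d₁)⁻¹ * n := by
    have e1 : szWG hF * szHG hF (Units.mk0 c₀ hc₀0) =
        szHG hF (Units.mk0 c₀ hc₀0)⁻¹ * szWG hF := szWG_szHG hF _
    have e2 := congrArg f e1
    rw [map_mul, map_mul, map_inv, map_inv, hd₁] at e2
    exact e2
  have hfixgen : ∀ y : suzukiOvoid F m, szHG hF d₁ • y = y →
      szHG hF d₁ • (n • y) = n • y := by
    intro y hy
    have h1 : (szHG hF d₁)⁻¹ • (n • y) = n • y := by
      rw [← mul_smul, ← hrel, mul_smul, hy]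
    rw [inv_smul_eq_iff] at h1
    exact h1.symm
  have hinfF : szHG hF d₁ • szP F m none = szP F m none := szHG_smul_inf hF d₁
  have hzeroF : szHG hF d₁ • szP F m (some (0, 0)) = szP F m (some (0, 0)) :=
    szHG_smul_zero hF d₁
  have hne : n • szP F m none ≠ n • szP F m (some (0, 0)) := by
    intro h
    exact szP_inf_ne_zero (MulAction.injective n h)
  have hnW : ∃ μ : Fˣ, n = szWG hF * szHG hF μ := by
    rcases szHG_fix hF hd₁ne (hfixgen _ hinfF) with h3 | h3
    · rcases szHG_fix hF hd₁ne (hfixgen _ hzeroF) with h4 | h4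
      · exact absurd (h3.trans h4.symm) hne
      · exfalso
        obtain ⟨μ, hμ⟩ := sz_mem_torus_of_fix hm hF h3 h4
        rw [← hμ, ← map_inv, ← map_mul, ← map_mul] at hrel
        have h5 := szHG_injective hF hrel
        have h6 : d₁ * d₁ = 1 := by
          calc d₁ * d₁ = μ⁻¹ * (μ * d₁) * d₁ := by group
            _ = μ⁻¹ * (d₁⁻¹ * μ) * d₁ := by rw [h5]
            _ = 1 := by rw [mul_comm d₁⁻¹ μ]; group
        have h7 : ((d₁ : F) + 1) * ((d₁ : F) + 1) = 0 := by
          have h9 : (d₁ : F) * d₁ = 1 := by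
            have := congrArg Units.val h6
            simpa using this
          grind
        have h10 : (d₁ : F) + 1 = 0 := by
          rcases mul_eq_zero.1 h7 with h | h <;> exact h
        exact hd₁ne (Units.ext (CharTwo.add_eq_zero.1 h10))
    · rcases szHG_fix hF hd₁ne (hfixgen _ hzeroF) with h4 | h4
      · obtain ⟨μ, hμ⟩ := sz_mem_torus_of_swap hm hF h3 h4
        exact ⟨μ, by rw [hμ, ← mul_assoc, szWG_mul_self, one_mul]⟩
      · exact absurd (h3.trans h4.symm) hne
  obtain ⟨μ, hμ⟩ := hnW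
  have hf01 : szf F m 0 1 = 1 := by rw [szf_eq]; simp [szT_one]
  have hy1 : (szW F * szM m 0 1 * szW F) • szPt F m none = szPt F m (some (1, 0)) := by
    rw [mul_smul, mul_smul, szW_smul_none, szM_smul_zero hF, szW_smul_some hF (by
      rw [hf01]; exact one_ne_zero), hf01]
    simp
  have hy2 : (szM m 1 0 * szW F) • szPt F m none = szPt F m (some (1, 0)) := by
    rw [mul_smul, szW_smul_none, szM_smul_zero hF]
  have hz : ((szM m 1 0 * szW F)⁻¹ * (szW F * szM m 0 1 * szW F)) • szPt F m none =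
      szPt F m none := by
    rw [mul_smul, hy1, inv_smul_eq_iff, hy2]
  have hzmem : (szM m 1 0 * szW F)⁻¹ * (szW F * szM m 0 1 * szW F) ∈ Sz F m :=
    Subgroup.mul_mem _ (Subgroup.inv_mem _ (Subgroup.mul_mem _ (szM_mem hF _ _) (szW_mem hF)))
      (Subgroup.mul_mem _ (Subgroup.mul_mem _ (szW_mem hF) (szM_mem hF _ _)) (szW_mem hF))
  obtain ⟨a, b, c, habc⟩ := sz_stab_inf hm hF hzmem hz
  have hrelK : szWG hF * (szUM hF (0 : F) 1 : Sz F m) * szWG hF =
      (szUM hF (1 : F) 0 : Sz F m) * szWG hF * ((szUM hF a b : Sz F m) * szHG hF c) := by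
    apply Subtype.ext
    show szW F * szM m 0 1 * szW F = szM m 1 0 * szW F * (szM m a b * szH m c)
    rw [← habc, mul_inv_cancel_left]
  have hrelF := congrArg f hrelK
  rw [map_mul, map_mul, map_mul, map_mul, map_mul, hU, hU, hU, hH, ← hn, hμ, map_zero,
    map_one] at hrelF
  have hμ0 : (μ : F) ≠ 0 := μ.ne_zero
  have hTμ0 : szT m (μ : F) ≠ 0 := fun h => hμ0 (szT_eq_zero.1 h)
  have hL : (szWG hF * szHG hF μ * (szUM hF (0 : F) 1 : Sz F m) *
      (szWG hF * szHG hF μ)).1 • szPt F m none =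
      szPt F m (some (μ * szT m (μ : F) * 1 / szT m (μ * szT m (μ : F) * 1), 0)) := by
    show (szW F * szH m μ * szM m 0 1 * (szW F * szH m μ)) • szPt F m none = _
    have hY : μ * szT m (μ : F) * 1 ≠ 0 :=
      mul_ne_zero (mul_ne_zero hμ0 hTμ0) one_ne_zero
    have hfY : szf F m (μ * 0) (μ * szT m (μ : F) * 1) = szT m (μ * szT m (μ : F) * 1) := by
      rw [szf_eq]; simp [szT_zero]
    rw [mul_smul, mul_smul, mul_smul, mul_smul, szH_smul_none, szW_smul_none,
      szM_smul_zero hF, szH_smul_some hF, szW_smul_some hF (by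
        rw [hfY]; exact fun h => hY (szT_eq_zero.1 h)), hfY]
    simp
  have hR : ((szUM hF (1 : F) 0 : Sz F m) * (szWG hF * szHG hF μ) *
      ((szUM hF (σ a) (σ b) : Sz F m) *
        szHG hF (Units.map ((σ : F →+* F) : F →* F) c))).1 • szPt F m none =
      szPt F m (some (1, 0)) := by
    show (szM m 1 0 * (szW F * szH m μ) * (szM m (σ a) (σ b) * szH m _)) • szPt F m none = _
    rw [mul_smul, mul_smul, mul_smul, mul_smul, szH_smul_none, szM_smul_none, szH_smul_none,
      szW_smul_none, szM_smul_zero hF]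
  rw [hrelF, hR] at hL
  have h5 := szPt_injective F m hL
  simp only [Option.some.injEq, Prod.mk.injEq] at h5
  have h6 := h5.1.symm
  rw [mul_one, szT_mul, szT_szT hF] at h6
  have hμ1 : (μ : F) = 1 := by
    field_simp at h6
    exact h6.symm
  have hμ' : μ = 1 := Units.ext hμ1
  rw [hμ, hμ', map_one, mul_one]

/-- every automorphism of the Suzuki group is the product of an inner and a field
automorphism -/
theorem sz_aut_eq (hm : 1 ≤ m) (hF : Fintype.card F = 2 ^ (2 * m + 1))
    (α : MulAut (Sz F m)) :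
    ∃ (g : Sz F m) (σ : RingAut F), α = MulAut.conj g * szFrob hm hF σ := by
  set f : Sz F m →* Sz F m := α.toMonoidHom with hf
  have hfinj : Function.Injective f := α.injective
  obtain ⟨g₁, h₁⟩ := sz_sub_A hm hF hF f hfinj
  obtain ⟨κ₀, hκ₀⟩ := IsCyclic.exists_generator (α := Fˣ)
  have hord : orderOf κ₀ = 2 ^ (2 * m + 1) - 1 := by
    rw [orderOf_eq_card_of_forall_mem_zpowers hκ₀, Nat.card_units, Nat.card_eq_fintype_card, hF]
  have hgen : ∀ c : Fˣ, ∃ j : ℕ, κ₀ ^ j = c := fun c =>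
    (Submonoid.mem_powers_iff _ _).1 (mem_powers_iff_mem_zpowers.2 (hκ₀ c))
  have hf₁ := cjHom_injective g₁ f hfinj
  obtain ⟨g₂, hg₂, κ, hκ⟩ := sz_sub_B hm hm hF hF (cjHom g₁ f) hf₁ h₁ κ₀ hord
  have hf₂ := cjHom_injective g₂ _ hf₁
  have hU₂ : ∀ u ∈ szU (m := m) hF, cjHom g₂ (cjHom g₁ f) u ∈ szU (m := m) hF :=
    fun u hu => Subgroup.mul_mem _ (Subgroup.mul_mem _ hg₂ (h₁ u hu)) (Subgroup.inv_mem _ hg₂)
  have hH₂ : ∀ c : Fˣ, ∃ d : Fˣ, cjHom g₂ (cjHom g₁ f) (szHG hF c) = szHG hF d := by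
    intro c
    obtain ⟨j, rfl⟩ := hgen c
    exact ⟨κ ^ j, by rw [map_pow, map_pow, hκ, map_pow]⟩
  obtain ⟨μ, σ, hU₃, hH₃⟩ := sz_aut_coords hm hF _ hf₂ hU₂ hH₂
  have hf₃ := cjHom_injective (szHG hF μ) _ hf₂
  have hW₃ := sz_aut_weyl hm hF _ hf₃ σ hU₃ hH₃
  have hall : ∀ x : Sz F m, cjHom (szHG hF μ) (cjHom g₂ (cjHom g₁ f)) x =
      szFrob hm hF σ x := by
    intro x
    rcases sz_decomp hm hF x.2 with ⟨a, b, c, h⟩ | ⟨a, b, a', b', c, h⟩
    · have hx : x = (szUM hF a b : Sz F m) * szHG hF c := Subtype.ext h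
      rw [hx]
      simp only [map_mul]
      rw [hU₃, hH₃, szFrob_szUM, szFrob_szHG]
    · have hx : x = (szUM hF a b : Sz F m) * szWG hF *
          ((szUM hF a' b' : Sz F m) * szHG hF c) := Subtype.ext h
      rw [hx]
      simp only [map_mul]
      rw [hU₃, hU₃, hH₃, hW₃, szFrob_szUM, szFrob_szUM, szFrob_szHG, szFrob_szWG]
  refine ⟨(szHG hF μ * (g₂ * g₁))⁻¹, σ, ?_⟩
  apply MulEquiv.ext
  intro x
  have h := hall x
  rw [cjHom_cjHom, cjHom_cjHom, cjHom_apply] at h
  rw [MulAut.mul_apply, MulAut.conj_apply, ← h, inv_inv]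
  have hfx : f x = α x := rfl
  rw [hfx]
  group

/-- the outer automorphism group of the Suzuki group -/
theorem sz_card_out (hm : 1 ≤ m) (hF : Fintype.card F = 2 ^ (2 * m + 1)) :
    Nat.card (Cfsg.Out (Sz F m)) = 2 * m + 1 := by
  rw [← sz_card_ringAut hF]
  symm
  let Ψ : RingAut F →* Cfsg.Out (Sz F m) :=
    (QuotientGroup.mk' (Cfsg.Inn (Sz F m))).comp (szFrob hm hF)
  apply Nat.card_eq_of_bijective Ψ
  constructor
  · rw [← MonoidHom.ker_eq_bot_iff, eq_bot_iff]
    intro σ hσ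
    rw [MonoidHom.mem_ker] at hσ
    have h1 : szFrob hm hF σ ∈ Cfsg.Inn (Sz F m) := (QuotientGroup.eq_one_iff _).1 hσ
    obtain ⟨g, hg⟩ := h1
    rw [Subgroup.mem_bot]
    exact szFrob_inner hm hF σ g hg.symm
  · intro y
    obtain ⟨α, rfl⟩ := QuotientGroup.mk_surjective y
    obtain ⟨g, σ, hα⟩ := sz_aut_eq hm hF α
    refine ⟨σ, ?_⟩
    show (QuotientGroup.mk (szFrob hm hF σ) : Cfsg.Out (Sz F m)) = QuotientGroup.mk α
    have hinn : (QuotientGroup.mk (MulAut.conj g) : Cfsg.Out (Sz F m)) = 1 :=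
      (QuotientGroup.eq_one_iff (N := Cfsg.Inn (Sz F m)) (MulAut.conj g)).2
        (show MulAut.conj g ∈ Cfsg.Inn (Sz F m) from ⟨g, rfl⟩)
    rw [hα, QuotientGroup.mk_mul, hinn, one_mul]

theorem lieSz_card_out (hm : 1 ≤ m) (hF : Fintype.card F = 2 ^ (2 * m + 1)) :
    Nat.card (Cfsg.Out (Lie.Sz F (2 ^ (m + 1)))) = 2 * m + 1 := by
  rw [← sz_card_out hm hF]
  exact Nat.card_congr (szOutCongr (lieSzEquiv hm hF).symm).toEquiv

end

end Cfsg.Agent.H8
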