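import Mathlib
import Cfsg.Agent.H8.SzFix1

set_option autoImplicit false

namespace Cfsg.Agent.H8

open Cfsg Matrix MulAction Module

section

variable {F : Type*} [Field F] [Fintype F] {m : ℕ}

/-- a non-identity torus element fixes no non-zero vector -/
theorem szH_fixed_vec (hF : Fintype.card F = 2 ^ (2 * m + 1)) {κ : Fˣ} (hκ : κ ≠ 1)
    {w : Fin 4 → F} (hw : szHmat m κ *ᵥ w = w) : w = 0 := by
  have hchar := sz_charP hF
  have h2 : (2 : F) = 0 := CharTwo.two_eq_zero
  have hb : (κ : F) ^ (2 ^ m) ≠ 1 := by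
    intro h
    have h1 : szT m (κ : F) = szT m 1 := by rw [← sz_tau_sq, h, szT_one]; norm_num
    exact hκ (Units.ext (szT_injective hF h1))
  have ha : (κ : F) ^ (2 ^ m) * κ ≠ 1 := by
    intro h
    have h1 : szT m (κ : F) * (κ : F) ^ 2 = 1 := by
      rw [← sz_tau_sq, ← mul_pow, h, one_pow]
    have h3 : ((κ : F) * szT m (κ : F)) ^ 2 = 1 := by
      have := congrArg (szT m) h1
      rw [szT_mul, szT_szT hF, szT_pow, szT_one] at this
      rw [mul_pow]; exact this
    have h4 : ((κ : F) * szT m (κ : F) - 1) ^ 2 = 0 := by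
      linear_combination h3 + (1 - (κ : F) * szT m (κ : F)) * h2
    have h5 : (κ : F) * szT m (κ : F) = 1 := by
      have := pow_eq_zero_iff (two_ne_zero) |>.1 h4
      linear_combination this
    exact hκ (Units.ext (sz_norm_eq_one hF h5))
  have key : ∀ d x : F, d ≠ 1 → d * x = x → x = 0 := by
    intro d x hd h
    have h1 : (d - 1) * x = 0 := by linear_combination h
    rcases mul_eq_zero.1 h1 with h | h
    · exact absurd (by linear_combination h) hd
    · exact h
  ext i
  have hi := congrFun hw i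
  rw [szHmat, Matrix.mulVec_diagonal] at hi
  fin_cases i
  · exact key _ _ ha hi
  · exact key _ _ hb hi
  · exact key _ _ (fun h => hb (inv_eq_one.1 h)) hi
  · exact key _ _ (fun h => ha (inv_eq_one.1 h)) hi

/-- a fixed-point-free element fixes no non-zero vector -/
theorem szReg_fixed_vec (hm : 1 ≤ m) (hF : Fintype.card F = 2 ^ (2 * m + 1)) {g : Sz F m}
    (hreg : szReg g) {v : Fin 4 → F} (hv : g.1.1 *ᵥ v = v) : v = 0 := by
  classical
  have hg1 := szReg_ne_one hreg
  have hn1 : orderOf g ≠ 1 := fun h => hg1 (orderOf_eq_one_iff.1 h)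
  have hn0 : 0 < orderOf g := orderOf_pos g
  set p := (orderOf g).minFac with hp
  have hpp : p.Prime := Nat.minFac_prime hn1
  have hpd : p ∣ orderOf g := Nat.minFac_dvd _
  have : Fact p.Prime := ⟨hpp⟩
  obtain ⟨c, hc⟩ := hpd
  have hc0 : c ≠ 0 := by
    rintro rfl; rw [mul_zero] at hc; omega
  -- an element of prime order
  have hord : orderOf (g ^ c) = p := by
    rw [orderOf_pow_of_dvd hc0 ⟨p, by rw [hc, mul_comm]⟩, hc, Nat.mul_div_cancel _ (Nat.pos_of_ne_zero hc0)]
  have hgc1 : g ^ c ≠ 1 := by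
    intro h
    rw [h, orderOf_one] at hord
    exact hpp.one_lt.ne hord
  have hregc := szReg_pow hm hF hreg hgc1
  have hpdvd : p ∣ (2 ^ (2 * m + 1)) ^ 2 + 1 := by
    rw [← hord]; exact szReg_order hm hF hregc
  have hvc : (g ^ c).1.1 *ᵥ v = v := by
    have : ∀ j : ℕ, (g ^ j).1.1 *ᵥ v = v := by
      intro j
      induction j with
      | zero => simp
      | succ j ih =>
        rw [pow_succ, Subgroup.coe_mul, Matrix.SpecialLinearGroup.coe_mul, ← Matrix.mulVec_mulVec,
          hv, ih]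
    exact this c
  -- the fixed space
  set W : Submodule F (Fin 4 → F) := LinearMap.ker (Matrix.mulVecLin ((g ^ c).1.1 - 1)) with hW
  have hWmem : ∀ w : Fin 4 → F, w ∈ W ↔ (g ^ c).1.1 *ᵥ w = w := by
    intro w
    rw [hW, LinearMap.mem_ker, Matrix.mulVecLin_apply, Matrix.sub_mulVec, Matrix.one_mulVec,
      sub_eq_zero]
  have hPG : IsPGroup p (Subgroup.zpowers (g ^ c)) :=
    IsPGroup.of_card (n := 1) (by rw [Nat.card_zpowers, hord, pow_one])
  have hmod := hPG.card_modEq_card_fixedPoints (Fin 4 → F)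
  have hfp : (fixedPoints (Subgroup.zpowers (g ^ c)) (Fin 4 → F)) = (W : Set (Fin 4 → F)) := by
    ext w
    rw [mem_fixedPoints, SetLike.mem_coe, hWmem]
    constructor
    · intro h
      exact h ⟨g ^ c, Subgroup.mem_zpowers _⟩
    · rintro h ⟨x, j, rfl⟩
      have h1 : w ∈ fixedBy (Fin 4 → F) (g ^ c) := h
      exact mem_fixedBy_zpow h1 j
  rw [hfp] at hmod
  have hcV : Nat.card (Fin 4 → F) = (2 ^ (2 * m + 1)) ^ 4 := by
    rw [Nat.card_eq_fintype_card, Fintype.card_fun, hF, Fintype.card_fin]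
  have hcW : Nat.card W = (2 ^ (2 * m + 1)) ^ (Module.finrank F W) := by
    rw [Nat.card_eq_fintype_card, Module.card_eq_pow_finrank (K := F), hF]
  have hd4 : Module.finrank F W ≤ 4 := by
    have := Submodule.finrank_le W
    simpa using this
  rw [hcV] at hmod
  have hmod' : (((2 ^ (2 * m + 1)) ^ 4 : ℕ) : ZMod p) = ((Nat.card W : ℕ) : ZMod p) :=
    (ZMod.natCast_eq_natCast_iff _ _ _).2 hmod
  rw [hcW] at hmod'
  push_cast at hmod'
  have hQ : (((2 : ZMod p) ^ (2 * m + 1)) ^ 2 + 1 : ZMod p) = 0 := by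
    have := (ZMod.natCast_eq_zero_iff _ _).2 hpdvd
    push_cast at this
    exact this
  have hp2 : p ≠ 2 := by
    rintro h
    rw [h] at hpdvd
    have h4 : Even ((2 ^ (2 * m + 1)) ^ 2) := by
      rw [← pow_mul]; exact Nat.even_pow.2 ⟨even_two, by omega⟩
    have h5 : Odd ((2 ^ (2 * m + 1)) ^ 2 + 1) := Even.add_one h4
    exact (Nat.not_even_iff_odd.2 h5) (even_iff_two_dvd.2 hpdvd)
  have h2ne : (2 : ZMod p) ≠ 0 := by
    intro h
    have h1 : ((2 : ℕ) : ZMod p) = 0 := by exact_mod_cast h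
    rw [ZMod.natCast_eq_zero_iff] at h1
    exact hp2 ((Nat.prime_dvd_prime_iff_eq hpp Nat.prime_two).1 h1)
  set Q : ZMod p := (2 : ZMod p) ^ (2 * m + 1) with hQdef
  have hQ2 : Q ^ 2 = -1 := by linear_combination hQ
  have hQ0 : Q ≠ 0 := by
    intro h
    rw [h] at hQ2
    have : (1 : ZMod p) = 0 := by linear_combination hQ2
    exact one_ne_zero this
  have hQ4 : Q ^ 4 = 1 := by
    have : Q ^ 4 = (Q ^ 2) ^ 2 := by ring
    rw [this, hQ2]; ring
  rw [hQ4] at hmod'
  -- the dimension of the fixed space is zero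
  have hd0 : Module.finrank F W = 0 := by
    by_contra hne
    have hcases : Module.finrank F W = 1 ∨ Module.finrank F W = 2 ∨ Module.finrank F W = 3 ∨
        Module.finrank F W = 4 := by omega
    rcases hcases with h | h | h | h
    · rw [h, pow_one] at hmod'
      apply h2ne
      rw [← hmod'] at hQ2
      linear_combination hQ2
    · rw [h, hQ2] at hmod'
      apply h2ne
      linear_combination hmod'
    · rw [h] at hmod'
      have h3 : Q ^ 3 = -Q := by
        have : Q ^ 3 = Q ^ 2 * Q := by ring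
        rw [this, hQ2]; ring
      rw [h3] at hmod'
      have hQm : Q = -1 := by linear_combination hmod'
      apply h2ne
      linear_combination hQ2 - (Q - 1) * hQm
    · -- the element is trivial
      have hWtop : W = ⊤ := by
        apply Submodule.eq_top_of_finrank_eq
        rw [h]; simp
      apply hgc1
      apply Subtype.ext
      apply Subtype.ext
      have hall : ∀ w : Fin 4 → F, (g ^ c).1.1 *ᵥ w = w := by
        intro w
        rw [← hWmem, hWtop]; trivial
      show (g ^ c).1.1 = (1 : Matrix (Fin 4) (Fin 4) F)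
      ext i j
      have h9 := congrFun (hall (Pi.single j 1)) i
      rw [Matrix.mulVec_single_one, Matrix.col_apply] at h9
      rw [Matrix.one_apply, h9, Pi.single_apply]
  have hv' : v ∈ W := (hWmem v).2 hvc
  have hWbot : W = ⊥ := Submodule.finrank_eq_zero.1 hd0
  rw [hWbot, Submodule.mem_bot] at hv'
  exact hv'

/-- non-identity elements of odd order fix no non-zero vector of the natural module -/
theorem sz_fixed_vec (hm : 1 ≤ m) (hF : Fintype.card F = 2 ^ (2 * m + 1)) {g : Sz F m}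
    (hg1 : g ≠ 1) (hodd : Odd (orderOf g)) {v : Fin 4 → F} (hv : g.1.1 *ᵥ v = v) : v = 0 := by
  rcases sz_elt_trich hm hF g with h | ⟨-, h4, -⟩ | ⟨-, -, hreg | ⟨k, κ, hκ, hk⟩⟩
  · exact absurd h hg1
  · exact absurd (eq_one_of_two_pow_of_odd (j := 2) h4 dvd_rfl hodd) hg1
  · exact szReg_fixed_vec hm hF hreg hv
  · have h1 : (k⁻¹ * g * k).1.1 *ᵥ (k⁻¹.1.1 *ᵥ v) = k⁻¹.1.1 *ᵥ v := by
      have e : (k⁻¹ * g * k).1.1 = k⁻¹.1.1 * g.1.1 * k.1.1 := rfl
      have e2 : k.1.1 * k⁻¹.1.1 = 1 := by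
        have : (k * k⁻¹).1.1 = k.1.1 * k⁻¹.1.1 := rfl
        rw [← this, mul_inv_cancel]; rfl
      rw [e, Matrix.mulVec_mulVec, mul_assoc, mul_assoc, e2, mul_one, ← Matrix.mulVec_mulVec, hv]
    rw [hk] at h1
    have h2 : k⁻¹.1.1 *ᵥ v = 0 := szH_fixed_vec hF hκ h1
    have e3 : k.1.1 * k⁻¹.1.1 = 1 := by
      have : (k * k⁻¹).1.1 = k.1.1 * k⁻¹.1.1 := rfl
      rw [← this, mul_inv_cancel]; rfl
    have h3 : v = k.1.1 *ᵥ (k⁻¹.1.1 *ᵥ v) := by
      rw [Matrix.mulVec_mulVec, e3, Matrix.one_mulVec]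
    rw [h3, h2, Matrix.mulVec_zero]

end

end Cfsg.Agent.H8
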