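import Mathlib
import Cfsg.Agent.H8.SzPG1
import Cfsg.Agent.H8.SzLie2

set_option autoImplicit false

namespace Cfsg.Agent.H8

open Cfsg Matrix MulAction Module

/-- in a finite cyclic group there are elements of every order dividing the group order -/
theorem exists_orderOf_of_cyclic {C : Type*} [Group C] [Finite C] [IsCyclic C] {d : ℕ}
    (hd : d ∣ Nat.card C) : ∃ x : C, orderOf x = d := by
  obtain ⟨g, hg⟩ := IsCyclic.exists_ofOrder_eq_natCard (α := C)
  obtain ⟨c, hc⟩ := hd
  have hpos : 0 < Nat.card C := Nat.card_pos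
  have hc0 : c ≠ 0 := by rintro rfl; rw [mul_zero] at hc; omega
  refine ⟨g ^ c, ?_⟩
  rw [orderOf_pow_of_dvd hc0 ⟨d, by rw [hg, hc, mul_comm]⟩, hg, hc,
    Nat.mul_div_cancel _ (Nat.pos_of_ne_zero hc0)]

/-- in a semidirect product with a kernel of exponent two the order of an element divides
twice the order of its image -/
theorem sd_orderOf_dvd {N G : Type*} [Group N] [Group G] (φ : G →* MulAut N)
    (hN : ∀ n : N, n * n = 1) (y : N ⋊[φ] G) : orderOf y ∣ 2 * orderOf y.right := by
  have h1 : (y ^ orderOf y.right).right = 1 := by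
    rw [← SemidirectProduct.rightHom_eq_right, map_pow, SemidirectProduct.rightHom_eq_right,
      pow_orderOf_eq_one]
  have h2 : y ^ orderOf y.right = SemidirectProduct.inl (y ^ orderOf y.right).left := by
    ext
    · simp
    · simp [h1]
  apply orderOf_dvd_of_pow_eq_one
  rw [mul_comm, pow_mul, h2, ← map_pow, pow_two, hN, map_one]

/-- in a semidirect product with abelian kernel, an element whose image acts without
non-trivial fixed points has the order of its image -/
theorem sd_orderOf_eq {N G : Type*} [CommGroup N] [Group G] (φ : G →* MulAut N)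
    (y : N ⋊[φ] G) (hfix : ∀ n : N, φ y.right n = n → n = 1) :
    orderOf y = orderOf y.right := by
  apply Nat.dvd_antisymm
  · apply orderOf_dvd_of_pow_eq_one
    have h1 : (y ^ orderOf y.right).right = 1 := by
      rw [← SemidirectProduct.rightHom_eq_right, map_pow, SemidirectProduct.rightHom_eq_right,
        pow_orderOf_eq_one]
    have hcomm : y * y ^ orderOf y.right = y ^ orderOf y.right * y := by
      rw [← pow_succ', ← pow_succ]
    have h3 := congrArg SemidirectProduct.left hcomm
    rw [SemidirectProduct.mul_left, SemidirectProduct.mul_left, h1, map_one, MulAut.one_apply,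
      mul_comm] at h3
    have h4 : φ y.right (y ^ orderOf y.right).left = (y ^ orderOf y.right).left :=
      mul_right_cancel h3
    ext
    · exact hfix _ h4
    · exact h1
  · have := orderOf_map_dvd (SemidirectProduct.rightHom (φ := φ)) y
    rwa [SemidirectProduct.rightHom_eq_right] at this

section

variable {F : Type*} [Field F] [Fintype F] {m : ℕ}

/-- orders of elements of the Suzuki groups that are products of two distinct primes -/
theorem sz_exists_orderOf_iff (hm : 1 ≤ m) (hF : Fintype.card F = 2 ^ (2 * m + 1)) {r s : ℕ}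
    (hr : r.Prime) (hs : s.Prime) (hrs : r ≠ s) :
    (∃ x : Sz F m, orderOf x = r * s) ↔
      (r * s ∣ 2 ^ (2 * m + 1) - 1 ∨ r * s ∣ 2 ^ (2 * m + 1) + 2 ^ (m + 1) + 1 ∨
        r * s ∣ 2 ^ (2 * m + 1) - 2 ^ (m + 1) + 1) := by
  constructor
  · rintro ⟨x, hx⟩
    have hx1 : x ≠ 1 := by
      rintro rfl
      rw [orderOf_one] at hx
      have := hr.two_le
      have := hs.two_le
      nlinarith
    rcases sz_elt_trich hm hF x with h | ⟨-, h4, -⟩ | ⟨-, hodd, -⟩
    · exact absurd h hx1
    · exfalso
      have h1 : r * s ∣ 2 ^ 2 := by rw [← hx]; exact orderOf_dvd_of_pow_eq_one h4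
      have hr2 : r = 2 :=
        (Nat.prime_dvd_prime_iff_eq hr Nat.prime_two).1
          (hr.dvd_of_dvd_pow ((Dvd.intro _ rfl : r ∣ r * s).trans h1))
      have hs2 : s = 2 :=
        (Nat.prime_dvd_prime_iff_eq hs Nat.prime_two).1
          (hs.dvd_of_dvd_pow ((Dvd.intro_left _ rfl : s ∣ r * s).trans h1))
      exact hrs (hr2.trans hs2.symm)
    · obtain ⟨-, -, hcard, -⟩ := sz_torus_of_odd hm hF hx1 hodd
      have hdvd : orderOf x ∣ Nat.card (Subgroup.centralizer ({x} : Set (Sz F m))) := by
        have := orderOf_dvd_natCard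
          (⟨x, by rw [mem_cent_singleton]⟩ : Subgroup.centralizer ({x} : Set (Sz F m)))
        rwa [Subgroup.orderOf_mk] at this
      rw [hx] at hdvd
      rcases hcard with h | h | h <;> rw [h] at hdvd
      · exact Or.inl hdvd
      · exact Or.inr (Or.inl hdvd)
      · exact Or.inr (Or.inr hdvd)
  · intro h
    obtain ⟨g₁, g₂, hg₁, hg₂, hc₁, hc₂, -, -, -⟩ := sz_tori hm hF
    rcases h with h | h | h
    · have hcyc : IsCyclic (szHG (m := m) hF).range :=
        isCyclic_of_surjective (szHG (m := m) hF).rangeRestrict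
          (MonoidHom.rangeRestrict_surjective _)
      obtain ⟨x, hx⟩ := exists_orderOf_of_cyclic (C := (szHG (m := m) hF).range) (d := r * s)
        (by rw [sz_torus_card hF]; exact h)
      exact ⟨x, by rw [← hx, Subgroup.orderOf_coe]⟩
    · have hcyc := (szReg_cent hm hF hg₁).2.2.1
      obtain ⟨x, hx⟩ := exists_orderOf_of_cyclic
        (C := Subgroup.centralizer ({g₁} : Set (Sz F m))) (d := r * s) (by rw [hc₁]; exact h)
      exact ⟨x, by rw [← hx, Subgroup.orderOf_coe]⟩
    · have hcyc := (szReg_cent hm hF hg₂).2.2.1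
      obtain ⟨x, hx⟩ := exists_orderOf_of_cyclic
        (C := Subgroup.centralizer ({g₂} : Set (Sz F m))) (d := r * s) (by rw [hc₂]; exact h)
      exact ⟨x, by rw [← hx, Subgroup.orderOf_coe]⟩

end

/-- the action on `k` copies of the natural module -/
noncomputable def szModHom (F : Type*) [Field F] (m k : ℕ) :
    Sz F m →* MulAut (Multiplicative (Fin k → Fin 4 → F)) :=
  (MulAutMultiplicative (Fin k → Fin 4 → F)).symm.toMonoidHom.comp
    (DistribMulAction.toAddAut (Sz F m) (Fin k → Fin 4 → F))

theorem szModHom_apply {F : Type*} [Field F] {m k : ℕ} (g : Sz F m)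
    (w : Multiplicative (Fin k → Fin 4 → F)) :
    szModHom F m k g w =
      Multiplicative.ofAdd (fun i => g.1.1 *ᵥ (Multiplicative.toAdd w i)) := rfl

section

variable {F : Type*} [Field F] [Fintype F] {m : ℕ}

/-- elements of order a product of two distinct primes in the split extension of copies
of the natural module by the Suzuki group -/
theorem sz_modExt_orderOf (hm : 1 ≤ m) (hF : Fintype.card F = 2 ^ (2 * m + 1)) (k : ℕ)
    {r s : ℕ} (hr : r.Prime) (hs : s.Prime) (hrs : r ≠ s) :
    (∃ y : Multiplicative (Fin k → Fin 4 → F) ⋊[szModHom F m k] Sz F m, orderOf y = r * s) ↔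
      (∃ x : Sz F m, orderOf x = r * s) := by
  have hchar := sz_charP hF
  constructor
  · rintro ⟨y, hy⟩
    have hdiv1 : orderOf y.right ∣ r * s := by
      have := orderOf_map_dvd (SemidirectProduct.rightHom (φ := szModHom F m k)) y
      rwa [SemidirectProduct.rightHom_eq_right, hy] at this
    have hN : ∀ n : Multiplicative (Fin k → Fin 4 → F), n * n = 1 := by
      intro n
      apply Multiplicative.toAdd.injective
      funext i j
      show Multiplicative.toAdd n i j + Multiplicative.toAdd n i j = 0
      exact CharTwo.add_self_eq_zero _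
    have hdiv2 : r * s ∣ 2 * orderOf y.right := by
      rw [← hy]; exact sd_orderOf_dvd _ hN y
    have hr2 := hr.two_le
    have hs2 := hs.two_le
    by_cases hg1 : y.right = 1
    · exfalso
      rw [hg1, orderOf_one, mul_one] at hdiv2
      have := Nat.le_of_dvd (by norm_num) hdiv2
      nlinarith
    rcases sz_elt_trich hm hF y.right with h | ⟨-, h4, -⟩ | ⟨-, hodd, -⟩
    · exact absurd h hg1
    · exfalso
      have h1 : orderOf y.right ∣ 4 := orderOf_dvd_of_pow_eq_one h4
      have h2 : r * s ∣ 2 ^ 3 := hdiv2.trans (by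
        obtain ⟨c, hc⟩ := h1
        exact ⟨c, by rw [mul_assoc, ← hc]; norm_num⟩)
      have hr2 : r = 2 :=
        (Nat.prime_dvd_prime_iff_eq hr Nat.prime_two).1
          (hr.dvd_of_dvd_pow ((Dvd.intro _ rfl : r ∣ r * s).trans h2))
      have hs2 : s = 2 :=
        (Nat.prime_dvd_prime_iff_eq hs Nat.prime_two).1
          (hs.dvd_of_dvd_pow ((Dvd.intro_left _ rfl : s ∣ r * s).trans h2))
      exact hrs (hr2.trans hs2.symm)
    · refine ⟨y.right, ?_⟩
      rw [← hy]
      symm
      apply sd_orderOf_eq
      intro n hn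
      rw [szModHom_apply] at hn
      apply Multiplicative.toAdd.injective
      funext i
      have h1 := congrFun (congrArg Multiplicative.toAdd hn) i
      exact sz_fixed_vec hm hF hg1 hodd h1
  · rintro ⟨x, hx⟩
    refine ⟨SemidirectProduct.inr x, ?_⟩
    rw [orderOf_injective _ SemidirectProduct.inr_injective, hx]

end

end Cfsg.Agent.H8
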