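import Mathlib
import Cfsg.Agent.H8.SzSol4

set_option autoImplicit false

namespace Cfsg.Agent.H8

open Cfsg Matrix MulAction Module

section

variable {F : Type*} [Field F] [Fintype F] {m : ℕ}

/-- involutions `t` not fixing infinity with `x * t` fixed-point-free -/
def szInvReg (x : Sz F m) : Set (Sz F m) := {t | t ∈ szInvP F m ∧ szReg (x * t)}

theorem szUc_sq (hF : Fintype.card F = 2 ^ (2 * m + 1)) (b : F) :
    szUc (m := m) hF b * szUc hF b = 1 := by
  have hchar := sz_charP hF
  rw [szUc_mul, CharTwo.add_self_eq_zero, szUc_zero]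

/-- the product of a central involution of the unipotent group with an involution not fixing
the point at infinity -/
theorem sz_invol_mul_odd (hm : 1 ≤ m) (hF : Fintype.card F = 2 ^ (2 * m + 1)) {b : F}
    (hb : b ≠ 0) {t : Sz F m} (ht : t ∈ szInvP F m) :
    szUc hF b * t ≠ 1 ∧ Odd (orderOf (szUc hF b * t)) ∧
      (szUc hF b * t) • szP F m none ≠ szP F m none := by
  obtain ⟨ht1, htt, htinf⟩ := ht
  have hxx := szUc_sq (m := m) hF b
  have hxinv : (szUc (m := m) hF b)⁻¹ = szUc hF b := inv_of_invol hxx
  have htinv : t⁻¹ = t := inv_of_invol htt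
  have hxinf := szUc_smul_inf (m := m) hF b
  have h3 : (szUc hF b * t) • szP F m none ≠ szP F m none := by
    intro h
    rw [mul_smul, smul_eq_iff_eq_inv_smul, hxinv, hxinf] at h
    exact htinf h
  have h1 : szUc hF b * t ≠ 1 := by
    intro h
    apply h3
    rw [h, one_smul]
  refine ⟨h1, ?_, h3⟩
  have htU : t ∉ szU (m := m) hF := by
    intro h
    apply htinf
    rw [sz_smul_szP]; exact szU_fix_inf hF h
  have hwinv : (szUc hF b * t)⁻¹ = t * szUc hF b := by
    rw [_root_.mul_inv_rev, hxinv, htinv]
  rcases sz_elt_trich hm hF (szUc hF b * t) with h | ⟨-, h4, -⟩ | ⟨-, hodd, -⟩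
  · exact absurd h h1
  · exfalso
    by_cases hz : (szUc hF b * t) * (szUc hF b * t) = 1
    · have h5 : szUc hF b * t = t * szUc hF b := by
        rw [← hwinv]; exact (inv_of_invol hz).symm
      exact htU (sz_cent_central_invol hm hF hb t h5.symm)
    · set z := (szUc hF b * t) * (szUc hF b * t) with hzdef
      have hzz : z * z = 1 := by
        have : z * z = (szUc hF b * t) ^ 4 := by
          rw [hzdef]; simp [pow_succ, mul_assoc]
        rw [this, h4]
      have hzinv : z⁻¹ = z := inv_of_invol hzz
      have hzx : z * szUc hF b = szUc hF b * z := by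
        have e1 : szUc hF b * z * (szUc hF b)⁻¹ = z⁻¹ := by
          rw [hzdef, _root_.mul_inv_rev, hwinv, hxinv]
          have : szUc hF b * (szUc hF b * t * (szUc hF b * t)) * szUc hF b =
              (szUc hF b * szUc hF b) * (t * szUc hF b) * (t * szUc hF b) := by group
          rw [this, hxx, one_mul]
        rw [hzinv] at e1
        have : szUc hF b * z = szUc hF b * z * (szUc hF b)⁻¹ * szUc hF b := by group
        rw [this, e1]
      have hzU := sz_cent_central_invol hm hF hb z hzx
      have hzfix : z • szP F m none = szP F m none := by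
        rw [sz_smul_szP]; exact szU_fix_inf hF hzU
      obtain ⟨c, hc, hzc⟩ := sz_invol_of_fix hm hF hz hzz hzfix
      have htz : t * szUc hF c = szUc hF c * t := by
        rw [← hzc]
        have e1 : t * z * t⁻¹ = z⁻¹ := by
          rw [hzdef, _root_.mul_inv_rev, hwinv, htinv]
          have : t * (szUc hF b * t * (szUc hF b * t)) * t =
              (t * szUc hF b) * (t * szUc hF b) * (t * t) := by group
          rw [this, htt, mul_one]
        rw [hzinv] at e1
        have : t * z = t * z * t⁻¹ * t := by group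
        rw [this, e1]
      exact htU (sz_cent_central_invol hm hF hc t htz)
  · exact hodd

/-- the elements swapping two points -/
theorem sz_swap_card (hm : 1 ≤ m) (hF : Fintype.card F = 2 ^ (2 * m + 1))
    {ω ω' : suzukiOvoid F m} (hne : ω ≠ ω') :
    ({g : Sz F m | g • ω = ω' ∧ g • ω' = ω}).ncard = 2 ^ (2 * m + 1) - 1 ∧
      ∀ g : Sz F m, g • ω = ω' → g • ω' = ω → g * g = 1 := by
  have h2 := sz_two_trans (m := m) hF
  rw [MulAction.is_two_pretransitive_iff] at h2
  obtain ⟨k, hk1, hk2⟩ := h2 (a := szP F m none) (b := szP F m (some (0, 0))) (c := ω) (d := ω')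
    szP_inf_ne_zero hne
  have hw := szWG_mul_self (m := m) hF
  have hset : {g : Sz F m | g • ω = ω' ∧ g • ω' = ω} =
      (fun h : Sz F m => k * (szWG hF * h) * k⁻¹) '' ((szHG (m := m) hF).range : Set (Sz F m)) := by
    ext g
    constructor
    · rintro ⟨hg1, hg2⟩
      have h3 : (k⁻¹ * g * k) • szP F m none = szP F m (some (0, 0)) := by
        rw [mul_smul, mul_smul, hk1, hg1, inv_smul_eq_iff, hk2]
      have h4 : (k⁻¹ * g * k) • szP F m (some (0, 0)) = szP F m none := by
        rw [mul_smul, mul_smul, hk2, hg2, inv_smul_eq_iff, hk1]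
      have h5 := sz_mem_torus_of_swap hm hF h3 h4
      refine ⟨szWG hF * (k⁻¹ * g * k), h5, ?_⟩
      show k * (szWG hF * (szWG hF * (k⁻¹ * g * k))) * k⁻¹ = g
      rw [← mul_assoc (szWG hF), hw]; group
    · rintro ⟨h, ⟨κ, rfl⟩, rfl⟩
      constructor
      · rw [mul_smul, mul_smul, mul_smul, ← hk1, inv_smul_smul, szHG_smul_inf, szWG_smul_inf,
          hk2]
      · rw [mul_smul, mul_smul, mul_smul, ← hk2, inv_smul_smul, szHG_smul_zero, szWG_smul_zero,
          hk1]
  constructor
  · rw [hset, Set.ncard_image_of_injective, ← Nat.card_coe_set_eq]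
    · exact sz_torus_card hF
    · intro h h' hh
      simp only at hh
      exact mul_left_cancel (mul_left_cancel (mul_right_cancel hh))
  · intro g hg1 hg2
    have hg : g ∈ {g : Sz F m | g • ω = ω' ∧ g • ω' = ω} := ⟨hg1, hg2⟩
    rw [hset] at hg
    obtain ⟨h, ⟨κ, rfl⟩, rfl⟩ := hg
    have e : k * (szWG hF * szHG hF κ) * k⁻¹ * (k * (szWG hF * szHG hF κ) * k⁻¹) =
        k * ((szWG hF * szHG hF κ) * szWG hF * szHG hF κ) * k⁻¹ := by group
    rw [e, szWG_szHG, mul_assoc (szHG hF κ⁻¹), hw, mul_one, ← map_mul, inv_mul_cancel, map_one]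
    group

/-- the number of involutions `t` not fixing infinity for which `x * t` is fixed-point-free -/
theorem szInvReg_card (hm : 1 ≤ m) (hF : Fintype.card F = 2 ^ (2 * m + 1)) {b : F}
    (hb : b ≠ 0) : 2 * (szInvReg (szUc (m := m) hF b)).ncard = (2 ^ (2 * m + 1)) ^ 3 := by
  classical
  have hΩfin : Finite (suzukiOvoid F m) := (suzukiOvoid_finite (F := F) (m := m)).to_subtype
  let _ : Fintype (suzukiOvoid F m) := Fintype.ofFinite _
  let _ : Fintype (Sz F m) := Fintype.ofFinite _
  obtain ⟨h8, -⟩ := sz_cards_facts hm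
  have hxx := szUc_sq (m := m) hF b
  have hxinv : (szUc (m := m) hF b)⁻¹ = szUc hF b := inv_of_invol hxx
  have hxinf := szUc_smul_inf (m := m) hF b
  have hx1 : szUc (m := m) hF b ≠ 1 := szUc_ne_one hF hb
  have hdc := Finset.sum_card_bipartiteAbove_eq_sum_card_bipartiteBelow
    (s := (Finset.univ : Finset (suzukiOvoid F m)))
    (t := (Finset.univ : Finset (Sz F m)).filter (· ∈ szInvP F m))
    (r := fun ω t => (szUc hF b * t) • ω = ω)
  -- the fibres over the points
  have hL : ∀ ω : suzukiOvoid F m,
      (((Finset.univ : Finset (Sz F m)).filter (· ∈ szInvP F m)).bipartiteAbove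
        (fun ω t => (szUc hF b * t) • ω = ω) ω).card =
        if ω = szP F m none then 0 else 2 ^ (2 * m + 1) - 2 := by
    intro ω
    have e0 : ((Finset.univ : Finset (Sz F m)).filter (· ∈ szInvP F m)).bipartiteAbove
        (fun ω t => (szUc hF b * t) • ω = ω) ω =
        (Finset.univ : Finset (Sz F m)).filter
          (· ∈ {t : Sz F m | t ∈ szInvP F m ∧ (szUc hF b * t) • ω = ω}) := by
      ext t
      simp [Finset.bipartiteAbove]
    rw [e0, card_filter_eq_ncard]
    split_ifs with hω
    · subst hω
      have : {t : Sz F m | t ∈ szInvP F m ∧ (szUc hF b * t) • szP F m none = szP F m none} = ∅ := by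
        ext t
        simp only [Set.mem_ofPred_eq, Set.mem_empty_iff_false, iff_false, not_and]
        intro ht
        exact (sz_invol_mul_odd hm hF hb ht).2.2
      rw [this, Set.ncard_empty]
    · have hne : ω ≠ szUc hF b • ω := fun h => hω (szUc_fix hF hb ω h.symm)
      obtain ⟨hc, hinv⟩ := sz_swap_card hm hF hne
      have hxS : szUc hF b ∈ {g : Sz F m | g • ω = szUc hF b • ω ∧ g • (szUc hF b • ω) = ω} := by
        refine ⟨rfl, ?_⟩
        rw [← mul_smul, hxx, one_smul]
      have hset : {t : Sz F m | t ∈ szInvP F m ∧ (szUc hF b * t) • ω = ω} =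
          {g : Sz F m | g • ω = szUc hF b • ω ∧ g • (szUc hF b • ω) = ω} \ {szUc hF b} := by
        ext t
        constructor
        · rintro ⟨ht, hfix⟩
          have h1 : t • ω = szUc hF b • ω := by
            rw [mul_smul, smul_eq_iff_eq_inv_smul, hxinv] at hfix
            exact hfix
          refine ⟨⟨h1, ?_⟩, ?_⟩
          · rw [← h1, ← mul_smul, ht.2.1, one_smul]
          · intro h
            rw [Set.mem_singleton_iff] at h
            exact ht.2.2 (h ▸ hxinf)
        · rintro ⟨⟨hg1, hg2⟩, hgx⟩
          rw [Set.mem_singleton_iff] at hgx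
          have hgg := hinv t hg1 hg2
          have hg1' : t ≠ 1 := by
            rintro rfl
            rw [one_smul] at hg1
            exact hne hg1
          refine ⟨⟨hg1', hgg, ?_⟩, ?_⟩
          · intro hfix
            obtain ⟨c, hc0, htc⟩ := sz_invol_of_fix hm hF hg1' hgg hfix
            have h5 : (szUc hF b * t) • ω = ω := by
              rw [mul_smul, hg1, ← mul_smul, hxx, one_smul]
            have h6 : szUc hF b * t ∈ szU (m := m) hF := by
              rw [htc]; exact Subgroup.mul_mem _ (szUc_mem hF b) (szUc_mem hF c)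
            have h7 : szUc hF b * t = 1 := by
              by_contra h
              exact hω (szU_fix_unique hF h6 h h5)
            apply hgx
            rw [← hxinv]
            exact (eq_inv_of_mul_eq_one_right h7)
          · rw [mul_smul, hg1, ← mul_smul, hxx, one_smul]
      rw [hset, Set.ncard_sdiff_singleton_of_mem hxS, hc]
      omega
  -- the fibres over the involutions
  have hR : ∀ t ∈ (Finset.univ : Finset (Sz F m)).filter (· ∈ szInvP F m),
      ((Finset.univ : Finset (suzukiOvoid F m)).bipartiteBelow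
        (fun ω t => (szUc hF b * t) • ω = ω) t).card =
        if szReg (szUc hF b * t) then 0 else 2 := by
    intro t ht
    rw [Finset.mem_filter] at ht
    have ht' := ht.2
    obtain ⟨h1, hodd, h3⟩ := sz_invol_mul_odd hm hF hb ht'
    have e0 : (Finset.univ : Finset (suzukiOvoid F m)).bipartiteBelow
        (fun ω t => (szUc hF b * t) • ω = ω) t =
        (Finset.univ : Finset (suzukiOvoid F m)).filter
          (· ∈ {ω : suzukiOvoid F m | (szUc hF b * t) • ω = ω}) := by
      ext ω
      simp [Finset.bipartiteBelow]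
    rw [e0, card_filter_eq_ncard]
    split_ifs with hreg
    · have : {ω : suzukiOvoid F m | (szUc hF b * t) • ω = ω} = ∅ := by
        ext ω
        simp only [Set.mem_ofPred_eq, Set.mem_empty_iff_false, iff_false]
        exact hreg ω
      rw [this, Set.ncard_empty]
    · have hle : ({ω : suzukiOvoid F m | (szUc hF b * t) • ω = ω}).ncard ≤ 2 := by
        have := sz_fix_le_two hm hF _ h1
        rwa [Nat.card_coe_set_eq] at this
      have hge : 1 < ({ω : suzukiOvoid F m | (szUc hF b * t) • ω = ω}).ncard := by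
        rw [Set.one_lt_ncard_iff (Set.toFinite _)]
        unfold szReg at hreg
        push Not at hreg
        obtain ⟨ω₀, hω₀⟩ := hreg
        have hω₀inf : ω₀ ≠ szP F m none := by
          rintro rfl
          exact h3 hω₀
        refine ⟨ω₀, szUc hF b • ω₀, hω₀, ?_, ?_⟩
        · show (szUc hF b * t) • (szUc hF b • ω₀) = szUc hF b • ω₀
          have h5 : (t * szUc hF b) • ω₀ = ω₀ := by
            have hwinv : (szUc hF b * t)⁻¹ = t * szUc hF b := by
              rw [_root_.mul_inv_rev, hxinv, inv_of_invol ht'.2.1]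
            rw [← hwinv, inv_smul_eq_iff, hω₀]
          rw [mul_smul, ← mul_smul t, h5]
        · intro h
          exact hω₀inf (szUc_fix hF hb ω₀ h.symm)
      omega
  rw [Finset.sum_congr rfl (fun ω _ => hL ω), Finset.sum_congr rfl hR] at hdc
  -- evaluate the two sums
  have hsumL : (∑ ω : suzukiOvoid F m, if ω = szP F m none then 0 else 2 ^ (2 * m + 1) - 2) =
      (2 ^ (2 * m + 1)) ^ 2 * (2 ^ (2 * m + 1) - 2) := by
    rw [Finset.sum_ite, Finset.sum_const_zero, zero_add, Finset.sum_const, smul_eq_mul]
    congr 1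
    have h1 : (Finset.univ.filter (fun ω : suzukiOvoid F m => ¬ ω = szP F m none)).card + 1 =
        Fintype.card (suzukiOvoid F m) := by
      have := Finset.card_filter_add_card_filter_not (s := (Finset.univ : Finset (suzukiOvoid F m)))
        (fun ω : suzukiOvoid F m => ω = szP F m none)
      rw [Finset.card_univ] at this
      have h0 : (Finset.univ.filter (fun ω : suzukiOvoid F m => ω = szP F m none)).card = 1 := by
        rw [Finset.card_eq_one]
        exact ⟨szP F m none, by ext ω; simp⟩
      omega
    have h2 : Fintype.card (suzukiOvoid F m) = (2 ^ (2 * m + 1)) ^ 2 + 1 := by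
      rw [← Nat.card_eq_fintype_card, card_suzukiOvoid, hF]
    omega
  have hsumR : (∑ t ∈ (Finset.univ : Finset (Sz F m)).filter (· ∈ szInvP F m),
      if szReg (szUc hF b * t) then 0 else 2) =
      2 * (((Finset.univ : Finset (Sz F m)).filter (· ∈ szInvP F m)).filter
        (fun t => ¬ szReg (szUc hF b * t))).card := by
    rw [Finset.sum_ite, Finset.sum_const_zero, zero_add, Finset.sum_const, smul_eq_mul, mul_comm]
  rw [hsumL, hsumR] at hdc
  have hsplit := Finset.card_filter_add_card_filter_not
    (s := (Finset.univ : Finset (Sz F m)).filter (· ∈ szInvP F m))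
    (fun t => szReg (szUc hF b * t))
  rw [card_filter_eq_ncard, szInvP_card hm hF] at hsplit
  have hreg : (((Finset.univ : Finset (Sz F m)).filter (· ∈ szInvP F m)).filter
      (fun t => szReg (szUc hF b * t))).card = (szInvReg (szUc (m := m) hF b)).ncard := by
    rw [Finset.filter_filter, ← card_filter_eq_ncard]
    congr 1
    ext a
    simp only [Finset.mem_filter, Finset.mem_univ, true_and]
    rfl
  rw [hreg] at hsplit
  obtain ⟨Q', hQ'⟩ : ∃ Q', 2 ^ (2 * m + 1) = Q' + 2 := ⟨2 ^ (2 * m + 1) - 2, by omega⟩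
  rw [hQ'] at hdc hsplit ⊢
  have e1 : Q' + 2 - 2 = Q' := by omega
  have e2 : Q' + 2 - 1 = Q' + 1 := by omega
  rw [e1] at hdc
  rw [e2] at hsplit
  have e3 : (Q' + 2) ^ 3 = (Q' + 2) ^ 2 * Q' + 2 * (Q' + 2) ^ 2 := by ring
  have e4 : (Q' + 2) ^ 2 * (Q' + 1) = (Q' + 2) ^ 2 * Q' + (Q' + 2) ^ 2 := by ring
  rw [e3]
  rw [e4] at hsplit
  generalize (Q' + 2) ^ 2 * Q' = P at *
  generalize (Q' + 2) ^ 2 = A at *
  omega

end

end Cfsg.Agent.H8
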