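import Mathlib
import Cfsg.Agent.H8.SzSol5

set_option autoImplicit false

namespace Cfsg.Agent.H8

open Cfsg Matrix MulAction Module

section

variable {F : Type*} [Field F] [Fintype F] {m : ℕ}

/-- square roots in a torus -/
theorem sz_torus_sqrt (hm : 1 ≤ m) (hF : Fintype.card F = 2 ^ (2 * m + 1)) {a : Sz F m}
    (ha1 : a ≠ 1) (hodd : Odd (orderOf a)) {d : Sz F m}
    (hd : d ∈ Subgroup.centralizer ({a} : Set (Sz F m))) :
    ∃ c ∈ Subgroup.centralizer ({a} : Set (Sz F m)), c * c = d := by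
  obtain ⟨j, hj⟩ := sz_torus_card_odd hm hF ha1 hodd
  have hpow : d ^ Nat.card (Subgroup.centralizer ({a} : Set (Sz F m))) = 1 := by
    have h := congrArg Subtype.val
      (pow_card_eq_one' (x := (⟨d, hd⟩ : Subgroup.centralizer ({a} : Set (Sz F m)))))
    rw [Subgroup.coe_pow] at h
    exact h
  refine ⟨d ^ (j + 1), Subgroup.pow_mem _ hd _, ?_⟩
  rw [← pow_add]
  have : j + 1 + (j + 1) = Nat.card (Subgroup.centralizer ({a} : Set (Sz F m))) + 1 := by omega
  rw [this, pow_succ, hpow, one_mul]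

/-- the product of two involutions normalising a torus lies in the torus -/
theorem sz_invol_mul_mem (hm : 1 ≤ m) (hF : Fintype.card F = 2 ^ (2 * m + 1)) {a : Sz F m}
    (ha1 : a ≠ 1) (hodd : Odd (orderOf a)) {s t : Sz F m}
    (hs : s ∈ Subgroup.normalizer
      ((Subgroup.centralizer ({a} : Set (Sz F m)) : Subgroup (Sz F m)) : Set (Sz F m)))
    (hs1 : s ≠ 1) (hss : s * s = 1)
    (ht : t ∈ Subgroup.normalizer
      ((Subgroup.centralizer ({a} : Set (Sz F m)) : Subgroup (Sz F m)) : Set (Sz F m)))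
    (ht1 : t ≠ 1) (htt : t * t = 1) :
    s * t ∈ Subgroup.centralizer ({a} : Set (Sz F m)) := by
  rw [mem_cent_singleton]
  have haT : a ∈ Subgroup.centralizer ({a} : Set (Sz F m)) := mem_cent_singleton.2 rfl
  have h1 := sz_invol_inverts hm hF ha1 hodd ht ht1 htt haT
  have h2 := sz_invol_inverts hm hF ha1 hodd hs hs1 hss (Subgroup.inv_mem _ haT)
  rw [inv_inv] at h2
  calc a * (s * t) = (s * a⁻¹ * s⁻¹) * (s * t) := by rw [h2]
    _ = s * (a⁻¹ * t) := by group
    _ = s * ((t * a * t⁻¹) * t) := by rw [h1]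
    _ = s * t * a := by group

/-- involutions normalising a torus are conjugate under the torus -/
theorem sz_torus_conj_invol (hm : 1 ≤ m) (hF : Fintype.card F = 2 ^ (2 * m + 1)) {a : Sz F m}
    (ha1 : a ≠ 1) (hodd : Odd (orderOf a)) {s t : Sz F m}
    (hs : s ∈ Subgroup.normalizer
      ((Subgroup.centralizer ({a} : Set (Sz F m)) : Subgroup (Sz F m)) : Set (Sz F m)))
    (hs1 : s ≠ 1) (hss : s * s = 1)
    (ht : t ∈ Subgroup.normalizer
      ((Subgroup.centralizer ({a} : Set (Sz F m)) : Subgroup (Sz F m)) : Set (Sz F m)))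
    (ht1 : t ≠ 1) (htt : t * t = 1) :
    ∃ c ∈ Subgroup.centralizer ({a} : Set (Sz F m)), c * s * c⁻¹ = t := by
  have hd := sz_invol_mul_mem hm hF ha1 hodd ht ht1 htt hs hs1 hss
  obtain ⟨c, hc, hcc⟩ := sz_torus_sqrt hm hF ha1 hodd hd
  refine ⟨c, hc, ?_⟩
  have h1 := sz_invol_inverts hm hF ha1 hodd hs hs1 hss (Subgroup.inv_mem _ hc)
  rw [inv_inv] at h1
  calc c * s * c⁻¹ = c * (s * c⁻¹ * s⁻¹) * s := by group
    _ = c * c * s := by rw [h1]
    _ = t * s * s := by rw [hcc]
    _ = t := by rw [mul_assoc, hss, mul_one]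

/-- an involution normalising a torus and commuting with another such involution is equal
to it -/
theorem sz_invol_comm_eq (hm : 1 ≤ m) (hF : Fintype.card F = 2 ^ (2 * m + 1)) {a : Sz F m}
    (ha1 : a ≠ 1) (hodd : Odd (orderOf a)) {s v : Sz F m}
    (hs : s ∈ Subgroup.normalizer
      ((Subgroup.centralizer ({a} : Set (Sz F m)) : Subgroup (Sz F m)) : Set (Sz F m)))
    (hs1 : s ≠ 1) (hss : s * s = 1)
    (hv : v ∈ Subgroup.normalizer
      ((Subgroup.centralizer ({a} : Set (Sz F m)) : Subgroup (Sz F m)) : Set (Sz F m)))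
    (hv1 : v ≠ 1) (hvv : v * v = 1) (hvs : v * s = s * v) : v = s := by
  have hd := sz_invol_mul_mem hm hF ha1 hodd hs hs1 hss hv hv1 hvv
  have hdd : (s * v) * (s * v) = 1 := by
    calc (s * v) * (s * v) = s * (v * s) * v := by group
      _ = s * (s * v) * v := by rw [hvs]
      _ = (s * s) * (v * v) := by group
      _ = 1 := by rw [hss, hvv, one_mul]
  have hd1 : s * v = 1 := by
    by_contra h
    exact sz_two_not_mem_torus hm hF ha1 hodd h (sq_sq_of_invol hdd) hd
  rw [← inv_of_invol hss]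
  exact (eq_inv_of_mul_eq_one_right hd1)

/-- an involution in the normaliser of a torus of regular type has exactly two square roots
there -/
theorem sz_sqrt_card (hm : 1 ≤ m) (hF : Fintype.card F = 2 ^ (2 * m + 1)) {a : Sz F m}
    (hreg : szReg a) {s : Sz F m}
    (hs : s ∈ Subgroup.normalizer
      ((Subgroup.centralizer ({a} : Set (Sz F m)) : Subgroup (Sz F m)) : Set (Sz F m)))
    (hs1 : s ≠ 1) (hss : s * s = 1) :
    ({y : Sz F m | y ∈ Subgroup.normalizer
      ((Subgroup.centralizer ({a} : Set (Sz F m)) : Subgroup (Sz F m)) : Set (Sz F m)) ∧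
        y * y = s}).ncard = 2 := by
  classical
  have ha1 := szReg_ne_one hreg
  have hodd : Odd (orderOf a) := by
    have h4 : Even ((2 ^ (2 * m + 1)) ^ 2) := by
      rw [← pow_mul]; exact Nat.even_pow.2 ⟨even_two, by omega⟩
    exact Odd.of_dvd_nat (Even.add_one h4) (szReg_order hm hF hreg)
  have hN := szReg_norm_card hm hF hreg
  obtain ⟨hTI, -, -, -⟩ := sz_torus_of_odd hm hF ha1 hodd
  set T := Subgroup.centralizer ({a} : Set (Sz F m)) with hT
  set N := Subgroup.normalizer (T : Set (Sz F m)) with hNdef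
  have hTN : T ≤ N := Subgroup.le_normalizer
  have hsinv : s⁻¹ = s := inv_of_invol hss
  set C : Set (Sz F m) := {n | n ∈ N ∧ n * s = s * n} with hC
  -- the normaliser is the product of the torus and the centraliser of the involution
  have hinj : Set.InjOn (fun p : Sz F m × Sz F m => p.1 * p.2) ((T : Set (Sz F m)) ×ˢ C) := by
    rintro ⟨c, n⟩ ⟨hc, hn⟩ ⟨c', n'⟩ ⟨hc', hn'⟩ h
    simp only at h hc hn hc' hn'
    have he : c'⁻¹ * c = n' * n⁻¹ := by
      have : c'⁻¹ * c = c'⁻¹ * (c * n) * n⁻¹ := by group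
      rw [this, h]; group
    have heT : c'⁻¹ * c ∈ T := T.mul_mem (T.inv_mem hc') hc
    have hes : (c'⁻¹ * c) * s = s * (c'⁻¹ * c) := by
      rw [he]
      have h1 : n⁻¹ * s = s * n⁻¹ := by
        have : n⁻¹ * s = n⁻¹ * (s * n) * n⁻¹ := by group
        rw [this, ← hn.2]; group
      calc n' * n⁻¹ * s = n' * (n⁻¹ * s) := by group
        _ = n' * (s * n⁻¹) := by rw [h1]
        _ = (n' * s) * n⁻¹ := by group
        _ = s * (n' * n⁻¹) := by rw [hn'.2]; group
    have hinv := sz_invol_inverts hm hF ha1 hodd hs hs1 hss heT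
    have hee : (c'⁻¹ * c) * (c'⁻¹ * c) = 1 := by
      have h2 : s * (c'⁻¹ * c) * s⁻¹ = c'⁻¹ * c := by rw [← hes]; group
      rw [h2] at hinv
      calc (c'⁻¹ * c) * (c'⁻¹ * c) = (c'⁻¹ * c) * (c'⁻¹ * c)⁻¹ := by rw [← hinv]
        _ = 1 := mul_inv_cancel _
    have he1 : c'⁻¹ * c = 1 := by
      by_contra hne
      exact sz_two_not_mem_torus hm hF ha1 hodd hne (sq_sq_of_invol hee) heT
    have hcc : c = c' := (inv_mul_eq_one.1 he1).symm
    subst hcc
    have hnn : n = n' := mul_left_cancel h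
    rw [hnn]
  have himg : (fun p : Sz F m × Sz F m => p.1 * p.2) '' ((T : Set (Sz F m)) ×ˢ C) =
      (N : Set (Sz F m)) := by
    ext n
    constructor
    · rintro ⟨⟨c, n'⟩, ⟨hc, hn'⟩, rfl⟩
      exact N.mul_mem (hTN hc) hn'.1
    · intro hn
      have hn' : n ∈ N := hn
      have hv : n * s * n⁻¹ ∈ N := N.mul_mem (N.mul_mem hn' hs) (N.inv_mem hn')
      have hv1 : n * s * n⁻¹ ≠ 1 := by
        intro h
        apply hs1
        have : s = n⁻¹ * (n * s * n⁻¹) * n := by group
        rw [this, h]; group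
      have hvv : (n * s * n⁻¹) * (n * s * n⁻¹) = 1 := by
        have : (n * s * n⁻¹) * (n * s * n⁻¹) = n * (s * s) * n⁻¹ := by group
        rw [this, hss]; group
      obtain ⟨c, hc, hcs⟩ := sz_torus_conj_invol hm hF ha1 hodd hs hs1 hss hv hv1 hvv
      refine ⟨(c, c⁻¹ * n), ⟨hc, N.mul_mem (N.inv_mem (hTN hc)) hn', ?_⟩, ?_⟩
      · have e : c⁻¹ * n * s = c⁻¹ * (n * s * n⁻¹) * n := by group
        rw [e, ← hcs]; group
      · show c * (c⁻¹ * n) = n
        group
  have hcard : Nat.card N = Nat.card T * C.ncard := by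
    calc Nat.card N = (N : Set (Sz F m)).ncard := (Nat.card_coe_set_eq _)
      _ = (T : Set (Sz F m)).ncard * C.ncard := by
          rw [← himg, hinj.ncard_image, Set.ncard_prod]
      _ = Nat.card T * C.ncard := by
          rw [show (T : Set (Sz F m)).ncard = Nat.card T from (Nat.card_coe_set_eq _).symm]
  have hTpos : 0 < Nat.card T := Nat.card_pos
  have hC4 : C.ncard = 4 := by
    rw [hN, mul_comm] at hcard
    exact (Nat.eq_of_mul_eq_mul_left hTpos hcard).symm
  -- the square roots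
  have hset : {y : Sz F m | y ∈ N ∧ y * y = s} = C \ {1, s} := by
    ext y
    constructor
    · rintro ⟨hyN, hyy⟩
      refine ⟨⟨hyN, ?_⟩, ?_⟩
      · rw [← hyy]; group
      · rintro (h | h)
        · rw [h, one_mul] at hyy
          exact hs1 hyy.symm
        · rw [Set.mem_singleton_iff] at h
          rw [h, hss] at hyy
          exact hs1 hyy.symm
    · rintro ⟨⟨hyN, hys⟩, hne⟩
      refine ⟨hyN, ?_⟩
      have hy1 : y ≠ 1 := fun h => hne (Or.inl h)
      have hy2 : y ≠ s := fun h => hne (Or.inr h)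
      have hy4 := sz_four_of_comm_invol hm hF hs1 hss hys
      by_cases hyy : y * y = 1
      · exact absurd (sz_invol_comm_eq hm hF ha1 hodd hs hs1 hss hyN hy1 hyy hys) hy2
      · apply sz_invol_comm_eq hm hF ha1 hodd hs hs1 hss (N.mul_mem hyN hyN) hyy
        · have : (y * y) * (y * y) = y ^ 4 := by simp [pow_succ, mul_assoc]
          rw [this, hy4]
        · calc y * y * s = y * (y * s) := by group
            _ = y * (s * y) := by rw [hys]
            _ = (y * s) * y := by group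
            _ = s * (y * y) := by rw [hys]; group
  have hsub : ({1, s} : Set (Sz F m)) ⊆ C := by
    rintro y (h | h)
    · rw [h]; exact ⟨N.one_mem, by rw [one_mul, mul_one]⟩
    · rw [Set.mem_singleton_iff] at h
      rw [h]; exact ⟨hs, rfl⟩
  rw [hset, Set.ncard_sdiff hsub, hC4, Set.ncard_pair (Ne.symm hs1)]

end

end Cfsg.Agent.H8
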