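import Mathlib
import Cfsg.Agent.H8.SzSol6

set_option autoImplicit false

namespace Cfsg.Agent.H8

open Cfsg Matrix MulAction Module

section

variable {F : Type*} [Field F] [Fintype F] {m : ℕ}

/-- a central involution `x` of the unipotent group and an involution `t` not fixing
infinity both normalise the torus of `x * t` -/
theorem sz_invP_norm (hm : 1 ≤ m) (hF : Fintype.card F = 2 ^ (2 * m + 1)) {b : F}
    (hb : b ≠ 0) {t : Sz F m} (ht : t ∈ szInvP F m) :
    szUc hF b ∈ Subgroup.normalizer ((Subgroup.centralizer ({szUc hF b * t} : Set (Sz F m)) :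
      Subgroup (Sz F m)) : Set (Sz F m)) ∧
    t ∈ Subgroup.normalizer ((Subgroup.centralizer ({szUc hF b * t} : Set (Sz F m)) :
      Subgroup (Sz F m)) : Set (Sz F m)) := by
  obtain ⟨h1, hodd, -⟩ := sz_invol_mul_odd hm hF hb ht
  have hxx := szUc_sq (m := m) hF b
  have hxinv : (szUc (m := m) hF b)⁻¹ = szUc hF b := inv_of_invol hxx
  have htinv : t⁻¹ = t := inv_of_invol ht.2.1
  have hwinv : (szUc hF b * t)⁻¹ = t * szUc hF b := by
    rw [_root_.mul_inv_rev, hxinv, htinv]
  have hmem : (szUc hF b * t)⁻¹ ∈ Subgroup.centralizer ({szUc hF b * t} : Set (Sz F m)) :=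
    Subgroup.inv_mem _ (mem_cent_singleton.2 rfl)
  constructor
  · apply sz_mem_norm_of_conj hm hF h1 hodd
    have e : szUc hF b * (szUc hF b * t) * (szUc hF b)⁻¹ = (szUc hF b * t)⁻¹ := by
      rw [hwinv, hxinv]
      calc szUc hF b * (szUc hF b * t) * szUc hF b = (szUc hF b * szUc hF b) * t * szUc hF b := by
            group
        _ = t * szUc hF b := by rw [hxx, one_mul]
    rw [e]; exact hmem
  · apply sz_mem_norm_of_conj hm hF h1 hodd
    have e : t * (szUc hF b * t) * t⁻¹ = (szUc hF b * t)⁻¹ := by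
      rw [hwinv]; group
    rw [e]; exact hmem

/-- the solubilizer of an involution -/
theorem sz_sol_invol (hm : 1 ≤ m) (hF : Fintype.card F = 2 ^ (2 * m + 1)) {b : F}
    (hb : b ≠ 0) :
    (szSolB (szUc (m := m) hF b) ∪ szSolT (szUc (m := m) hF b)).ncard =
      (2 ^ (2 * m + 1)) ^ 2 * (4 * 2 ^ (2 * m + 1) - 3) := by
  classical
  let _ : Fintype (Sz F m) := Fintype.ofFinite _
  obtain ⟨h8, -⟩ := sz_cards_facts hm
  have hxx := szUc_sq (m := m) hF b
  have hxinv : (szUc (m := m) hF b)⁻¹ = szUc hF b := inv_of_invol hxx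
  have hxinf := szUc_smul_inf (m := m) hF b
  have hx1 : szUc (m := m) hF b ≠ 1 := szUc_ne_one hF hb
  set B : Set (Sz F m) := (stabilizer (Sz F m) (szP F m none) : Set (Sz F m)) with hB
  set D₁ : Set (Sz F m) := (fun t => szUc hF b * t) '' szInvP F m with hD₁
  set D₃ : Set (Sz F m) := {y | y ^ 4 = 1 ∧ y * y ∈ szInvReg (szUc (m := m) hF b) ∧
    y ∈ Subgroup.normalizer ((Subgroup.centralizer ({szUc hF b * (y * y)} : Set (Sz F m)) :
      Subgroup (Sz F m)) : Set (Sz F m))} with hD₃
  have hSolB : szSolB (szUc (m := m) hF b) = B := by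
    ext y
    constructor
    · rintro ⟨p, hp, hyp⟩
      rw [szUc_fix hF hb p hp] at hyp
      exact hyp
    · intro hy
      exact ⟨_, hxinf, hy⟩
  have hunion : szSolB (szUc (m := m) hF b) ∪ szSolT (szUc (m := m) hF b) =
      B ∪ D₁ ∪ szInvP F m ∪ D₃ := by
    rw [hSolB]
    ext y
    constructor
    · rintro (hy | ⟨a, ha1, hodd, hxa, hya⟩)
      · exact Or.inl (Or.inl (Or.inl hy))
      · by_cases hyB : y ∈ B
        · exact Or.inl (Or.inl (Or.inl hyB))
        obtain ⟨hTI, -, -, -⟩ := sz_torus_of_odd hm hF ha1 hodd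
        rcases sz_elt_trich hm hF y with h | ⟨hy1, hy4, -⟩ | ⟨hy1, hyodd, -⟩
        · exfalso
          apply hyB
          rw [h]; exact Subgroup.one_mem _
        · by_cases hyy : y * y = 1
          · exact Or.inl (Or.inr ⟨hy1, hyy, hyB⟩)
          · right
            have htt : (y * y) * (y * y) = 1 := by
              have : (y * y) * (y * y) = y ^ 4 := by simp [pow_succ, mul_assoc]
              rw [this, hy4]
            have htN := Subgroup.mul_mem _ hya hya
            have htinf : (y * y) • szP F m none ≠ szP F m none := by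
              intro hfix
              obtain ⟨c, hc, htc⟩ := sz_invol_of_fix hm hF hyy htt hfix
              have hcomm : y * szUc hF c = szUc hF c * y := by
                rw [← htc]; group
              apply hyB
              have := sz_cent_central_invol hm hF hc y hcomm
              show y • szP F m none = szP F m none
              rw [sz_smul_szP]; exact szU_fix_inf hF this
            have htI : y * y ∈ szInvP F m := ⟨hyy, htt, htinf⟩
            obtain ⟨h1, hodd', -⟩ := sz_invol_mul_odd hm hF hb htI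
            have hmem := sz_invol_mul_mem hm hF ha1 hodd hxa hx1 hxx htN hyy htt
            have hceq := hTI _ hmem h1
            have hyN : y ∈ Subgroup.normalizer ((Subgroup.centralizer
                ({szUc hF b * (y * y)} : Set (Sz F m)) : Subgroup (Sz F m)) : Set (Sz F m)) := by
              rw [hceq]; exact hya
            exact ⟨hy4, ⟨htI, sz_reg_of_four hm hF h1 hodd' hyN hy4 hyy⟩, hyN⟩
        · left; left; right
          have hyT := sz_mem_torus_of_odd hm hF ha1 hodd hya hyodd
          have hinv := sz_invol_inverts hm hF ha1 hodd hxa hx1 hxx hyT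
          rw [hxinv] at hinv
          refine ⟨szUc hF b * y, ⟨?_, ?_, ?_⟩, ?_⟩
          · intro h
            apply hyB
            have : y = (szUc hF b)⁻¹ := eq_inv_of_mul_eq_one_right h
            rw [this, hxinv]
            exact hxinf
          · calc szUc hF b * y * (szUc hF b * y) = (szUc hF b * y * szUc hF b) * y := by group
              _ = y⁻¹ * y := by rw [hinv]
              _ = 1 := inv_mul_cancel _
          · intro h
            apply hyB
            rw [mul_smul, smul_eq_iff_eq_inv_smul, hxinv, hxinf] at h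
            exact h
          · show szUc hF b * (szUc hF b * y) = y
            rw [← mul_assoc, hxx, one_mul]
    · rintro (((hy | ⟨t, ht, rfl⟩) | ht) | ⟨hy4, ⟨htI, hreg⟩, hyN⟩)
      · exact Or.inl hy
      · right
        obtain ⟨h1, hodd, -⟩ := sz_invol_mul_odd hm hF hb ht
        obtain ⟨hxN, -⟩ := sz_invP_norm hm hF hb ht
        exact ⟨szUc hF b * t, h1, hodd, hxN, Subgroup.le_normalizer (mem_cent_singleton.2 rfl)⟩
      · right
        obtain ⟨h1, hodd, -⟩ := sz_invol_mul_odd hm hF hb ht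
        obtain ⟨hxN, htN⟩ := sz_invP_norm hm hF hb ht
        exact ⟨szUc hF b * y, h1, hodd, hxN, htN⟩
      · right
        obtain ⟨h1, hodd, -⟩ := sz_invol_mul_odd hm hF hb htI
        obtain ⟨hxN, -⟩ := sz_invP_norm hm hF hb htI
        exact ⟨szUc hF b * (y * y), h1, hodd, hxN, hyN⟩
  -- disjointness
  have hd1 : Disjoint B D₁ := by
    rw [Set.disjoint_left]
    rintro y hy ⟨t, ht, rfl⟩
    exact (sz_invol_mul_odd hm hF hb ht).2.2 hy
  have hd2 : Disjoint (B ∪ D₁) (szInvP F m) := by
    rw [Set.disjoint_union_left]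
    constructor
    · rw [Set.disjoint_left]
      rintro y hy ⟨-, -, hy3⟩
      exact hy3 hy
    · rw [Set.disjoint_left]
      rintro y ⟨t, ht, rfl⟩ ⟨hy1, hyy, -⟩
      obtain ⟨h1, hodd, -⟩ := sz_invol_mul_odd hm hF hb ht
      apply h1
      have h2 : (szUc hF b * t) ^ 2 ^ 1 = 1 := by rw [pow_one, pow_two]; exact hyy
      exact eq_one_of_two_pow_of_odd (j := 1) h2 dvd_rfl hodd
  have hd3 : Disjoint (B ∪ D₁ ∪ szInvP F m) D₃ := by
    rw [Set.disjoint_union_left, Set.disjoint_union_left]
    refine ⟨⟨?_, ?_⟩, ?_⟩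
    · rw [Set.disjoint_left]
      rintro y hy ⟨-, ⟨⟨-, -, h3⟩, -⟩, -⟩
      apply h3
      have hy' : y • szP F m none = szP F m none := hy
      rw [mul_smul, hy', hy']
    · rw [Set.disjoint_left]
      rintro y ⟨t, ht, rfl⟩ ⟨hy4, -, -⟩
      obtain ⟨h1, hodd, -⟩ := sz_invol_mul_odd hm hF hb ht
      exact h1 (eq_one_of_two_pow_of_odd (j := 2) hy4 dvd_rfl hodd)
    · rw [Set.disjoint_left]
      rintro y ⟨-, hyy, -⟩ ⟨-, ⟨⟨h1, -, -⟩, -⟩, -⟩
      exact h1 hyy
  -- cardinalities
  have hcB : B.ncard = (2 ^ (2 * m + 1)) ^ 2 * (2 ^ (2 * m + 1) - 1) := by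
    rw [hB, ← Nat.card_coe_set_eq]; exact sz_stab_card hm hF _
  have hcD₁ : D₁.ncard = (2 ^ (2 * m + 1)) ^ 2 * (2 ^ (2 * m + 1) - 1) := by
    rw [hD₁, Set.ncard_image_of_injective _ (mul_right_injective _), szInvP_card hm hF]
  have hcD₃ : D₃.ncard = 2 * (szInvReg (szUc (m := m) hF b)).ncard := by
    rw [← card_filter_eq_ncard, ← card_filter_eq_ncard]
    have hmaps : ((Finset.univ.filter (· ∈ D₃) : Finset (Sz F m)) : Set (Sz F m)).MapsTo
        (fun y => y * y) (Finset.univ.filter (· ∈ szInvReg (szUc (m := m) hF b))) := by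
      intro y hy
      simp only [Finset.coe_filter, Finset.mem_univ, true_and, Set.mem_ofPred_eq] at hy ⊢
      exact hy.2.1
    rw [Finset.card_eq_sum_card_fiberwise hmaps]
    have hfib : ∀ t ∈ (Finset.univ.filter (· ∈ szInvReg (szUc (m := m) hF b)) : Finset (Sz F m)),
        ((Finset.univ.filter (· ∈ D₃) : Finset (Sz F m)).filter (fun y => y * y = t)).card = 2 := by
      intro t ht
      rw [Finset.mem_filter] at ht
      obtain ⟨htI, hreg⟩ := ht.2
      obtain ⟨-, htN⟩ := sz_invP_norm hm hF hb htI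
      have e0 : (Finset.univ.filter (· ∈ D₃) : Finset (Sz F m)).filter (fun y => y * y = t) =
          Finset.univ.filter (· ∈ {y : Sz F m | y ∈ Subgroup.normalizer
            ((Subgroup.centralizer ({szUc hF b * t} : Set (Sz F m)) : Subgroup (Sz F m)) :
              Set (Sz F m)) ∧ y * y = t}) := by
        ext y
        simp only [Finset.mem_filter, Finset.mem_univ, true_and, Set.mem_ofPred_eq]
        constructor
        · rintro ⟨⟨-, -, hyN⟩, rfl⟩
          exact ⟨hyN, rfl⟩
        · rintro ⟨hyN, rfl⟩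
          refine ⟨⟨?_, ⟨htI, hreg⟩, hyN⟩, rfl⟩
          have : y ^ 4 = (y * y) * (y * y) := by simp [pow_succ, mul_assoc]
          rw [this, htI.2.1]
      rw [e0, card_filter_eq_ncard]
      exact sz_sqrt_card hm hF hreg htN htI.1 htI.2.1
    rw [Finset.sum_congr rfl hfib, Finset.sum_const, smul_eq_mul, mul_comm]
  have hreg := szInvReg_card hm hF hb
  rw [hunion, Set.ncard_union_eq hd3, Set.ncard_union_eq hd2, Set.ncard_union_eq hd1, hcB, hcD₁,
    szInvP_card hm hF, hcD₃, hreg]
  obtain ⟨Q', hQ'⟩ : ∃ Q', 2 ^ (2 * m + 1) = Q' + 1 := ⟨2 ^ (2 * m + 1) - 1, by omega⟩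
  rw [hQ']
  have e1 : Q' + 1 - 1 = Q' := by omega
  have e2 : 4 * (Q' + 1) - 3 = 4 * Q' + 1 := by omega
  rw [e1, e2]
  ring

end

end Cfsg.Agent.H8
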