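import Mathlib
import Cfsg.Agent.H8.SzSol7

set_option autoImplicit false

namespace Cfsg.Agent.H8

open Cfsg Matrix MulAction Module

section

variable {F : Type*} [Field F] [Fintype F] {m : ℕ}

/-- non-identity elements of odd order whose torus is normalised by `x` -/
def szTorSet (x : Sz F m) : Set (Sz F m) :=
  {a | a ≠ 1 ∧ Odd (orderOf a) ∧ x ∈ Subgroup.normalizer
    ((Subgroup.centralizer ({a} : Set (Sz F m)) : Subgroup (Sz F m)) : Set (Sz F m))}

omit [Fintype F] in
theorem szTorSet_conj_mem (u x a : Sz F m) :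
    u * a * u⁻¹ ∈ szTorSet (u * x * u⁻¹) ↔ a ∈ szTorSet x := by
  unfold szTorSet
  simp only [Set.mem_ofPred_eq]
  rw [orderOf_conj_eq, cent_conj_eq, normalizer_map_conj, mem_map_conj_iff]
  have e : u⁻¹ * (u * x * u⁻¹) * u = x := by group
  rw [e]
  constructor
  · rintro ⟨h1, h2, h3⟩
    refine ⟨fun h => h1 ?_, h2, h3⟩
    rw [h]; group
  · rintro ⟨h1, h2, h3⟩
    refine ⟨fun h => h1 ?_, h2, h3⟩
    have : a = u⁻¹ * (u * a * u⁻¹) * u := by group
    rw [this, h]; group

omit [Fintype F] in
theorem szTorSet_conj_card (u x : Sz F m) :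
    (szTorSet (u * x * u⁻¹)).ncard = (szTorSet x).ncard := by
  have h : szTorSet (u * x * u⁻¹) = (fun a => u * a * u⁻¹) '' szTorSet x := by
    ext a'
    constructor
    · intro ha'
      refine ⟨u⁻¹ * a' * u, ?_, by group⟩
      rw [← szTorSet_conj_mem u]
      have : u * (u⁻¹ * a' * u) * u⁻¹ = a' := by group
      rw [this]; exact ha'
    · rintro ⟨a, ha, rfl⟩
      exact (szTorSet_conj_mem u x a).2 ha
  rw [h]
  apply Set.ncard_image_of_injective
  intro a b hab
  simp only at hab
  exact mul_left_cancel (mul_right_cancel hab)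

omit [Fintype F] in
theorem szTorSet_inv (x : Sz F m) : szTorSet x⁻¹ = szTorSet x := by
  unfold szTorSet
  ext a
  simp only [Set.mem_ofPred_eq, Subgroup.inv_mem_iff]

/-- the norm map is injective -/
theorem sz_norm_inj (hF : Fintype.card F = 2 ^ (2 * m + 1)) {d e : F}
    (h : d * szT m d = e * szT m e) : d = e := by
  have hsurj : Function.Surjective (fun d : F => d * szT m d) := fun c => sz_norm_surj hF c
  exact (Finite.injective_iff_surjective.2 hsurj) h

/-- every element of the field is of the form `T s + s` or `T s + s + 1` -/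
theorem sz_artin_schreier (hF : Fintype.card F = 2 ^ (2 * m + 1)) (d : F) :
    ∃ s : F, d = szT m s + s ∨ d = szT m s + s + 1 := by
  classical
  have hchar := sz_charP hF
  let L : F →+ F :=
    { toFun := fun s => szT m s + s
      map_zero' := by simp [szT_zero]
      map_add' := fun x y => by rw [szT_add hF]; ring }
  have hL : ∀ s, L s = szT m s + s := fun s => rfl
  have hker : (L.ker : Set F) = {0, 1} := by
    ext s
    simp only [SetLike.mem_coe, AddMonoidHom.mem_ker, Set.mem_insert_iff, Set.mem_singleton_iff]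
    constructor
    · intro h
      rw [hL] at h
      have h1 : szT m s = s := by
        have : szT m s = szT m s + (s + s) := by rw [CharTwo.add_self_eq_zero, add_zero]
        rw [this, ← add_assoc, h, zero_add]
      exact szT_fixed hF h1
    · rintro (rfl | rfl)
      · rw [hL, szT_zero, add_zero]
      · rw [hL, szT_one, CharTwo.add_self_eq_zero]
  have hkc : Nat.card L.ker = 2 := by
    calc Nat.card L.ker = (L.ker : Set F).ncard := (Nat.card_coe_set_eq _)
      _ = 2 := by rw [hker, Set.ncard_pair zero_ne_one]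
  have h1 := AddSubgroup.card_eq_card_quotient_mul_card_addSubgroup L.ker
  rw [Nat.card_congr (QuotientAddGroup.quotientKerEquivRange L).toEquiv, hkc] at h1
  have h2 := AddSubgroup.index_mul_card L.range
  have hRpos : 0 < Nat.card L.range := Nat.card_pos
  have hidx : L.range.index = 2 := by
    rw [h1, mul_comm] at h2
    exact Nat.eq_of_mul_eq_mul_left hRpos h2
  have h1R : (1 : F) ∉ L.range := by
    rintro ⟨s, hs⟩
    rw [hL] at hs
    have h3 := congrArg (szT m) hs
    rw [szT_add hF, szT_szT hF, szT_one] at h3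
    have h4 : s * (s - 1) = 0 := by linear_combination h3 - hs
    have h5 : szT m s + s = 0 := by
      rcases mul_eq_zero.1 h4 with h | h
      · rw [h, szT_zero, add_zero]
      · have : s = 1 := by linear_combination h
        rw [this, szT_one, CharTwo.add_self_eq_zero]
    rw [h5] at hs
    exact zero_ne_one hs
  by_cases hd : d ∈ L.range
  · obtain ⟨s, hs⟩ := hd
    exact ⟨s, Or.inl hs.symm⟩
  · have h3 : d + 1 ∈ L.range :=
      (AddSubgroup.add_mem_iff_of_index_two hidx (a := d) (b := 1)).2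
        ⟨fun h => absurd h hd, fun h => absurd h h1R⟩
    obtain ⟨s, hs⟩ := h3
    refine ⟨s, Or.inr ?_⟩
    rw [← hL, hs, add_assoc, CharTwo.add_self_eq_zero, add_zero]

/-- the square roots of a central involution -/
theorem sz_sqrt_central (hm : 1 ≤ m) (hF : Fintype.card F = 2 ^ (2 * m + 1)) {a₀ : F}
    (ha₀ : a₀ ≠ 0) (y : Sz F m) :
    y * y = szUc hF (a₀ * szT m a₀) ↔ ∃ b' : F, y = (szUM hF a₀ b' : Sz F m) := by
  have hc₀ : a₀ * szT m a₀ ≠ 0 := mul_ne_zero ha₀ (fun h => ha₀ (szT_eq_zero.1 h))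
  constructor
  · intro hyy
    have hcomm : y * szUc hF (a₀ * szT m a₀) = szUc hF (a₀ * szT m a₀) * y := by
      rw [← hyy]; group
    have hyU := sz_cent_central_invol hm hF hc₀ y hcomm
    obtain ⟨a', b', hab⟩ := szUM_surj hF ⟨y, hyU⟩
    have hy : y = (szUM hF a' b' : Sz F m) := congrArg Subtype.val hab
    rw [hy, ← Subgroup.coe_mul, szUM_sq, szUc_eq_szUM] at hyy
    have h1 := (szUM_inj hF (Subtype.ext hyy)).2
    have h2 := sz_norm_inj hF h1
    exact ⟨b', by rw [hy, h2]⟩
  · rintro ⟨b', rfl⟩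
    rw [← Subgroup.coe_mul, szUM_sq, szUc_eq_szUM]

/-- the torus sets of the square roots of a central involution all have the same size -/
theorem szTorSet_card_eq (hm : 1 ≤ m) (hF : Fintype.card F = 2 ^ (2 * m + 1)) {a₀ : F}
    (ha₀ : a₀ ≠ 0) (b₀ b' : F) :
    (szTorSet (szUM hF a₀ b' : Sz F m)).ncard = (szTorSet (szUM hF a₀ b₀ : Sz F m)).ncard := by
  have hchar := sz_charP hF
  have hc₀ : a₀ * szT m a₀ ≠ 0 := mul_ne_zero ha₀ (fun h => ha₀ (szT_eq_zero.1 h))
  have hconj : ∀ s b : F, (szUM hF (a₀ * s) 0 : Sz F m) * (szUM hF a₀ b : Sz F m) *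
      (szUM hF (a₀ * s) 0 : Sz F m)⁻¹ =
      (szUM hF a₀ (b + a₀ * szT m a₀ * (szT m s + s)) : Sz F m) := by
    intro s b
    have h1 : szUM (m := m) hF (a₀ * s) 0 * szUM hF a₀ b =
        szUM hF a₀ (b + a₀ * szT m a₀ * (szT m s + s)) * szUM hF (a₀ * s) 0 := by
      rw [szUM_mul, szUM_mul, szT_mul]
      congr 1
      · ring
      · generalize szT m a₀ = A
        generalize szT m s = S
        have e : a₀ * A * s + a₀ * A * s = 0 := CharTwo.add_self_eq_zero _
        linear_combination (-1 : F) * e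
    rw [← Subgroup.coe_mul, h1, Subgroup.coe_mul, mul_inv_cancel_right]
  have hinv : ∀ b : F, (szUM hF a₀ b : Sz F m)⁻¹ = (szUM hF a₀ (b + a₀ * szT m a₀) : Sz F m) := by
    intro b
    apply inv_eq_of_mul_eq_one_right
    rw [← Subgroup.coe_mul, szUM_mul]
    have e1 : a₀ + a₀ = 0 := CharTwo.add_self_eq_zero a₀
    have e2 : b + (b + a₀ * szT m a₀) + szT m a₀ * a₀ = 0 := by
      have : b + (b + a₀ * szT m a₀) + szT m a₀ * a₀ = (b + b) + (a₀ * szT m a₀ + a₀ * szT m a₀) := by
        ring
      rw [this, CharTwo.add_self_eq_zero, CharTwo.add_self_eq_zero, add_zero]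
    rw [e1, e2, szUM_zero]; rfl
  obtain ⟨s, hs | hs⟩ := sz_artin_schreier (m := m) hF ((b' + b₀) / (a₀ * szT m a₀))
  · have hb' : b' = b₀ + a₀ * szT m a₀ * (szT m s + s) := by
      have h1 : b' + b₀ = a₀ * szT m a₀ * (szT m s + s) := by
        rw [← hs, mul_div_cancel₀ _ hc₀]
      have h2 : b' = (b' + b₀) + b₀ := by
        rw [add_assoc, CharTwo.add_self_eq_zero, add_zero]
      rw [h2, h1]; ring
    rw [hb', ← hconj s b₀, szTorSet_conj_card]
  · have hb' : b' = b₀ + a₀ * szT m a₀ + a₀ * szT m a₀ * (szT m s + s) := by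
      have h1 : b' + b₀ = a₀ * szT m a₀ * (szT m s + s + 1) := by
        rw [← hs, mul_div_cancel₀ _ hc₀]
      have h2 : b' = (b' + b₀) + b₀ := by
        rw [add_assoc, CharTwo.add_self_eq_zero, add_zero]
      rw [h2, h1]; ring
    rw [hb', ← hconj s (b₀ + a₀ * szT m a₀), szTorSet_conj_card, ← hinv, szTorSet_inv]

end

end Cfsg.Agent.H8
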