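import Cfsg.Agent.H68.U3ODefs
import Cfsg.Agent.H77.ZsigCor

/-!
# S2786 O-ZSIG (helper8 for helper68; clone of helper36's U3FZsig with base `p`):
a primitive prime divisor of `p^(6n) - 1` divides `DDo p n`
-/

set_option autoImplicit false

namespace Cfsg.Agent.H8.U3O

/-- [O-ZSIG] a primitive prime divisor of `p^(6n) - 1` divides `DDo p n`. -/
theorem zsigO : Cfsg.Agent.H68.U3O.StZsigO := by
  intro p n hpp hp2 hn
  have hp3 : 3 ≤ p := by
    have := hpp.two_le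
    omega
  obtain ⟨r, hr, hrd, hprim⟩ :=
    Cfsg.Agent.H77.exists_isPrimPrime (a := p) (n := 6 * n) (by omega) (by omega) (by omega)
  have hq1 : 1 ≤ p ^ n := Nat.one_le_pow _ _ (by omega)
  obtain ⟨q, hq⟩ : ∃ q : ℕ, p ^ n = q + 1 := ⟨p ^ n - 1, by omega⟩
  -- rewrite the relevant powers of `p` in terms of `q + 1`
  have h6 : p ^ (6 * n) = (q + 1) ^ 6 := by rw [← hq, ← pow_mul, mul_comm]
  have h3 : p ^ (3 * n) = (q + 1) ^ 3 := by rw [← hq, ← pow_mul, mul_comm]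
  have h2 : p ^ (2 * n) = (q + 1) ^ 2 := by rw [← hq, ← pow_mul, mul_comm]
  have e6 : p ^ (6 * n) - 1 = (p ^ (3 * n) - 1) * ((q + 1) ^ 3 + 1) := by
    rw [h6, h3]
    have a1 : (q + 1) ^ 6 = ((q + 1) ^ 3 - 1) * ((q + 1) ^ 3 + 1) + 1 := by
      obtain ⟨m, hm⟩ : ∃ m : ℕ, (q + 1) ^ 3 = m + 1 := ⟨(q + 1) ^ 3 - 1, by
        have : 1 ≤ (q + 1) ^ 3 := Nat.one_le_pow _ _ (by omega)
        omega⟩
      have : (q + 1) ^ 6 = ((q + 1) ^ 3) ^ 2 := by ring
      rw [this, hm]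
      simp only [Nat.add_sub_cancel]
      ring
    omega
  have e3 : (q + 1) ^ 3 + 1 = (q + 2) * (q ^ 2 + q + 1) := by ring
  have e2 : p ^ (2 * n) - 1 = (q + 2) * q := by
    rw [h2]
    have : (q + 1) ^ 2 = (q + 2) * q + 1 := by ring
    omega
  have eD : (p ^ n) ^ 2 - p ^ n + 1 = q ^ 2 + q + 1 := by
    rw [hq]
    have : (q + 1) ^ 2 = q ^ 2 + q + (q + 1) := by ring
    omega
  have hr3n : ¬ r ∣ p ^ (3 * n) - 1 := hprim (3 * n) (by omega) (by omega)
  have hr2n : ¬ r ∣ p ^ (2 * n) - 1 := hprim (2 * n) (by omega) (by omega)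
  have hr2 : ¬ r ∣ p ^ 2 - 1 := hprim 2 (by omega) (by omega)
  have h1le : 1 ≤ p ^ (6 * n) := Nat.one_le_pow _ _ (by omega)
  have hrnp : ¬ r ∣ p := by
    intro h
    have h' : r ∣ p ^ (6 * n) := dvd_pow h (by omega)
    have h1 : r ∣ 1 := by
      have := (Nat.dvd_sub h' hrd)
      rwa [Nat.sub_sub_self h1le] at this
    exact hr.one_lt.ne' (Nat.dvd_one.1 h1)
  have hrne3 : r ≠ 3 := by
    rintro rfl
    have h3 : p % 3 = 1 ∨ p % 3 = 2 := by
      have : ¬ 3 ∣ p := hrnp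
      omega
    have h4 : p ^ 2 % 3 = 1 := by
      rw [Nat.pow_mod]
      rcases h3 with h | h <;> rw [h] <;> norm_num
    have h5 : 1 ≤ p ^ 2 := Nat.one_le_pow _ _ (by omega)
    exact hr2 (by omega)
  have hrne2 : r ≠ p := by
    rintro rfl
    exact hrnp (dvd_refl _)
  -- `r ∣ q^2 + q + 1`
  have hrq : r ∣ q ^ 2 + q + 1 := by
    rw [e6] at hrd
    rcases (Nat.Prime.dvd_mul hr).1 hrd with h | h
    · exact absurd h hr3n
    · rw [e3] at h
      rcases (Nat.Prime.dvd_mul hr).1 h with h' | h'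
      · exact absurd (by rw [e2]; exact Dvd.dvd.mul_right h' q) hr2n
      · exact h'
  -- the gcd divides `q^2 + q + 1`
  have hd3 : Nat.gcd 3 (p ^ n + 1) ∣ 3 := Nat.gcd_dvd_left _ _
  have hdq : Nat.gcd 3 (p ^ n + 1) ∣ q ^ 2 + q + 1 := by
    have hd : Nat.gcd 3 (p ^ n + 1) = 1 ∨ Nat.gcd 3 (p ^ n + 1) = 3 :=
      (Nat.dvd_prime Nat.prime_three).1 hd3
    rcases hd with hd | hd
    · rw [hd]; exact one_dvd _
    · have h3q : 3 ∣ q + 2 := by
        have := Nat.gcd_dvd_right 3 (p ^ n + 1)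
        rw [hd, hq] at this
        exact this
      rw [hd]
      obtain ⟨t, ht⟩ := h3q
      have hq' : q = 3 * t - 2 := by omega
      have ht1 : 1 ≤ t := by omega
      obtain ⟨s, rfl⟩ : ∃ s : ℕ, t = s + 1 := ⟨t - 1, by omega⟩
      have hq'' : q = 3 * s + 1 := by omega
      subst hq''
      exact ⟨3 * s ^ 2 + 3 * s + 1, by ring⟩
  have hcop : Nat.Coprime r (Nat.gcd 3 (p ^ n + 1)) := by
    rw [Nat.Prime.coprime_iff_not_dvd hr]
    intro h
    have h3 : r ∣ 3 := h.trans hd3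
    rcases (Nat.dvd_prime Nat.prime_three).1 h3 with h1 | h1
    · exact hr.one_lt.ne' h1
    · exact hrne3 h1
  refine ⟨r, hr, hrne2, ?_, ?_⟩
  · unfold Cfsg.Agent.H68.U3O.DDo
    rw [eD]
    obtain ⟨t, ht⟩ := hdq
    rw [ht, Nat.mul_div_cancel_left _ (Nat.pos_of_ne_zero (by
      intro h0
      rw [h0] at hd3
      omega))]
    rw [ht] at hrq
    exact hcop.dvd_of_dvd_mul_left hrq
  · intro e he hdvd
    by_contra hlt
    exact hprim e he (by omega) (by simpa using hdvd)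

example : Cfsg.Agent.H68.U3O.StZsigO := zsigO

end Cfsg.Agent.H8.U3O


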