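import Mathlib
import Cfsg.Agent.H62.PSU3d

set_option autoImplicit false
set_option linter.unusedVariables false

/-! The key field lemma for the odd-characteristic unitary trace problem (S2786):
for an involutive field automorphism `σ` with surjective norm, `c` with `σ c = -c ≠ 0` and
`a` with `σ a ≠ a`, there are `σ`-fixed `x y e`, `x y ≠ 0`, with
`x * y * (x + y - e) = (a - 3 - e) * (σ a - 3 - e)`. -/

namespace Cfsg.Agent.H8.U3P

universe u

theorem exists_theta {F : Type*} [Field F] (σ : F →+* F) (hσ : ∀ x, σ (σ x) = x)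
    (h2 : (2 : F) ≠ 0) (c : F) (hc : c ≠ 0) (hcσ : σ c = -c) :
    ∃ θ θb : F, σ θ = θb ∧ σ θb = θ ∧ θ * θb = 1 ∧ θ - θb ≠ 0 ∧ 2 + θ + θb ≠ 0 := by
  have h1 : 1 - c ≠ 0 := by
    intro h
    have hc1 : c = 1 := by linear_combination -h
    rw [hc1, map_one] at hcσ
    apply h2
    linear_combination hcσ
  have h1' : 1 + c ≠ 0 := by
    intro h
    have hc1 : c = -1 := by linear_combination h
    rw [hc1, map_neg, map_one] at hcσ
    apply h2
    linear_combination -hcσ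
  have h4 : (4 : F) ≠ 0 := by
    have : (4 : F) = 2 * 2 := by norm_num
    rw [this]; exact mul_ne_zero h2 h2
  have hσθ : σ ((1 + c) / (1 - c)) = (1 - c) / (1 + c) := by
    rw [map_div₀, map_add, map_sub, map_one, hcσ, sub_neg_eq_add, ← sub_eq_add_neg]
  refine ⟨(1 + c) / (1 - c), (1 - c) / (1 + c), hσθ, ?_, ?_, ?_, ?_⟩
  · rw [← hσθ, hσ]
  · field_simp
  · have e : (1 + c) / (1 - c) - (1 - c) / (1 + c) = 4 * c / ((1 - c) * (1 + c)) := by
      field_simp; ring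
    rw [e]
    exact div_ne_zero (mul_ne_zero h4 hc) (mul_ne_zero h1 h1')
  · have e : 2 + (1 + c) / (1 - c) + (1 - c) / (1 + c) = 4 / ((1 - c) * (1 + c)) := by
      field_simp; ring
    rw [e]
    exact div_ne_zero h4 (mul_ne_zero h1 h1')

theorem gram_poly {F : Type*} [Field F] (x y θ θb u A Ab : F) (hθ : θ * θb = 1)
    (hkey : (x + θ * y + u * (1 + θ)) * (x + θb * y + u * (1 + θb)) =
      u * (1 + θ) * (u * (1 + θb)) - (A + (2 - θ - θb)) * (Ab + (2 - θ - θb)))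
    (hus : u * (2 + θ + θb) = -(A + Ab + 2 * (2 - θ - θb))) :
    x * y * (2 - θ - θb) =
      (A - (x + y - (2 - θ - θb))) * (Ab - (x + y - (2 - θ - θb))) := by
  linear_combination (-1 : F) * hkey + (y ^ 2 + 2 * u * y) * hθ + (x + y) * hus

/-- the abstract form -/
theorem gram_abs {F : Type*} [Field F] (σ : F →+* F) (hσ : ∀ x, σ (σ x) = x)
    (h2 : (2 : F) ≠ 0) (hN : ∀ t : F, σ t = t → ∃ z : F, z * σ z = t) (c a : F) (hc : c ≠ 0)
    (hcσ : σ c = -c) (ha : σ a ≠ a) :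
    ∃ x y e : F, σ x = x ∧ σ y = y ∧ σ e = e ∧ x ≠ 0 ∧ y ≠ 0 ∧
      x * y * (x + y - e) = (a - 3 - e) * (σ a - 3 - e) := by
  obtain ⟨θ, θb, hσθ, hσθb, hθθb, hd, hs⟩ := exists_theta σ hσ h2 c hc hcσ
  obtain ⟨A, hA⟩ : ∃ A : F, A = a - 3 := ⟨_, rfl⟩
  obtain ⟨Ab, hAb⟩ : ∃ Ab : F, Ab = σ a - 3 := ⟨_, rfl⟩
  have hσA : σ A = Ab := by rw [hA, map_sub, map_ofNat, hAb]
  have hσAb : σ Ab = A := by rw [← hσA, hσ]
  obtain ⟨u, hus⟩ : ∃ u : F, u * (2 + θ + θb) = -(A + Ab + 2 * (2 - θ - θb)) :=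
    ⟨_ / _, div_mul_cancel₀ _ hs⟩
  have hσu : σ u = u := by
    have h := congrArg σ hus
    rw [map_mul, map_add, map_add, map_ofNat, hσθ, hσθb, map_neg, map_add, map_add, hσA, hσAb,
      map_mul, map_sub, map_sub, map_ofNat, hσθ, hσθb] at h
    have h' : (σ u - u) * (2 + θ + θb) = 0 := by linear_combination h - hus
    rcases mul_eq_zero.1 h' with h0 | h0
    · exact sub_eq_zero.1 h0
    · exact absurd h0 hs
  obtain ⟨E, hE⟩ : ∃ E : F, E = u * (1 + θ) * (u * (1 + θb)) -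
      (A + (2 - θ - θb)) * (Ab + (2 - θ - θb)) := ⟨_, rfl⟩
  have hσE : σ E = E := by
    rw [hE]
    simp only [map_sub, map_mul, map_add, map_one, map_ofNat, hσu, hσθ, hσθb, hσA, hσAb]
    ring
  obtain ⟨η, hη⟩ := hN E hσE
  obtain ⟨ζ, hζ⟩ : ∃ ζ : F, ζ = η - u * (1 + θ) := ⟨_, rfl⟩
  obtain ⟨y, hyd⟩ : ∃ y : F, y * (θ - θb) = ζ - σ ζ := ⟨_ / _, div_mul_cancel₀ _ hd⟩
  have hσy : σ y = y := by
    have h := congrArg σ hyd
    rw [map_mul, map_sub, map_sub, hσθ, hσθb, hσ] at h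
    have h' : (σ y - y) * (θ - θb) = 0 := by linear_combination -h - hyd
    rcases mul_eq_zero.1 h' with h0 | h0
    · exact sub_eq_zero.1 h0
    · exact absurd h0 hd
  obtain ⟨x, hx⟩ : ∃ x : F, x = ζ - θ * y := ⟨_, rfl⟩
  have hσx : σ x = x := by
    rw [hx, map_sub, map_mul, hσθ, hσy]
    linear_combination hyd
  have e1 : x + θ * y + u * (1 + θ) = η := by rw [hx, hζ]; ring
  have e2 : x + θb * y + u * (1 + θb) = σ η := by
    have h := congrArg σ e1
    rw [map_add, map_add, map_mul, map_mul, map_add, map_one, hσx, hσy, hσθ, hσu] at h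
    exact h
  have hkey : (x + θ * y + u * (1 + θ)) * (x + θb * y + u * (1 + θb)) =
      u * (1 + θ) * (u * (1 + θb)) - (A + (2 - θ - θb)) * (Ab + (2 - θ - θb)) := by
    rw [e1, e2, hη, hE]
  have hmain := gram_poly x y θ θb u A Ab hθθb hkey hus
  obtain ⟨e, he⟩ : ∃ e : F, e = x + y - (2 - θ - θb) := ⟨_, rfl⟩
  have hσe : σ e = e := by
    rw [he]
    simp only [map_sub, map_add, map_ofNat, hσx, hσy, hσθ, hσθb]
    ring
  rw [← he] at hmain
  have hxye : x + y - e = 2 - θ - θb := by rw [he]; ring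
  have hAe : A - e ≠ 0 := by
    intro h
    apply ha
    have h1 : a = 3 + e := by rw [hA] at h; linear_combination h
    rw [h1, map_add, map_ofNat, hσe]
  have hAbe : Ab - e ≠ 0 := by
    intro h
    apply ha
    have h1 : σ a = 3 + e := by rw [hAb] at h; linear_combination h
    have h2' : a = 3 + e := by
      have := congrArg σ h1
      rw [hσ, map_add, map_ofNat, hσe] at this
      exact this
    rw [h1, h2']
  have hne : x * y * (2 - θ - θb) ≠ 0 := by rw [hmain]; exact mul_ne_zero hAe hAbe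
  refine ⟨x, y, e, hσx, hσy, hσe, ?_, ?_, ?_⟩
  · intro h; apply hne; rw [h]; ring
  · intro h; apply hne; rw [h]; ring
  · rw [hxye, hmain, hA, hAb]

/-- **GRAMEQ** over the finite field with `(p^n)^2` elements, `p` odd -/
theorem gramEq (F : Type u) [Field F] [Fintype F] (p : ℕ) [Fact p.Prime] [CharP F p] (n : ℕ)
    (hp : p ≠ 2) (hn : 1 ≤ n) (hF : Fintype.card F = (p ^ n) ^ 2) (c a : F) (hc : c ≠ 0)
    (hcq : c ^ (p ^ n) = -c) (haq : a ^ (p ^ n) ≠ a) :
    ∃ x y e : F, x ^ (p ^ n) = x ∧ y ^ (p ^ n) = y ∧ e ^ (p ^ n) = e ∧ x ≠ 0 ∧ y ≠ 0 ∧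
      x * y * (x + y - e) = (a - 3 - e) * (a ^ (p ^ n) - 3 - e) := by
  have hpp : p.Prime := Fact.out
  have hq2 : 2 ≤ p ^ n := by
    calc 2 ≤ p := hpp.two_le
      _ = p ^ 1 := (pow_one p).symm
      _ ≤ p ^ n := Nat.pow_le_pow_right hpp.pos hn
  have hσdef : ∀ x : F, iterateFrobenius F p n x = x ^ (p ^ n) := fun x => by
    rw [iterateFrobenius_def]
  have hσ : ∀ x : F, iterateFrobenius F p n (iterateFrobenius F p n x) = x := fun x => by
    rw [hσdef, hσdef, ← pow_mul, ← sq, ← hF]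
    exact FiniteField.pow_card x
  have h2 : (2 : F) ≠ 0 := by
    intro h
    have h2' : ((2 : ℕ) : F) = 0 := by exact_mod_cast h
    rw [CharP.cast_eq_zero_iff F p] at h2'
    exact hp ((Nat.prime_dvd_prime_iff_eq hpp Nat.prime_two).1 h2')
  have hN : ∀ t : F, iterateFrobenius F p n t = t → ∃ z : F, z * iterateFrobenius F p n z = t := by
    intro t ht
    rw [hσdef] at ht
    obtain ⟨z, hz⟩ := Cfsg.Agent.H62.ff_norm_surj (p ^ n) hq2 hF t ht
    exact ⟨z, by rw [hσdef, ← pow_succ']; exact hz⟩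
  obtain ⟨x, y, e, hx, hy, he, hx0, hy0, h⟩ := gram_abs (iterateFrobenius F p n) hσ h2 hN c a hc
    (by rw [hσdef]; exact hcq) (by rw [hσdef]; exact haq)
  refine ⟨x, y, e, ?_, ?_, ?_, hx0, hy0, ?_⟩
  · rw [← hσdef]; exact hx
  · rw [← hσdef]; exact hy
  · rw [← hσdef]; exact he
  · rw [← hσdef]; exact h

end Cfsg.Agent.H8.U3P
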